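import Cfsg.Agent.Cores.FixingSylow
import Cfsg.Agent.H29.AbTwo.Orders
import Cfsg.Agent.H62.CoprimeFix
import Cfsg.Agent.S1225

/-!
# Elementary abelian Sylow 2-subgroups with small fusion

If the automorphisms induced on an elementary abelian Sylow 2-subgroup are few and fix few points,
the group is the product of its odd core and the normalizer of the Sylow subgroup.
-/

set_option autoImplicit false
set_option linter.unusedSectionVars false
set_option linter.style.haveILetI false

namespace Cfsg.Agent.H82.ConstDiff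

open Subgroup

universe u

variable {X : Type u} [Group X] [Finite X]

/-- The subgroups of the normalizer acting nontrivially are small and fix few points. -/
def SmallFusion (P : Sylow 2 X) : Prop :=
  ∀ B : Subgroup X, B ≤ normalizer ((P : Subgroup X) : Set X) →
    ¬ B ≤ centralizer ((P : Subgroup X) : Set X) →
    8 * Nat.card ↥((P : Subgroup X) ⊓ centralizer (B : Set X)) ≤ Nat.card (P : Subgroup X) ∧
      ((centralizer ((P : Subgroup X) : Set X)).relIndex B + 1) *
        Nat.card ↥((P : Subgroup X) ⊓ centralizer (B : Set X)) < Nat.card (P : Subgroup X)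

theorem isMulCommutative_of_el (P : Sylow 2 X) (hel : ∀ a ∈ (P : Subgroup X), a ^ 2 = 1) :
    IsMulCommutative (P : Subgroup X) := by
  refine ⟨⟨fun a b => ?_⟩⟩
  have h : ∀ c : (P : Subgroup X), c⁻¹ = c := fun c =>
    inv_eq_of_mul_eq_one_right (Subtype.ext (by simpa [sq] using hel c c.2))
  calc a * b = (a * b)⁻¹ := (h _).symm
    _ = b⁻¹ * a⁻¹ := mul_inv_rev a b
    _ = b * a := by rw [h, h]

theorem orderOf_eq_two {P : Sylow 2 X} (hel : ∀ a ∈ (P : Subgroup X), a ^ 2 = 1) {a : X}
    (ha : a ∈ (P : Subgroup X)) (ha1 : a ≠ 1) : orderOf a = 2 :=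
  haveI : Fact (Nat.Prime 2) := ⟨Nat.prime_two⟩
  orderOf_eq_prime (hel a ha) ha1

/-- An element of odd order in the product of the odd core and a `2`-subgroup lies in the core. -/
theorem mem_core_of_odd {S : Subgroup X} (hS : IsPGroup 2 S) {t : X} (ht : Odd (orderOf t))
    (h : t ∈ pPrimeCore 2 X ⊔ S) : t ∈ pPrimeCore 2 X := by
  haveI : (pPrimeCore 2 X).Characteristic := Cores.pPrimeCore_characteristic
  obtain ⟨k, hk, a, ha, e⟩ := mem_sup_of_normal_left.1 h
  set π := QuotientGroup.mk' (pPrimeCore 2 X)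
  have hπ : π t = π a := by
    rw [← e, map_mul, show π k = 1 from (QuotientGroup.eq_one_iff k).2 hk, one_mul]
  obtain ⟨j, hj⟩ := IsPGroup.iff_orderOf.1 hS ⟨a, ha⟩
  rw [Subgroup.orderOf_mk] at hj
  have h1 : orderOf (π t) ∣ 2 ^ j := by rw [hπ, ← hj]; exact orderOf_map_dvd π a
  have h2 : Nat.Coprime (orderOf (π t)) (2 ^ j) :=
    (Nat.coprime_two_right.2 (ht.of_dvd_nat (orderOf_map_dvd π t))).pow_right j
  exact (QuotientGroup.eq_one_iff t).1
    (orderOf_eq_one_iff.1 (h2.eq_one_of_dvd h1))

/-- An odd subgroup normalized by a supplement of the odd core lies in the odd core. -/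
theorem le_core_of_supplement {N K : Subgroup X} (hX : pPrimeCore 2 X ⊔ N = ⊤)
    (hK : Odd (Nat.card K)) (hN : N ≤ normalizer (K : Set X)) : K ≤ pPrimeCore 2 X := by
  haveI : (pPrimeCore 2 X).Characteristic := Cores.pPrimeCore_characteristic
  set O := pPrimeCore 2 X
  haveI : (O ⊔ K).Normal := by
    rw [← normalizer_eq_top_iff, eq_top_iff, ← hX]
    refine sup_le (le_sup_left.trans le_normalizer) fun n hn => ?_
    rw [mem_normalizer_iff_map_conj_eq, Subgroup.map_sup,
      mem_normalizer_iff_map_conj_eq.1 (hN hn),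
      mem_normalizer_iff_map_conj_eq.1 (normalizer_eq_top (H := O) ▸ mem_top n)]
  refine le_sup_right.trans (Cores.le_pPrimeCore (N := O ⊔ K) (Nat.coprime_two_right.2 ?_))
  have h1 := relIndex_mul_relIndex (⊥ : Subgroup X) O (O ⊔ K) bot_le le_sup_left
  rw [relIndex_bot_left, relIndex_bot_left, sup_comm O K, relIndex_sup_right] at h1
  rw [sup_comm, ← h1]
  refine (Cores.odd_card_oddCore (G := X)).mul (hK.of_dvd_nat ?_)
  exact relIndex_dvd_card O K

section Structure

variable (P : Sylow 2 X) (hel : ∀ a ∈ (P : Subgroup X), a ^ 2 = 1)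
  (hX : pPrimeCore 2 X ⊔ normalizer ((P : Subgroup X) : Set X) = ⊤)

include hX in
theorem normal_core_sup_sylow : (pPrimeCore 2 X ⊔ (P : Subgroup X)).Normal := by
  haveI : (pPrimeCore 2 X).Characteristic := Cores.pPrimeCore_characteristic
  rw [← normalizer_eq_top_iff, eq_top_iff, ← hX]
  refine sup_le (le_sup_left.trans le_normalizer) fun n hn => ?_
  rw [mem_normalizer_iff_map_conj_eq, Subgroup.map_sup, mem_normalizer_iff_map_conj_eq.1 hn,
    mem_normalizer_iff_map_conj_eq.1 (normalizer_eq_top (H := pPrimeCore 2 X) ▸ mem_top n)]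

include hel hX in
theorem centralizer_sylow_le : centralizer ((P : Subgroup X) : Set X) ≤ pPrimeCore 2 X ⊔ (P : Subgroup X) := by
  haveI : Fact (Nat.Prime 2) := ⟨Nat.prime_two⟩
  haveI := isMulCommutative_of_el P hel
  set C := centralizer ((P : Subgroup X) : Set X)
  have hPC : (P : Subgroup X) ≤ C := fun y hy =>
    mem_centralizer_iff.2 fun z hz => H86.Abelian.mul_comm_sylow P hz hy
  set Q := P.subtype hPC
  have hn : normalizer ((Q : Subgroup C) : Set C) ≤ centralizer ((Q : Subgroup C) : Set C) :=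
    fun c _ => mem_centralizer_iff.2 fun y hy =>
      Subtype.ext (mem_centralizer_iff.1 c.2 (y : X) hy)
  obtain ⟨Q', K, hKn, hc⟩ := Fusion.hasNormalPComplement_of_normalizer_le_centralizer Q hn
  haveI := hKn
  have hKodd : Odd (Nat.card K) := by
    rw [← Nat.not_even_iff_odd, even_iff_two_dvd]
    exact Fusion.not_dvd_card_of_isComplement' Q' hc
  have hcore : K ≤ oddCore C := Cores.le_oddCore hKodd
  have hKX : Cores.coreC (P : Subgroup X) ≤ pPrimeCore 2 X := by
    refine le_core_of_supplement hX (Cores.odd_card_coreC _) fun n hn => ?_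
    have key : ∀ m ∈ normalizer ((P : Subgroup X) : Set X), ∀ x ∈ Cores.coreC (P : Subgroup X),
        m * x * m⁻¹ ∈ Cores.coreC (P : Subgroup X) := fun m hm x hx => by
      have := Cores.conj_mem_coreC m hx
      rwa [Cores.conjMap_eq_of_mem_normalizer hm] at this
    refine mem_normalizer_iff.2 fun x => ⟨key n hn x, fun h => ?_⟩
    simpa [mul_assoc] using key n⁻¹ (inv_mem hn) _ h
  intro c hc'
  obtain ⟨⟨k, y⟩, hky⟩ := hc.2 ⟨c, hc'⟩
  have hy : ((y : C) : X) ∈ (P : Subgroup X) := by
    have hz : IsPGroup 2 (zpowers ((y : C) : X)) := by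
      obtain ⟨j, hj⟩ := IsPGroup.iff_orderOf.1 Q'.isPGroup' y
      exact IsPGroup.of_card (n := j) (by rw [Nat.card_zpowers, Subgroup.orderOf_coe, Subgroup.orderOf_coe, hj])
    exact ((hz.inf_normalizer_sylow P).le ⟨mem_zpowers _,
      centralizer_le_normalizer _ (y : C).2⟩).2
  have h1 : c = ((k : C) : X) * ((y : C) : X) := (congrArg Subtype.val hky).symm
  rw [h1]
  exact mul_mem (mem_sup_left (hKX ⟨(k : C), hcore k.2, rfl⟩)) (mem_sup_right hy)

include hel hX in
theorem mem_core_of_comm_mod {d : X} (hd : Odd (orderOf d))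
    (h : ∀ w ∈ (P : Subgroup X), d * w * d⁻¹ * w⁻¹ ∈ pPrimeCore 2 X) : d ∈ pPrimeCore 2 X := by
  haveI : Fact (Nat.Prime 2) := ⟨Nat.prime_two⟩
  haveI : (pPrimeCore 2 X).Characteristic := Cores.pPrimeCore_characteristic
  haveI := isMulCommutative_of_el P hel
  set O := pPrimeCore 2 X
  refine mem_core_of_odd P.isPGroup' hd ?_
  obtain ⟨o, ho, n, hn, e⟩ := mem_sup_of_normal_left.1 (hX ▸ mem_top d)
  have hnC : n ∈ centralizer ((P : Subgroup X) : Set X) := by
    refine mem_centralizer_iff.2 fun w hw => ?_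
    have h1 : n * w * n⁻¹ * w⁻¹ ∈ O := by
      have h2 : (QuotientGroup.mk' O) (n * w * n⁻¹ * w⁻¹) = 1 := by
        have h3 : (QuotientGroup.mk' O) (d * w * d⁻¹ * w⁻¹) = 1 := (QuotientGroup.eq_one_iff _).2 (h w hw)
        rw [← e] at h3
        simpa [map_mul, (QuotientGroup.eq_one_iff o).2 ho] using h3
      exact (QuotientGroup.eq_one_iff _).1 h2
    have h4 := H29.AbTwo.eq_one_of_odd_sylow (Cores.odd_card_oddCore (G := X)) h1
      (mul_mem ((mem_normalizer_iff.1 hn w).1 hw) (inv_mem hw))
    exact (mul_inv_eq_iff_eq_mul.1 (mul_inv_eq_one.1 h4)).symm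
  rw [← e]
  exact mul_mem (mem_sup_left ho) (centralizer_sylow_le P hel hX hnC)

end Structure

/-- Elements normalizing a subgroup of the Sylow subgroup are products with the normalizer of the
Sylow subgroup. -/
theorem frattini_fix (P : Sylow 2 X) {V : Subgroup X}
    (hPV : (P : Subgroup X) ≤ centralizer (V : Set X)) {g : X} (hg : g ∈ normalizer (V : Set X)) :
    ∃ c ∈ centralizer (V : Set X), c * g ∈ normalizer ((P : Subgroup X) : Set X) := by
  haveI : Fact (Nat.Prime 2) := ⟨Nat.prime_two⟩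
  set C := centralizer (V : Set X)
  have hgC : ∀ y ∈ C, g * y * g⁻¹ ∈ C := by
    intro y hy
    refine mem_centralizer_iff.2 fun v hv => ?_
    have hv' : g⁻¹ * v * g ∈ V := by
      have := (mem_normalizer_iff.1 (inv_mem hg) v).1 hv
      rwa [inv_inv] at this
    have h := mem_centralizer_iff.1 hy _ hv'
    calc v * (g * y * g⁻¹) = g * (g⁻¹ * v * g * y) * g⁻¹ := by group
      _ = g * (y * (g⁻¹ * v * g)) * g⁻¹ := by rw [h]
      _ = _ := by group
  have hgP : ((g • P : Sylow 2 X) : Subgroup X) ≤ C := by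
    intro x hx
    obtain ⟨y, hy, rfl⟩ := (Sylow.coe_subgroup_smul (g := g) (P := P)) ▸ hx
    exact hgC y (hPV hy)
  obtain ⟨c, hc⟩ := MulAction.exists_smul_eq C ((g • P).subtype hgP) (P.subtype hPV)
  rw [Sylow.smul_subtype] at hc
  refine ⟨c, c.2, Sylow.smul_eq_iff_mem_normalizer.1 ?_⟩
  rw [mul_smul]
  exact Sylow.subtype_injective hc

theorem aux : ∀ n : ℕ, ∀ (X : Type u) [Group X] [Finite X] (P : Sylow 2 X), Nat.card X = n →
    (∀ a ∈ (P : Subgroup X), a ^ 2 = 1) → SmallFusion P →
      pPrimeCore 2 X ⊔ normalizer ((P : Subgroup X) : Set X) = ⊤ := by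
  intro n
  induction n using Nat.strong_induction_on with
  | _ n ih =>
  intro X _ _ P hcardX hel hsf
  classical
  haveI : Fact (Nat.Prime 2) := ⟨Nat.prime_two⟩
  haveI hOc : (pPrimeCore 2 X).Characteristic := Cores.pPrimeCore_characteristic
  haveI hab := isMulCommutative_of_el P hel
  set T : Subgroup X := (P : Subgroup X) with hT
  set N := normalizer (T : Set X) with hN
  set CP := centralizer (T : Set X) with hCP
  by_cases hbot : T = ⊥
  · rw [eq_top_iff]
    intro x _
    refine mem_sup_right (mem_normalizer_iff.2 fun y => ?_)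
    simp only [hbot, Subgroup.mem_bot, conj_eq_one_iff]
  by_cases hZ : ∃ z ∈ T, z ≠ 1 ∧ ∀ m ∈ N, m * z * m⁻¹ = z
  · -- a fixed point: transfer
    letI : CommGroup T := { (inferInstance : Group T) with mul_comm := mul_comm' }
    let τ : X →* T := MonoidHom.transfer (MonoidHom.id T)
    have hτfix : ∀ z ∈ T, (∀ m ∈ N, m * z * m⁻¹ = z) → ((τ z : T) : X) = z := by
      intro z hz hfix
      have key : ∀ (k : ℕ) (g₀ : X), g₀⁻¹ * z ^ k * g₀ ∈ T → g₀⁻¹ * z ^ k * g₀ = z ^ k := by
        intro k g₀ hmem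
        obtain ⟨m, hm, he⟩ := P.conj_eq_normalizer_conj_of_mem (z ^ k) g₀ (pow_mem hz k) hmem
        rw [he]
        have h := hfix m⁻¹ (inv_mem hm)
        rw [inv_inv] at h
        calc m⁻¹ * z ^ k * m = (m⁻¹ * z * m⁻¹⁻¹) ^ k := by rw [conj_pow, inv_inv]
          _ = z ^ k := by rw [inv_inv, h]
      show ((MonoidHom.transfer (MonoidHom.id T) z : T) : X) = z
      rw [MonoidHom.transfer_eq_pow _ z key]
      show z ^ T.index = z
      have hodd : ¬ 2 ∣ T.index := P.not_dvd_index
      conv_lhs => rw [show T.index = 2 * (T.index / 2) + 1 by omega, pow_succ, pow_mul, hel z hz,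
        one_pow, one_mul]
    obtain ⟨z₀, hz₀, hz₀1, hz₀fix⟩ := hZ
    set X₀ := τ.ker with hX₀
    haveI : X₀.Normal := MonoidHom.normal_ker τ
    have hX₀ne : z₀ ∉ X₀ := fun h => hz₀1 (by
      rw [← hτfix z₀ hz₀ hz₀fix, MonoidHom.mem_ker.1 h]; rfl)
    have hlt : Nat.card X₀ < n := by
      rw [← hcardX]
      refine lt_of_le_of_ne (Finite.card_subtype_le _) fun e => hX₀ne ?_
      rw [Subgroup.eq_top_of_card_eq X₀ e]; exact mem_top _
    set V : Subgroup X := T ⊓ X₀ with hV
    -- every element of the Sylow subgroup is a product of a fixed point and an element of `V`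
    let f : N →* MulAut T := T.normalizerMonoidHom
    letI : Fintype f.range := Fintype.ofFinite _
    have hτconj : ∀ g y : X, τ (g * y * g⁻¹) = τ y := fun g y => by
      rw [map_mul, map_mul, map_inv, mul_comm (τ g), mul_inv_cancel_right]
    have hdec : ∀ p ∈ T, ∃ z ∈ T, (∀ m ∈ N, m * z * m⁻¹ = z) ∧ z * p ∈ X₀ := by
      intro p hp
      set π : T := ∏ σ : f.range, (σ : MulAut T) ⟨p, hp⟩ with hπ
      have hfix : ∀ m : N, f m π = π := fun m => by
        rw [hπ, map_prod]
        exact Fintype.prod_equiv (Equiv.mulLeft (⟨f m, m, rfl⟩ : f.range)) _ _ fun σ => rfl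
      refine ⟨(π : X), π.2, fun m hm => congrArg Subtype.val (hfix ⟨m, hm⟩), MonoidHom.mem_ker.2 ?_⟩
      have hterm : ∀ σ : f.range, τ (((σ : MulAut T) ⟨p, hp⟩ : T) : X) = τ p := by
        rintro ⟨_, m, rfl⟩
        exact hτconj (m : X) p
      have hπτ : τ (π : X) = τ p ^ Fintype.card f.range := by
        show (τ.comp T.subtype) π = _
        rw [hπ, map_prod]
        exact (Finset.prod_congr rfl (g := fun _ => τ p) fun σ _ => hterm σ).trans
          ((Finset.prod_const _).trans (by rw [Finset.card_univ]))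
      have hodd : Odd (Fintype.card f.range) := by
        rw [← Nat.card_eq_fintype_card, ← index_ker, normalizerMonoidHom_ker]
        exact H29.AbTwo.odd_eInd (P := P)
      obtain ⟨j, hj⟩ := hodd
      rw [map_mul, hπτ, hj, ← pow_succ, show 2 * j + 1 + 1 = 2 * (j + 1) by ring, pow_mul,
        show τ p ^ 2 = 1 by rw [← map_pow, hel p hp, map_one], one_pow]
    -- the smaller group
    set Q₀ : Sylow 2 X₀ := (P.isPGroup'.comap_subtype (K := X₀)).toSylow
      (H41.not_dvd_relIndex_sylow P X₀) with hQ₀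
    have hQmem : ∀ y : X₀, y ∈ (Q₀ : Subgroup X₀) ↔ (y : X) ∈ T := fun y => Iff.rfl
    have hmapQ : (Q₀ : Subgroup X₀).map X₀.subtype = V := by
      ext y
      constructor
      · rintro ⟨w, hw, rfl⟩; exact ⟨hw, w.2⟩
      · rintro ⟨h1, h2⟩; exact ⟨⟨y, h2⟩, h1, rfl⟩
    set CV := centralizer (V : Set X) with hCV
    have hTCV : T ≤ CV := fun a ha =>
      mem_centralizer_iff.2 fun v hv => H86.Abelian.mul_comm_sylow P hv.1 ha
    have hNV : N ≤ normalizer (V : Set X) := fun m hm => by
      rw [mem_normalizer_iff]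
      intro y
      exact and_congr (mem_normalizer_iff.1 hm y)
        ⟨fun h => ‹X₀.Normal›.conj_mem y h m, fun h => by
          simpa [mul_assoc] using ‹X₀.Normal›.conj_mem _ h m⁻¹⟩
    set Zs : Subgroup X := T ⊓ centralizer (N : Set X) with hZs
    have hZmem : ∀ z, z ∈ Zs ↔ z ∈ T ∧ ∀ m ∈ N, m * z * m⁻¹ = z := fun z =>
      ⟨fun h => ⟨h.1, fun m hm => mul_inv_eq_iff_eq_mul.2 (mem_centralizer_iff.1 h.2 m hm)⟩,
        fun h => ⟨h.1, mem_centralizer_iff.2 fun m hm => mul_inv_eq_iff_eq_mul.1 (h.2 m hm)⟩⟩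
    have hdisj : ∀ z ∈ Zs, z ∈ V → z = 1 := fun z hz hzV => by
      rw [← hτfix z hz.1 ((hZmem z).1 hz).2, MonoidHom.mem_ker.1 hzV.2]; rfl
    have hcomm : ∀ z ∈ Zs, ∀ v ∈ V, Commute z v := fun z hz v hv =>
      H86.Abelian.mul_comm_sylow P hz.1 hv.1
    have hnormZ : V ≤ normalizer (Zs : Set X) := fun v hv => by
      refine mem_normalizer_iff.2 fun y => ?_
      constructor
      · intro hy; rwa [← (hcomm y hy v hv).eq, mul_inv_cancel_right]
      · intro hy
        have h := hcomm _ hy v hv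
        have e : v * y * v⁻¹ = y :=
          mul_left_cancel (show v * (v * y * v⁻¹) = v * y by rw [← h.eq, inv_mul_cancel_right])
        rwa [e] at hy
    have hsupT : Zs ⊔ V = T := by
      refine le_antisymm (sup_le inf_le_left inf_le_left) fun p hp => ?_
      obtain ⟨z, hz, hfix, hzp⟩ := hdec p hp
      have e : p = z * (z * p) := by
        rw [← mul_assoc, ← sq, hel z hz, one_mul]
      rw [e]
      exact mul_mem (mem_sup_left ((hZmem z).2 ⟨hz, hfix⟩)) (mem_sup_right ⟨mul_mem hz hp, hzp⟩)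
    have hcardT : Nat.card Zs * Nat.card V = Nat.card T := by
      rw [← H29.AbTwo.card_sup_of_disjoint hnormZ hdisj, hsupT]
    have hZpos : 0 < Nat.card Zs := Nat.card_pos
    have hsf₀ : SmallFusion Q₀ := by
      intro B hB hBC
      set Bx := B.map X₀.subtype with hBx
      have hBxN : Bx ≤ normalizer (V : Set X) := by
        rintro _ ⟨b, hb, rfl⟩
        rw [mem_normalizer_iff_map_conj_eq, ← hmapQ, map_map]
        have hb' := mem_normalizer_iff_map_conj_eq.1 (hB hb)
        conv_rhs => rw [← hb', map_map]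
        rfl
      set B' := (Bx ⊔ CV) ⊓ N with hB'
      have hch : ∀ b ∈ Bx, ∃ c ∈ CV, c * b ∈ B' := fun b hb => by
        obtain ⟨c, hc, hcb⟩ := frattini_fix P hTCV (hBxN hb)
        exact ⟨c, hc, mul_mem (mem_sup_right hc) (mem_sup_left hb), hcb⟩
      have hnotle : ¬ Bx ≤ CV := fun h => hBC fun b hb => by
        refine mem_centralizer_iff.2 fun y hy => Subtype.ext ?_
        exact mem_centralizer_iff.1 (h ⟨b, hb, rfl⟩) (y : X) ⟨hy, y.2⟩
      have hB'C : ¬ B' ≤ CP := fun h => hnotle fun b hb => by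
        obtain ⟨c, hc, hcb⟩ := hch b hb
        have h1 : CP ≤ CV := centralizer_le (SetLike.coe_subset_coe.2 inf_le_left)
        have := mul_mem (inv_mem hc) (h1 (h hcb))
        rwa [inv_mul_cancel_left] at this
      obtain ⟨hs1, hs2⟩ := hsf B' inf_le_right hB'C
      have hVB : Nat.card ↥((Q₀ : Subgroup X₀) ⊓ centralizer (B : Set X₀)) =
          Nat.card ↥(V ⊓ centralizer (Bx : Set X)) := by
        rw [Nat.card_congr (equivMapOfInjective _ X₀.subtype X₀.subtype_injective).toEquiv]
        congr 2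
        ext y
        constructor
        · rintro ⟨w, ⟨hw1, hw2⟩, rfl⟩
          refine ⟨⟨hw1, w.2⟩, mem_centralizer_iff.2 ?_⟩
          rintro _ ⟨b, hb, rfl⟩
          exact congrArg Subtype.val (mem_centralizer_iff.1 hw2 b hb)
        · rintro ⟨⟨hy1, hy2⟩, hy3⟩
          exact ⟨⟨y, hy2⟩, ⟨hy1, mem_centralizer_iff.2 fun b hb =>
            Subtype.ext (mem_centralizer_iff.1 hy3 (b : X) ⟨b, hb, rfl⟩)⟩, rfl⟩
      have hQcard : Nat.card (Q₀ : Subgroup X₀) = Nat.card V := by
        rw [← hmapQ]
        exact Nat.card_congr (equivMapOfInjective _ X₀.subtype X₀.subtype_injective).toEquiv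
      have hfixle : Nat.card Zs * Nat.card ↥(V ⊓ centralizer (Bx : Set X)) ≤
          Nat.card ↥(T ⊓ centralizer (B' : Set X)) := by
        rw [← H29.AbTwo.card_sup_of_disjoint (inf_le_left.trans hnormZ)
          fun z hz hz' => hdisj z hz hz'.1]
        refine card_le_of_le (sup_le (le_inf inf_le_left ?_) (le_inf (inf_le_left.trans inf_le_left) ?_))
        · exact inf_le_right.trans (centralizer_le (SetLike.coe_subset_coe.2 inf_le_right))
        · intro v hv
          have h1 : Bx ⊔ CV ≤ centralizer ({v} : Set X) := by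
            refine sup_le (fun b hb => mem_centralizer_singleton_iff.2 ?_)
              fun c hc => mem_centralizer_singleton_iff.2 ?_
            · exact mem_centralizer_iff.1 hv.2 b hb
            · exact (mem_centralizer_iff.1 hc v hv.1).symm
          exact mem_centralizer_iff.2 fun b hb =>
            mem_centralizer_singleton_iff.1 (h1 (SetLike.mem_coe.1 hb).1)
      have hidx : (centralizer ((Q₀ : Subgroup X₀) : Set X₀)).relIndex B ≤ CP.relIndex B' := by
        have e1 : (centralizer ((Q₀ : Subgroup X₀) : Set X₀)).relIndex B = CV.relIndex Bx := by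
          rw [hBx, ← relIndex_comap]
          congr 1
          ext y
          simp only [mem_centralizer_iff, mem_comap, SetLike.mem_coe, hCV, coe_subtype]
          constructor
          · intro h v hv
            exact congrArg Subtype.val (h ⟨v, hv.2⟩ hv.1)
          · intro h v hv
            exact Subtype.ext (h (v : X) ⟨hv, v.2⟩)
        rw [e1]
        have hCPCV : CP ≤ CV := centralizer_le (SetLike.coe_subset_coe.2 inf_le_left)
        refine le_trans ?_ (relIndex_le_of_le_left hCPCV index_ne_zero_of_finite : CV.relIndex B' ≤ CP.relIndex B')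
        choose c hc hcb using hch
        rw [relIndex, relIndex, index_eq_card, index_eq_card]
        refine Nat.card_le_card_of_injective
          (fun q => QuotientGroup.mk (⟨c q.out q.out.2 * q.out, hcb q.out q.out.2⟩ : B')) ?_
        intro q q' h
        rw [← q.out_eq', ← q'.out_eq', QuotientGroup.eq]
        rw [QuotientGroup.eq, mem_subgroupOf] at h
        rw [mem_subgroupOf]
        push_cast at h ⊢
        set b : X := ((q.out : Bx) : X)
        set b' : X := ((q'.out : Bx) : X)
        set m := c b q.out.2 * b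
        set m' := c b' q'.out.2 * b'
        have hm : m ∈ N := (hcb b q.out.2).2
        have h2 : (c b q.out.2) * (c b' q'.out.2)⁻¹ ∈ CV := mul_mem (hc _ _) (inv_mem (hc _ _))
        have h3 : m⁻¹ * ((c b q.out.2) * (c b' q'.out.2)⁻¹) * m ∈ CV := by
          refine mem_centralizer_iff.2 fun v hv => ?_
          have hv' : m * v * m⁻¹ ∈ V := (mem_normalizer_iff.1 (hNV hm) v).1 hv
          have h4 := mem_centralizer_iff.1 h2 _ hv'
          calc v * (m⁻¹ * ((c b q.out.2) * (c b' q'.out.2)⁻¹) * m)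
              = m⁻¹ * (m * v * m⁻¹ * ((c b q.out.2) * (c b' q'.out.2)⁻¹)) * m := by group
            _ = m⁻¹ * ((c b q.out.2) * (c b' q'.out.2)⁻¹ * (m * v * m⁻¹)) * m := by rw [h4]
            _ = _ := by group
        have h5 := mul_mem h3 h
        have e : m⁻¹ * ((c b q.out.2) * (c b' q'.out.2)⁻¹) * m * (m⁻¹ * m') = b⁻¹ * b' := by
          simp only [m, m']; group
        rwa [e] at h5
      rw [hVB, hQcard]
      constructor
      · refine Nat.le_of_mul_le_mul_left ?_ hZpos
        calc Nat.card Zs * (8 * Nat.card ↥(V ⊓ centralizer (Bx : Set X)))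
            = 8 * (Nat.card Zs * Nat.card ↥(V ⊓ centralizer (Bx : Set X))) := by ring
          _ ≤ _ := (Nat.mul_le_mul_left 8 hfixle).trans (hs1.trans hcardT.ge)
      · refine Nat.lt_of_mul_lt_mul_left (a := Nat.card Zs) ?_
        calc Nat.card Zs * (((centralizer ((Q₀ : Subgroup X₀) : Set X₀)).relIndex B + 1) *
              Nat.card ↥(V ⊓ centralizer (Bx : Set X)))
            = ((centralizer ((Q₀ : Subgroup X₀) : Set X₀)).relIndex B + 1) *
              (Nat.card Zs * Nat.card ↥(V ⊓ centralizer (Bx : Set X))) := by ring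
          _ ≤ (CP.relIndex B' + 1) * Nat.card ↥(T ⊓ centralizer (B' : Set X)) :=
            Nat.mul_le_mul (Nat.add_le_add_right hidx 1) hfixle
          _ < _ := hs2.trans_le hcardT.ge
    have h0 := ih _ hlt X₀ Q₀ rfl (fun a ha => Subtype.ext (by simpa using hel a ha)) hsf₀
    set O := pPrimeCore 2 X
    have hOV : O ⊔ normalizer (V : Set X) = ⊤ := by
      rw [eq_top_iff, ← Sylow.normalizer_sup_eq_top Q₀, hmapQ]
      refine sup_le le_sup_right fun x hx => ?_
      obtain ⟨k, hk, m, hm, e⟩ := mem_sup_of_normal_left.1 (h0 ▸ mem_top (⟨x, hx⟩ : X₀))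
      rw [Cores.pPrimeCore_of_normal X₀, mem_subgroupOf] at hk
      have e' : x = (k : X) * (m : X) := (congrArg Subtype.val e).symm
      rw [e']
      refine mul_mem (mem_sup_left hk) (mem_sup_right ?_)
      rw [mem_normalizer_iff_map_conj_eq, ← hmapQ, map_map]
      have hm' := mem_normalizer_iff_map_conj_eq.1 hm
      conv_rhs => rw [← hm', map_map]
      rfl
    have hK : Cores.coreC V ≤ O := by
      refine le_core_of_supplement hOV (Cores.odd_card_coreC _) fun m hm => ?_
      have key : ∀ m ∈ normalizer (V : Set X), ∀ x ∈ Cores.coreC V, m * x * m⁻¹ ∈ Cores.coreC V :=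
        fun m hm x hx => by
          have := Cores.conj_mem_coreC m hx
          rwa [Cores.conjMap_eq_of_mem_normalizer hm] at this
      refine mem_normalizer_iff.2 fun x => ⟨key m hm x, fun h => ?_⟩
      simpa [mul_assoc] using key m⁻¹ (inv_mem hm) _ h
    set Q₁ := P.subtype hTCV
    have hfus : normalizer ((Q₁ : Subgroup CV) : Set CV) ≤ centralizer ((Q₁ : Subgroup CV) : Set CV) := by
      intro c hc
      have hcN : (c : X) ∈ N := by
        refine mem_normalizer_iff.2 fun y => ⟨fun hy => ?_, fun hy => ?_⟩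
        · exact (mem_normalizer_iff.1 hc ⟨y, hTCV hy⟩).1 hy
        · have hy' : y ∈ CV := by
            have := mul_mem (mul_mem (inv_mem c.2) (hTCV hy)) c.2
            simpa [mul_assoc] using this
          exact (mem_normalizer_iff.1 hc ⟨y, hy'⟩).2 hy
      refine mem_centralizer_iff.2 fun y hy => Subtype.ext ?_
      have hy' : (y : X) ∈ Zs ⊔ V := hsupT.symm ▸ hy
      have hle : Zs ⊔ V ≤ centralizer ({(c : X)} : Set X) := by
        refine sup_le (fun z hz => ?_) fun v hv => ?_
        · exact mem_centralizer_singleton_iff.2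
            (mem_centralizer_iff.1 hz.2 (c : X) hcN).symm
        · exact mem_centralizer_singleton_iff.2 (mem_centralizer_iff.1 c.2 v hv)
      exact mem_centralizer_singleton_iff.1 (hle hy')
    obtain ⟨Q', K, hKn, hc⟩ := Fusion.hasNormalPComplement_of_normalizer_le_centralizer Q₁ hfus
    haveI := hKn
    have hKodd : Odd (Nat.card K) := by
      rw [← Nat.not_even_iff_odd, even_iff_two_dvd]
      exact Fusion.not_dvd_card_of_isComplement' Q' hc
    have hCVle : CV ≤ O ⊔ N := by
      intro c hcV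
      obtain ⟨d, hd⟩ := MulAction.exists_smul_eq CV Q' Q₁
      obtain ⟨⟨k, y⟩, hky⟩ := hc.2 (d⁻¹ * ⟨c, hcV⟩ * d)
      have hy : ((d * (y : CV) * d⁻¹ : CV) : X) ∈ T := by
        have : d * (y : CV) * d⁻¹ ∈ (Q₁ : Subgroup CV) := by
          rw [← hd]; exact ⟨y, y.2, rfl⟩
        exact this
      have hk : ((d * (k : CV) * d⁻¹ : CV) : X) ∈ O :=
        hK ⟨_, Cores.le_oddCore hKodd (hKn.conj_mem _ k.2 d), rfl⟩
      have e : c = ((d * (k : CV) * d⁻¹ : CV) : X) * ((d * (y : CV) * d⁻¹ : CV) : X) := by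
        rw [← Subgroup.coe_mul, show d * (k : CV) * d⁻¹ * (d * (y : CV) * d⁻¹) = d * ((k : CV) * y) * d⁻¹ by group,
          show (k : CV) * y = d⁻¹ * ⟨c, hcV⟩ * d from hky]
        simp [mul_assoc]
      rw [e]
      exact mul_mem (mem_sup_left hk) (mem_sup_right (le_normalizer hy))
    rw [eq_top_iff, ← hOV]
    refine sup_le le_sup_left fun g hg => ?_
    obtain ⟨c, hcV, hcg⟩ := frattini_fix P hTCV hg
    have := mul_mem (inv_mem (hCVle hcV)) (mem_sup_right (S := O) hcg)
    rwa [inv_mul_cancel_left] at this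
  · -- no fixed point: signalizers
    push Not at hZ
    have hNC : ¬ N ≤ CP := fun h => by
      obtain ⟨a, ha, ha1⟩ := (T.bot_or_exists_ne_one).resolve_left hbot
      obtain ⟨m, hm, hne⟩ := hZ a ha ha1
      exact hne (mul_inv_eq_iff_eq_mul.2 (mem_centralizer_iff.1 (h hm) a ha).symm)
    obtain ⟨h8, hbound⟩ := hsf N le_rfl hNC
    have h8' : 8 ≤ Nat.card T :=
      le_trans (Nat.le_mul_of_pos_right 8 Nat.card_pos) h8
    let θ : X → Subgroup X := fun a => Cores.coreC (zpowers a)
    have hcz : ∀ a c : X, c ∈ centralizer ((zpowers a : Subgroup X) : Set X) ↔ c * a = a * c :=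
      fun a c => ⟨fun h => (mem_centralizer_iff.1 h a (mem_zpowers a)).symm, fun h =>
        mem_centralizer_iff.2 fun w hw => by
          obtain ⟨i, rfl⟩ := mem_zpowers_iff.1 hw
          exact ((Commute.zpow_right (h : Commute c a)) i).eq.symm⟩
    have hloc : ∀ a ∈ T, a ≠ 1 → ∃ hle : T ≤ centralizer ((zpowers a : Subgroup X) : Set X),
        pPrimeCore 2 (centralizer ((zpowers a : Subgroup X) : Set X)) ⊔
          normalizer ((P.subtype hle : Subgroup (centralizer ((zpowers a : Subgroup X) : Set X))) :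
            Set (centralizer ((zpowers a : Subgroup X) : Set X))) = ⊤ := by
      intro a ha ha1
      have hle : T ≤ centralizer ((zpowers a : Subgroup X) : Set X) := fun y hy =>
        (hcz a y).2 (H86.Abelian.mul_comm_sylow P hy ha)
      refine ⟨hle, ?_⟩
      set H := centralizer ((zpowers a : Subgroup X) : Set X)
      set Q := P.subtype hle
      have hQmem : ∀ y : H, y ∈ (Q : Subgroup H) ↔ (y : X) ∈ T := fun y => Iff.rfl
      have hlt : Nat.card H < n := by
        rw [← hcardX]
        refine lt_of_le_of_ne (Finite.card_subtype_le _) fun e => ?_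
        obtain ⟨m, hm, hne⟩ := hZ a ha ha1
        exact hne (mul_inv_eq_iff_eq_mul.2
          ((hcz a m).1 (show m ∈ H by rw [Subgroup.eq_top_of_card_eq H e]; exact mem_top m)))
      refine ih _ hlt H Q rfl (fun y hy => Subtype.ext (by simpa using hel y hy)) ?_
      intro B hB hBC
      set Bx := B.map H.subtype
      have hBN : Bx ≤ N := by
        rintro _ ⟨b, hb, rfl⟩
        refine mem_normalizer_iff.2 fun y => ⟨fun hy => ?_, fun hy => ?_⟩
        · exact (mem_normalizer_iff.1 (hB hb) ⟨y, hle hy⟩).1 hy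
        · have hy' : y ∈ H := by
            have := mul_mem (mul_mem (inv_mem b.2) (hle hy)) b.2
            simpa [mul_assoc] using this
          exact (mem_normalizer_iff.1 (hB hb) ⟨y, hy'⟩).2 hy
      have hBxC : ¬ Bx ≤ CP := fun h => hBC fun b hb =>
        mem_centralizer_iff.2 fun y hy => Subtype.ext (mem_centralizer_iff.1 (h ⟨b, hb, rfl⟩) (y : X) hy)
      have e1 : Nat.card ↥((Q : Subgroup H) ⊓ centralizer (B : Set H)) =
          Nat.card ↥(T ⊓ centralizer (Bx : Set X)) := by
        rw [Nat.card_congr (equivMapOfInjective _ H.subtype H.subtype_injective).toEquiv]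
        congr 2
        ext y
        constructor
        · rintro ⟨w, ⟨hw1, hw2⟩, rfl⟩
          refine ⟨hw1, mem_centralizer_iff.2 ?_⟩
          rintro _ ⟨b, hb, rfl⟩
          exact congrArg Subtype.val (mem_centralizer_iff.1 hw2 b hb)
        · rintro ⟨hy1, hy2⟩
          exact ⟨⟨y, hle hy1⟩, ⟨hy1, mem_centralizer_iff.2 fun b hb =>
            Subtype.ext (mem_centralizer_iff.1 hy2 (b : X) ⟨b, hb, rfl⟩)⟩, rfl⟩
      have e2 : (centralizer ((Q : Subgroup H) : Set H)).relIndex B = CP.relIndex Bx := by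
        rw [← relIndex_comap]
        congr 1
        ext y
        simp only [mem_centralizer_iff, mem_comap, SetLike.mem_coe, coe_subtype]
        constructor
        · intro h v hv
          exact congrArg Subtype.val (h ⟨v, hle hv⟩ hv)
        · intro h v hv
          exact Subtype.ext (h (v : X) hv)
      have e3 : Nat.card (Q : Subgroup H) = Nat.card T :=
        Nat.card_congr (subgroupOfEquivOfLe hle).toEquiv
      rw [e1, e2, e3]
      exact hsf Bx hBN hBxC
    have hbal : ∀ a ∈ T, a ≠ 1 → ∀ b ∈ T, b ≠ 1 → θ a ⊓ centralizer ({b} : Set X) ≤ θ b := by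
      intro a ha ha1 b hb hb1 d hd
      obtain ⟨hle, hH⟩ := hloc b hb hb1
      set H := centralizer ((zpowers b : Subgroup X) : Set X)
      have hdH : d ∈ H := (hcz b d).2 (mem_centralizer_singleton_iff.1 hd.2)
      refine ⟨⟨d, hdH⟩, mem_core_of_comm_mod (P.subtype hle)
        (fun y hy => Subtype.ext (by simpa using hel y hy)) hH
        (by rw [Subgroup.orderOf_mk]; exact Cores.odd_orderOf_of_mem_coreC hd.1) ?_, rfl⟩
      intro w hw
      have hwT : (w : X) ∈ T := hw
      set t : H := ⟨d, hdH⟩ * w * ⟨d, hdH⟩⁻¹ * w⁻¹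
      have htodd : Odd (orderOf t) := by
        rw [← Subgroup.orderOf_coe]
        refine Cores.odd_orderOf_of_mem_coreC (B := zpowers a) ?_
        have h1 := Cores.conj_mem_coreC_of_mem (B := zpowers a)
          ((hcz a (w : X)).2 (H86.Abelian.mul_comm_sylow P hwT ha)) (inv_mem hd.1)
        have h2 := mul_mem hd.1 h1
        simpa [t, mul_assoc] using h2
      refine mem_core_of_odd (P.subtype hle).isPGroup' htodd ?_
      haveI := normal_core_sup_sylow (P.subtype hle) hH
      exact mul_mem (Normal.conj_mem inferInstance _ (mem_sup_right hw) _)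
        (inv_mem (mem_sup_right hw))
    have hθodd : ∀ a : X, Odd (Nat.card (θ a)) := fun a => Cores.odd_card_coreC _
    obtain ⟨hWodd, -⟩ := S0217.result (p := 2) T
      (fun a ha b hb => H86.Abelian.mul_comm_sylow P ha hb) hel (by simpa using h8') θ
      (fun a _ _ => (Cores.coreC_le _).trans
        (centralizer_le (Set.singleton_subset_iff.2 (mem_zpowers a))))
      (fun a _ _ => by have := hθodd a; rw [Nat.odd_iff] at this; omega)
      (fun a ha _ b hb x hx => Cores.conj_mem_coreC_of_mem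
        ((hcz a b).2 (H86.Abelian.mul_comm_sylow P hb ha)) hx)
      (fun a _ _ => S0205.result (hθodd a)) hbal
    set W := ⨆ a : {a : X // a ∈ T ∧ a ≠ 1}, θ a with hW
    have hWle : ∀ a ∈ T, a ≠ 1 → θ a ≤ W := fun a ha ha1 =>
      le_iSup (fun a : {a : X // a ∈ T ∧ a ≠ 1} => θ a) ⟨a, ha, ha1⟩
    have hNW : N ≤ normalizer (W : Set X) := by
      intro m hm
      have key : ∀ m ∈ N, ∀ x ∈ W, m * x * m⁻¹ ∈ W := by
        intro m hm
        have hle : W ≤ W.comap (MulAut.conj m).toMonoidHom := by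
          refine iSup_le fun a => ?_
          intro x hx
          show m * x * m⁻¹ ∈ W
          refine hWle _ ((mem_normalizer_iff.1 hm a.1).1 a.2.1)
            (fun e => a.2.2 (conj_eq_one_iff.1 e)) ?_
          have h := Cores.conj_mem_coreC m hx
          rwa [MonoidHom.map_zpowers] at h
        exact fun x hx => hle hx
      refine mem_normalizer_iff.2 fun x => ⟨key m hm x, fun h => ?_⟩
      simpa [mul_assoc] using key m⁻¹ (inv_mem hm) _ h
    set Mx := W ⊔ N with hMx
    by_cases htop : Mx = ⊤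
    · haveI : W.Normal := normalizer_eq_top_iff.1
        (top_le_iff.1 (htop ▸ sup_le le_normalizer hNW))
      rw [eq_top_iff, ← htop]
      refine sup_le ((Cores.le_pPrimeCore (N := W) (Nat.coprime_two_right.2 ?_)).trans le_sup_left)
        le_sup_right
      rw [← Nat.not_even_iff_odd, even_iff_two_dvd]
      exact hWodd
    exfalso
    have hCle : ∀ a ∈ T, a ≠ 1 → centralizer ({a} : Set X) ≤ Mx := by
      intro a ha ha1 c hc
      obtain ⟨hle, hH⟩ := hloc a ha ha1
      haveI : (pPrimeCore 2 (centralizer ((zpowers a : Subgroup X) : Set X))).Characteristic :=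
        Cores.pPrimeCore_characteristic
      obtain ⟨k, hk, m, hm, e⟩ := mem_sup_of_normal_left.1
        (hH ▸ mem_top (⟨c, (hcz a c).2 (mem_centralizer_singleton_iff.1 hc)⟩ :
          centralizer ((zpowers a : Subgroup X) : Set X)))
      have e' : c = (k : X) * (m : X) := (congrArg Subtype.val e).symm
      rw [e']
      refine mul_mem (mem_sup_left (hWle a ha ha1 ⟨k, hk, rfl⟩)) (mem_sup_right ?_)
      refine mem_normalizer_iff.2 fun y => ⟨fun hy => ?_, fun hy => ?_⟩
      · exact (mem_normalizer_iff.1 hm ⟨y, hle hy⟩).1 hy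
      · have hy' : y ∈ centralizer ((zpowers a : Subgroup X) : Set X) := by
          have := mul_mem (mul_mem (inv_mem m.2) (hle hy)) m.2
          simpa [mul_assoc] using this
        exact (mem_normalizer_iff.1 hm ⟨y, hy'⟩).2 hy
    have hTM : T ≤ Mx := le_normalizer.trans le_sup_right
    have hconj : ∀ t ∈ Mx, orderOf t = 2 → ∃ m ∈ Mx, m * t * m⁻¹ ∈ T ∧ m * t * m⁻¹ ≠ 1 := by
      intro t ht h2
      obtain ⟨m, hm, hmT⟩ := H29.AbTwo.exists_conj_sylow (P := P) hTM ht (h2 ▸ pow_orderOf_eq_one t)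
      exact ⟨m, hm, hmT.1, fun e => by
        rw [conj_eq_one_iff.1 e, orderOf_one] at h2; omega⟩
    obtain ⟨a, ha, ha1⟩ := (T.bot_or_exists_ne_one).resolve_left hbot
    have ha2 := orderOf_eq_two hel ha ha1
    have heven : Even (Nat.card Mx) := by
      rw [even_iff_two_dvd, ← ha2, ← Subgroup.orderOf_mk a (hTM ha)]
      exact orderOf_dvd_natCard _
    have hfusion : ∀ t ∈ T, ∀ s ∈ T, IsConj t s → ∃ m ∈ N, m * t * m⁻¹ = s := by
      intro t ht s hs h
      obtain ⟨g, hg⟩ := isConj_iff.1 h
      obtain ⟨m, hm, he⟩ := P.conj_eq_normalizer_conj_of_mem t g⁻¹ ht (by rw [inv_inv, hg]; exact hs)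
      refine ⟨m⁻¹, inv_mem hm, ?_⟩
      rw [inv_inv, hg] at he
      rw [inv_inv, ← he]
    have hSE : IsStronglyEmbedded Mx := by
      refine (S0223.result Mx htop heven).2 ⟨fun t ht h2 c hc => ?_, fun t ht s hs ht2 hs2 hts => ?_⟩
      · obtain ⟨m, hm, hmT, hm1⟩ := hconj t ht h2
        have h1 : m * c * m⁻¹ ∈ Mx := hCle _ hmT hm1 (mem_centralizer_singleton_iff.2 (by
          calc m * c * m⁻¹ * (m * t * m⁻¹) = m * (c * t) * m⁻¹ := by group
            _ = m * (t * c) * m⁻¹ := by rw [mem_centralizer_singleton_iff.1 hc]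
            _ = _ := by group))
        have := mul_mem (mul_mem (inv_mem hm) h1) hm
        simpa [mul_assoc] using this
      · obtain ⟨m, hm, hmT, -⟩ := hconj t ht ht2
        obtain ⟨m', hm', hmT', -⟩ := hconj s hs hs2
        obtain ⟨k, hk, hk'⟩ := hfusion _ hmT _ hmT'
          (((isConj_iff.2 ⟨m, rfl⟩ : IsConj t (m * t * m⁻¹)).symm.trans hts).trans
            (isConj_iff.2 ⟨m', rfl⟩))
        refine ⟨m'⁻¹ * k * m, mul_mem (mul_mem (inv_mem hm') (mem_sup_right hk)) hm, ?_⟩
        calc m'⁻¹ * k * m * t * (m'⁻¹ * k * m)⁻¹ = m'⁻¹ * (k * (m * t * m⁻¹) * k⁻¹) * m' := by group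
          _ = s := by rw [hk']; group
    obtain ⟨w, hw2, hwM⟩ : ∃ w : X, orderOf w = 2 ∧ w ∉ Mx := by
      by_contra hall
      push Not at hall
      refine htop (eq_top_iff.2 fun g _ => H39.se_mem_of_conj hSE ha2 (hTM ha) (hall _ ?_))
      rw [← MulAut.conj_apply, MulEquiv.orderOf_eq, ha2]
    have htrans : ∀ y ∈ T, y ≠ 1 → ∃ m ∈ N, m * a * m⁻¹ = y := fun y hy hy1 => by
      obtain ⟨⟨d, -, hd⟩, -⟩ := S1225.result Mx hSE w hw2 hwM a y ha2 (hTM ha)
        (orderOf_eq_two hel hy hy1) (hTM hy)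
      exact hfusion a ha y hy (isConj_iff.2 ⟨d, hd⟩)
    have hle : Nat.card T ≤ CP.relIndex N + 1 := by
      rw [relIndex, index_eq_card, ← Finite.card_option]
      let φ : Option (N ⧸ CP.subgroupOf N) → T := fun o => o.elim 1 fun q =>
        ⟨(q.out : X) * a * (q.out : X)⁻¹, (mem_normalizer_iff.1 q.out.2 a).1 ha⟩
      refine Nat.card_le_card_of_surjective φ fun y => ?_
      by_cases hy : y = 1
      · exact ⟨none, hy.symm⟩
      · obtain ⟨m, hm, hmy⟩ := htrans y y.2 fun e => hy (Subtype.ext e)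
        set q : N ⧸ CP.subgroupOf N := QuotientGroup.mk ⟨m, hm⟩
        refine ⟨some q, Subtype.ext ?_⟩
        show (q.out : X) * a * (q.out : X)⁻¹ = (y : X)
        obtain ⟨⟨r, hr⟩, hq⟩ := QuotientGroup.mk_out_eq_mul (CP.subgroupOf N) (⟨m, hm⟩ : N)
        rw [show q.out = ⟨m, hm⟩ * r from hq, Subgroup.coe_mul, ← hmy]
        have hc := mem_centralizer_iff.1 (mem_subgroupOf.1 hr) a ha
        calc m * (r : X) * a * (m * (r : X))⁻¹ = m * ((r : X) * a) * (r : X)⁻¹ * m⁻¹ := by group
          _ = m * (a * (r : X)) * (r : X)⁻¹ * m⁻¹ := by rw [hc]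
          _ = _ := by group
    have hpos : 0 < Nat.card ↥(T ⊓ centralizer (N : Set X)) := Nat.card_pos
    have : CP.relIndex N + 1 ≤ (CP.relIndex N + 1) * Nat.card ↥(T ⊓ centralizer (N : Set X)) :=
      Nat.le_mul_of_pos_right _ hpos
    exact absurd (hle.trans this) hbound.not_ge

/-- Small fusion forces the product decomposition. -/
theorem sup_normalizer_eq_top (P : Sylow 2 X) (hel : ∀ a ∈ (P : Subgroup X), a ^ 2 = 1)
    (hsf : SmallFusion P) :
    pPrimeCore 2 X ⊔ normalizer ((P : Subgroup X) : Set X) = ⊤ :=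
  aux _ X P rfl hel hsf

end Cfsg.Agent.H82.ConstDiff
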