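import Cfsg.Agent.H82.NineBasic
import Cfsg.Agent.S4558
import Cfsg.Agent.H29.AbTwo.Orders
import Cfsg.Agent.H82.ConstDiff.Small

/-!
# Principal 2-blocks with constant difference of degree and value: first consequences
-/

set_option autoImplicit false
set_option linter.unusedSectionVars false
set_option linter.style.haveILetI false

open scoped ComplexConjugate

namespace Cfsg.Agent.H82.ConstDiff

open CharBasic BlockBasic

universe u

variable {G : Type u} [Group G] [Fintype G] {M : Ideal AlgInt}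

/-- The standing hypothesis: the nontrivial members of the principal block have a fixed difference
of degree and value at `w`. -/
def Diff (M : Ideal AlgInt) (w : G) (k : ℂ) : Prop :=
  ∀ χ : IrrCharacter G, χ ∈ principalBlock M G → χ ≠ trivialIrr →
    (χ : G → ℂ) 1 - (χ : G → ℂ) w = k

open scoped Classical in
/-- The nontrivial members of the principal block. -/
noncomputable def rest (M : Ideal AlgInt) (G : Type u) [Group G] [Fintype G] :
    Finset (IrrCharacter G) :=
  (Finset.univ.filter fun χ => χ ∈ principalBlock M G).erase trivialIrr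

theorem mem_rest {χ : IrrCharacter G} :
    χ ∈ rest M G ↔ χ ≠ trivialIrr ∧ χ ∈ principalBlock M G := by
  classical simp [rest]

/-- The sum of the nontrivial members. -/
noncomputable def phi (M : Ideal AlgInt) (g : G) : ℂ := ∑ χ ∈ rest M G, (χ : G → ℂ) g

theorem triv_apply (g : G) : ((trivialIrr : IrrCharacter G) : G → ℂ) g = 1 := rfl

theorem kernel_eq (hM : IsPModular 2 M) (g h : G) :
    blockKernel (principalBlock M G) g h =
      1 + ∑ χ ∈ rest M G, (χ : G → ℂ) g * conj ((χ : G → ℂ) h) := by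
  classical
  have hmem : (trivialIrr : IrrCharacter G) ∈
      Finset.univ.filter fun χ => χ ∈ principalBlock M G :=
    Finset.mem_filter.2 ⟨Finset.mem_univ _, (sameBlock_refl hM _ :
      (trivialIrr : IrrCharacter G) ∈ principalBlock M G)⟩
  have hins : insert (trivialIrr : IrrCharacter G) (rest M G) =
      Finset.univ.filter fun χ => χ ∈ principalBlock M G := by
    rw [rest]; convert Finset.insert_erase hmem
  rw [blockKernel, finsum_mem_eq_sum_ite, ← Finset.sum_filter, ← hins,
    Finset.sum_insert fun h => (mem_rest.1 h).1 rfl, triv_apply, triv_apply, map_one, mul_one]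

/-- The difference of two kernel columns. -/
theorem kernel_sub (hM : IsPModular 2 M) {w : G} {k : ℂ} (hk : Diff M w k) (g : G) :
    blockKernel (principalBlock M G) 1 g - blockKernel (principalBlock M G) w g =
      k * conj (phi M g) := by
  rw [kernel_eq hM, kernel_eq hM, add_sub_add_left_eq_sub, ← Finset.sum_sub_distrib, phi, map_sum,
    Finset.mul_sum]
  exact Finset.sum_congr rfl fun χ hχ => by
    rw [← hk χ (mem_rest.1 hχ).2 (mem_rest.1 hχ).1, sub_mul]

/-- An integer value at an involution, congruent to the degree. -/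
theorem exists_int_even (χ : IrrCharacter G) {t : G} (ht : orderOf t = 2) :
    ∃ a : ℤ, (χ : G → ℂ) t = (a : ℂ) ∧ (2 : ℤ) ∣ (charDegree (χ : G → ℂ) : ℤ) - a := by
  classical
  haveI : Fintype (Subgroup.zpowers t) := Fintype.ofFinite _
  have ht1 : t ≠ 1 := fun e => by rw [e, orderOf_one] at ht; omega
  obtain ⟨n, hn⟩ := isIrr_sum_sylow χ (Subgroup.zpowers t)
  have hset : (Finset.univ : Finset (Subgroup.zpowers t)) = {1, ⟨t, Subgroup.mem_zpowers t⟩} := by
    refine (Finset.eq_univ_of_card _ ?_).symm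
    rw [Finset.card_pair (fun h => ht1 (congrArg Subtype.val h).symm), ← Nat.card_eq_fintype_card,
      Nat.card_zpowers, ht]
  rw [hset, Finset.sum_pair (fun h => ht1 (congrArg Subtype.val h).symm), Nat.card_zpowers, ht,
    OneMemClass.coe_one, apply_one_eq_charDegree] at hn
  refine ⟨2 * (n : ℤ) - charDegree (χ : G → ℂ), ?_, (charDegree (χ : G → ℂ) : ℤ) - n, by ring⟩
  push_cast at hn ⊢
  linear_combination hn

/-- The degree of the sum is odd. -/
theorem odd_phi_one (hM : IsPModular 2 M) {t : G} (ht : orderOf t = 2) :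
    ∃ N : ℕ, phi M (1 : G) = (N : ℂ) ∧ Odd N := by
  classical
  haveI : Fact (Nat.Prime 2) := ⟨Nat.prime_two⟩
  refine ⟨∑ χ ∈ rest M G, charDegree (χ : G → ℂ), ?_, ?_⟩
  · rw [phi, Nat.cast_sum]
    exact Finset.sum_congr rfl fun χ _ => apply_one_eq_charDegree χ
  choose a ha h2 using fun χ : IrrCharacter G => exists_int_even χ ht
  have h0 := blockKernel_eq_zero_of_regular_of_singular hM (isPBlock_principalBlock (G := G) M)
    (g := (1 : G)) (by rw [orderOf_one]; norm_num) (h := t) (by rw [ht])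
  rw [kernel_eq hM] at h0
  simp only [ha, map_intCast, apply_one_eq_charDegree] at h0
  have h1 : (1 : ℤ) + ∑ χ ∈ rest M G, (charDegree (χ : G → ℂ) : ℤ) * a χ = 0 := by
    exact_mod_cast h0
  have key : ∀ s : Finset (IrrCharacter G),
      (2 : ℤ) ∣ (∑ χ ∈ s, (charDegree (χ : G → ℂ) : ℤ)) -
        ∑ χ ∈ s, (charDegree (χ : G → ℂ) : ℤ) * a χ := by
    intro s
    rw [← Finset.sum_sub_distrib]
    refine Finset.dvd_sum fun χ _ => ?_
    set d : ℤ := (charDegree (χ : G → ℂ) : ℤ)
    obtain ⟨c, hc⟩ := h2 χ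
    rcases Int.emod_two_eq_zero_or_one d with h | h
    · have hd : (2 : ℤ) ∣ d := Int.dvd_of_emod_eq_zero h
      exact dvd_sub hd (hd.mul_right _)
    · exact ⟨d * c - d * (d / 2), by
        rw [show a χ = d - 2 * c by omega]
        linear_combination d * (Int.emod_add_mul_ediv d 2) - d * h⟩
  have h3 := key (rest M G)
  rw [Nat.odd_iff]
  have h4 : ((∑ χ ∈ rest M G, charDegree (χ : G → ℂ) : ℕ) : ℤ) =
      ∑ χ ∈ rest M G, (charDegree (χ : G → ℂ) : ℤ) := Nat.cast_sum _ _
  omega

/-- The sum does not vanish at a nontrivial `2`-element. -/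
theorem phi_ne_zero (hM : IsPModular 2 M) {h : G} {e : ℕ} (he : orderOf h = 2 ^ e) {t : G}
    (ht : orderOf t = 2) : phi M h ≠ 0 := by
  classical
  haveI : Fact (Nat.Prime 2) := ⟨Nat.prime_two⟩
  intro h0
  obtain ⟨N, hN, hodd⟩ := odd_phi_one hM ht
  have hfun : phi M = ∑ χ ∈ rest M G, ((χ : IrrCharacter G) : G → ℂ) :=
    funext fun g => by rw [Finset.sum_apply]; rfl
  have hchar : IsCharacter G (phi (G := G) M) :=
    hfun ▸ IsChar.sum _ _ fun χ _ => IsIrr.isCharacter χ.2
  have hd := S4558.result 2 _ hchar h ⟨e, he⟩ h0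
  rw [charDegree, hN, Complex.natCast_re, Nat.floor_natCast] at hd
  rw [Nat.odd_iff] at hodd
  omega

/-- The block separates elements outside the odd core. -/
theorem diff_ne_zero (hM : IsPModular 2 M) (hO : pPrimeCore 2 G = ⊥) {w : G} (hw : w ≠ 1) {k : ℂ}
    (hk : Diff M w k) : k ≠ 0 := by
  haveI : Fact (Nat.Prime 2) := ⟨Nat.prime_two⟩
  intro hk0
  obtain ⟨K, hKn, hK⟩ := exists_blockKer (principalBlock M G)
  have hK2 := not_dvd_card_blockKer hM (isPBlock_principalBlock M) hK
  haveI := hKn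
  have hle : K ≤ pPrimeCore 2 G := Cores.le_pPrimeCore
    (Nat.Coprime.symm ((Nat.prime_two.coprime_iff_not_dvd).2 hK2))
  have hwK : w ∈ K := by
    rw [← SetLike.mem_coe, hK]
    intro χ hχ
    by_cases h1 : χ = trivialIrr
    · subst h1; rfl
    · exact (sub_eq_zero.1 ((hk χ hχ h1).trans hk0)).symm
  exact hw ((Subgroup.eq_bot_iff_forall _).1 hO w (hle hwK))

theorem exists_involution (hO : pPrimeCore 2 G = ⊥) {w : G} (hw : w ≠ 1) :
    ∃ t : G, orderOf t = 2 := by
  haveI : Fact (Nat.Prime 2) := ⟨Nat.prime_two⟩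
  refine exists_prime_orderOf_dvd_card' 2 (not_not.1 fun h => hw ?_)
  refine (Subgroup.eq_bot_iff_forall _).1 hO w ?_
  haveI : (⊤ : Subgroup G).Normal := inferInstance
  exact Cores.le_pPrimeCore (N := ⊤) (by
    rw [Subgroup.card_top]
    exact Nat.Coprime.symm ((Nat.prime_two.coprime_iff_not_dvd).2 h)) (Subgroup.mem_top w)

/-- The shape of the element and the single class of nontrivial `2`-elements. -/
theorem shape (hM : IsPModular 2 M) (hO : pPrimeCore 2 G = ⊥) {w : G} (hw : w ≠ 1) {k : ℂ}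
    (hk : Diff M w k) :
    ∃ x y : G, w = x * y ∧ Commute x y ∧ orderOf x = 2 ∧ ¬ 2 ∣ orderOf y ∧
      ∀ h : G, h ≠ 1 → (∃ e, orderOf h = 2 ^ e) → IsConj x h := by
  haveI : Fact (Nat.Prime 2) := ⟨Nat.prime_two⟩
  have hk0 := diff_ne_zero hM hO hw hk
  obtain ⟨t, ht⟩ := exists_involution hO hw
  have hB := isPBlock_principalBlock (G := G) M
  have h1reg : ¬ 2 ∣ orderOf (1 : G) := by rw [orderOf_one]; norm_num
  have hzero : ∀ g : G, 2 ∣ orderOf g → blockKernel (principalBlock M G) w g = 0 → phi M g = 0 := by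
    intro g hg h0
    have h := kernel_sub hM hk g
    rw [blockKernel_eq_zero_of_regular_of_singular hM hB h1reg hg, h0, sub_zero] at h
    simpa using (mul_eq_zero.1 h.symm).resolve_left hk0
  have hws : 2 ∣ orderOf w := by
    by_contra hr
    exact phi_ne_zero hM (h := t) (e := 1) (by rw [ht, pow_one]) ht (hzero t (by rw [ht])
      (blockKernel_eq_zero_of_regular_of_singular hM hB hr (by rw [ht])))
  set x := pPart (p := 2) w
  have hconj : ∀ h : G, h ≠ 1 → (∃ e, orderOf h = 2 ^ e) → IsConj x h := by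
    rintro h h1 ⟨e, he⟩
    by_contra hn
    have he0 : e ≠ 0 := fun e0 => h1 (orderOf_eq_one_iff.1 (by rw [he, e0, pow_zero]))
    refine phi_ne_zero hM he ht (hzero h (he ▸ dvd_pow_self 2 he0) (blockKernel_eq_zero hM hB ?_))
    rwa [(pPart_eq_self_iff h).2 ⟨e, he⟩]
  refine ⟨x, pReg (p := 2) w, (pPart_mul_pReg w).symm, commute_pPart_pReg w, ?_,
    not_dvd_orderOf_pReg w, hconj⟩
  obtain ⟨c, hc⟩ := isConj_iff.1
    (hconj t (fun e => by rw [e, orderOf_one] at ht; omega) ⟨1, by rw [ht, pow_one]⟩)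
  rw [← ht, ← hc, ← MulAut.conj_apply, MulEquiv.orderOf_eq]

section Sylow

variable (P : Sylow 2 G) {x : G} (hconj : ∀ h : G, h ≠ 1 → (∃ e, orderOf h = 2 ^ e) → IsConj x h)
  (hx : orderOf x = 2)

include hconj hx in
theorem sylow_el : ∀ a ∈ (P : Subgroup G), a ^ 2 = 1 := by
  intro a ha
  by_cases ha1 : a = 1
  · subst ha1; exact one_pow 2
  obtain ⟨e, he⟩ := IsPGroup.iff_orderOf.1 P.isPGroup' ⟨a, ha⟩
  rw [Subgroup.orderOf_mk] at he
  obtain ⟨c, hc⟩ := isConj_iff.1 (hconj a ha1 ⟨e, he⟩)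
  rw [← hc, conj_pow, ← hx, pow_orderOf_eq_one, mul_one, mul_inv_cancel]

include hconj in
theorem sylow_trans [IsMulCommutative (P : Subgroup G)] {a : G} (ha : a ∈ (P : Subgroup G))
    (ha1 : a ≠ 1) {b : G} (hb : b ∈ (P : Subgroup G)) (hb1 : b ≠ 1) :
    ∃ n ∈ Subgroup.normalizer ((P : Subgroup G) : Set G), n * a * n⁻¹ = b := by
  haveI : Fact (Nat.Prime 2) := ⟨Nat.prime_two⟩
  obtain ⟨g, hg⟩ := isConj_iff.1
    ((hconj a ha1 (H86.Abelian.exists_orderOf P ⟨a, ha⟩)).symm.trans
      (hconj b hb1 (H86.Abelian.exists_orderOf P ⟨b, hb⟩)))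
  obtain ⟨m, hm, he⟩ := P.conj_eq_normalizer_conj_of_mem a g⁻¹ ha (by rw [inv_inv, hg]; exact hb)
  refine ⟨m⁻¹, inv_mem hm, ?_⟩
  rw [inv_inv, hg] at he
  rw [inv_inv, ← he]

include hconj hx in
/-- The Sylow subgroup can be chosen to contain the involution. -/
theorem exists_sylow_mem : ∃ Q : Sylow 2 G, x ∈ (Q : Subgroup G) := by
  haveI : Fact (Nat.Prime 2) := ⟨Nat.prime_two⟩
  obtain ⟨Q, hQ⟩ := (IsPGroup.of_card (G := Subgroup.zpowers x) (n := 1)
    (by rw [Nat.card_zpowers, hx, pow_one])).exists_le_sylow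
  exact ⟨Q, hQ (Subgroup.mem_zpowers x)⟩

end Sylow

/-- The section equation. -/
theorem section_eq (hM : IsPModular 2 M) {w x y : G} {k : ℂ} (hk : Diff M w k) (hx : orderOf x = 2)
    (hw : w = x * y) (hy : ¬ 2 ∣ orderOf y) (hyC : y ∈ Subgroup.centralizer ({x} : Set G))
    (z : Subgroup.centralizer ({x} : Set G)) (hz : ¬ 2 ∣ orderOf z) :
    k * conj (phi M (x * (z : G))) =
      -blockKernel (principalBlock M (Subgroup.centralizer ({x} : Set G))) ⟨y, hyC⟩ z := by
  haveI : Fact (Nat.Prime 2) := ⟨Nat.prime_two⟩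
  rw [← kernel_sub hM hk, ← Nine.principal_section_kernel hM (e := 1) (by rw [hx, pow_one]) ⟨y, hyC⟩ z
    (by rwa [Subgroup.orderOf_mk]) hz]
  simp only [← hw]
  rw [blockKernel_eq_zero_of_regular_of_singular hM (isPBlock_principalBlock M)
    (g := (1 : G)) (by rw [orderOf_one]; norm_num) ?_, zero_sub]
  have hc : Commute x (z : G) := (Subgroup.mem_centralizer_singleton_iff.1 z.2).symm
  have h1 : pPart (p := 2) (x * (z : G)) = x :=
    pPart_mul_of hc ⟨1, by rw [hx, pow_one]⟩ (by rwa [Subgroup.orderOf_coe])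
  by_contra hd
  rw [(pPart_eq_one_iff _).2 hd] at h1
  rw [← h1, orderOf_one] at hx
  omega

end Cfsg.Agent.H82.ConstDiff
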