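import Cfsg.Agent.H82.ConstDiff.Small
import Cfsg.Agent.S4487
import Cfsg.Agent.Cores.PrincipalLambda

/-!
# The quotient by the odd core of a group with small fusion
-/

set_option autoImplicit false
set_option linter.unusedSectionVars false
set_option linter.style.haveILetI false

open scoped ComplexConjugate

namespace Cfsg.Agent.H82.ConstDiff

open CharBasic BlockBasic Subgroup

universe u

variable {X : Type u} [Group X] [Finite X] (P : Sylow 2 X)
  (hel : ∀ a ∈ (P : Subgroup X), a ^ 2 = 1)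
  (hX : pPrimeCore 2 X ⊔ normalizer ((P : Subgroup X) : Set X) = ⊤)

/-- The quotient map by the odd core. -/
noncomputable abbrev bar : X →* X ⧸ pPrimeCore 2 X :=
  haveI : (pPrimeCore 2 X).Characteristic := Cores.pPrimeCore_characteristic
  QuotientGroup.mk' (pPrimeCore 2 X)

theorem bar_eq_one {g : X} : bar g = 1 ↔ g ∈ pPrimeCore 2 X :=
  haveI : (pPrimeCore 2 X).Characteristic := Cores.pPrimeCore_characteristic
  QuotientGroup.eq_one_iff g

theorem eq_one_of_core_sylow {g : X} (hg : g ∈ pPrimeCore 2 X) (hgP : g ∈ (P : Subgroup X))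
    (hel : ∀ a ∈ (P : Subgroup X), a ^ 2 = 1) : g = 1 :=
  haveI := isMulCommutative_of_el P hel
  H29.AbTwo.eq_one_of_odd_sylow (Cores.odd_card_oddCore (G := X)) hg hgP

include hel in
/-- A complement of the Sylow subgroup in its normalizer. -/
theorem exists_complement : ∃ D : Subgroup X, D ≤ normalizer ((P : Subgroup X) : Set X) ∧
    Odd (Nat.card D) ∧ ∀ m ∈ normalizer ((P : Subgroup X) : Set X),
      ∃ p ∈ (P : Subgroup X), ∃ d ∈ D, m = p * d := by
  haveI : Fact (Nat.Prime 2) := ⟨Nat.prime_two⟩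
  set N := normalizer ((P : Subgroup X) : Set X)
  set T := (P : Subgroup X).subgroupOf N
  have hcop : Nat.Coprime (Nat.card T) T.index := by
    rw [Nat.card_congr (subgroupOfEquivOfLe le_normalizer).toEquiv, P.card_eq_multiplicity]
    exact ((Nat.prime_two.coprime_iff_not_dvd).2 fun h =>
      P.not_dvd_index (h.trans (relIndex_dvd_index_of_le le_normalizer))).pow_left _
  obtain ⟨H, hH⟩ := exists_right_complement'_of_coprime (N := T) hcop
  refine ⟨H.map N.subtype, map_subtype_le H, ?_, fun m hm => ?_⟩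
  · rw [Nat.card_congr (equivMapOfInjective H N.subtype N.subtype_injective).toEquiv.symm,
      ← hH.symm.index_eq_card, ← Nat.coprime_two_right, Nat.coprime_comm, Nat.prime_two.coprime_iff_not_dvd]
    exact fun h => P.not_dvd_index (h.trans (relIndex_dvd_index_of_le le_normalizer))
  · obtain ⟨⟨t, d⟩, e⟩ := hH.2 ⟨m, hm⟩
    exact ⟨((t : N) : X), t.2, ((d : N) : X), ⟨d, d.2, rfl⟩, (congrArg Subtype.val e).symm⟩

section Decomp

variable {D : Subgroup X} (hDN : D ≤ normalizer ((P : Subgroup X) : Set X))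
  (hDodd : Odd (Nat.card D))
  (hdec : ∀ m ∈ normalizer ((P : Subgroup X) : Set X), ∃ p ∈ (P : Subgroup X), ∃ d ∈ D, m = p * d)

include hel hX hDN hDodd in
theorem mem_core_iff_centralizer {d : X} (hd : d ∈ D) :
    d ∈ pPrimeCore 2 X ↔ d ∈ centralizer ((P : Subgroup X) : Set X) := by
  haveI : (pPrimeCore 2 X).Characteristic := Cores.pPrimeCore_characteristic
  constructor
  · intro h
    refine mem_centralizer_iff.2 fun w hw => ?_
    have h1 : d * w * d⁻¹ * w⁻¹ ∈ pPrimeCore 2 X := by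
      rw [show d * w * d⁻¹ * w⁻¹ = d * (w * d⁻¹ * w⁻¹) by group]
      exact mul_mem h (Normal.conj_mem inferInstance _ (inv_mem h) w)
    have h2 := eq_one_of_core_sylow P h1
      (mul_mem ((mem_normalizer_iff.1 (hDN hd) w).1 hw) (inv_mem hw)) hel
    exact (mul_inv_eq_iff_eq_mul.1 (mul_inv_eq_one.1 h2)).symm
  · intro h
    refine mem_core_of_comm_mod P hel hX (H29.AbTwo.odd_orderOf_of_mem hDodd hd) fun w hw => ?_
    rw [← mem_centralizer_iff.1 h w hw, mul_inv_cancel_right, mul_inv_cancel]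
    exact one_mem _

include hX hdec in
theorem exists_mul (c : X) : ∃ p ∈ (P : Subgroup X), ∃ d ∈ D, bar c = bar p * bar d := by
  haveI : (pPrimeCore 2 X).Characteristic := Cores.pPrimeCore_characteristic
  obtain ⟨o, ho, m, hm, rfl⟩ := mem_sup_of_normal_left.1 (hX ▸ mem_top c)
  obtain ⟨p, hp, d, hd, rfl⟩ := hdec m hm
  exact ⟨p, hp, d, hd, by rw [map_mul, bar_eq_one.2 ho, one_mul, map_mul]⟩

include hDN in
theorem conj_bar_mem {d p : X} (hd : d ∈ D) (hp : p ∈ (P : Subgroup X)) :
    bar d * bar p * (bar d)⁻¹ ∈ (P : Subgroup X).map (bar (X := X)) :=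
  ⟨d * p * d⁻¹, (mem_normalizer_iff.1 (hDN hd) p).1 hp, by rw [map_mul, map_mul, map_inv]⟩

include hel hX hDN hdec in
theorem normal_bar : ((P : Subgroup X).map (bar (X := X))).Normal := by
  haveI := isMulCommutative_of_el P hel
  refine ⟨fun v hv g => ?_⟩
  obtain ⟨w, hw, rfl⟩ := hv
  obtain ⟨c, rfl⟩ := QuotientGroup.mk'_surjective _ g
  obtain ⟨p, hp, d, hd, e⟩ := exists_mul P hX hdec c
  obtain ⟨w', hw', e'⟩ := conj_bar_mem P hDN hd hw
  show bar c * bar w * (bar c)⁻¹ ∈ _
  rw [e, mul_inv_rev, show bar p * bar d * bar w * ((bar d)⁻¹ * (bar p)⁻¹) =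
    bar p * (bar d * bar w * (bar d)⁻¹) * (bar p)⁻¹ by group, ← e', ← map_mul, ← map_inv, ← map_mul]
  exact ⟨_, mul_mem (mul_mem hp hw') (inv_mem hp), rfl⟩

include hel hX hDN hDodd hdec in
/-- The quotient has a single block. -/
theorem single_block {M : Ideal AlgInt} (hM : IsPModular 2 M)
    (χ : IrrCharacter (X ⧸ pPrimeCore 2 X)) :
    χ ∈ principalBlock M (X ⧸ pPrimeCore 2 X) := by
  haveI : Fact (Nat.Prime 2) := ⟨Nat.prime_two⟩
  haveI : (pPrimeCore 2 X).Characteristic := Cores.pPrimeCore_characteristic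
  haveI := isMulCommutative_of_el P hel
  set T := (P : Subgroup X).map (bar (X := X))
  haveI : T.Normal := normal_bar P hel hX hDN hdec
  have hT2 : T ≤ pCore 2 (X ⧸ pPrimeCore 2 X) := Cores.le_pCore (P.isPGroup'.map _)
  refine S4487.result 2 M hM Cores.pPrimeCore_quotient_pPrimeCore ?_ trivialIrr χ
  refine (centralizer_le (SetLike.coe_subset_coe.2 hT2)).trans (le_trans (fun v hv => ?_) hT2)
  obtain ⟨c, rfl⟩ := QuotientGroup.mk'_surjective _ v
  obtain ⟨p, hp, d, hd, e⟩ := exists_mul P hX hdec c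
  change bar c ∈ T
  change bar c ∈ centralizer (T : Set (X ⧸ pPrimeCore 2 X)) at hv
  rw [e] at hv ⊢
  have hdO : d ∈ pPrimeCore 2 X := by
    refine mem_core_of_comm_mod P hel hX (H29.AbTwo.odd_orderOf_of_mem hDodd hd) fun w hw => ?_
    rw [← bar_eq_one, map_mul, map_mul, map_mul, map_inv, map_inv]
    have h1 := mem_centralizer_iff.1 hv (bar w) ⟨w, hw, rfl⟩
    have h2 : bar w * bar p = bar p * bar w := by
      rw [← map_mul, ← map_mul, H86.Abelian.mul_comm_sylow P hw hp]
    have h3 : bar w * bar d = bar d * bar w := by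
      apply mul_left_cancel (a := bar p)
      rw [← mul_assoc, ← h2, mul_assoc, h1, mul_assoc]
    rw [← h3, mul_inv_cancel_right, mul_inv_cancel]
  rw [bar_eq_one.2 hdO, mul_one]
  exact ⟨p, hp, rfl⟩

include hel hX hDN hDodd hdec in
/-- The kernel of the principal block. -/
theorem kernel_bar {M : Ideal AlgInt} (hM : IsPModular 2 M) (g h : X)
    [Decidable (IsConj (bar g) (bar h))] :
    blockKernel (principalBlock M X) g h = if IsConj (bar g) (bar h) then
      (Nat.card (centralizer ({bar g} : Set (X ⧸ pPrimeCore 2 X))) : ℂ) else 0 := by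
  classical
  haveI : Fact (Nat.Prime 2) := ⟨Nat.prime_two⟩
  haveI : (pPrimeCore 2 X).Characteristic := Cores.pPrimeCore_characteristic
  cases nonempty_fintype X
  cases nonempty_fintype (X ⧸ pPrimeCore 2 X)
  rw [blockKernel, Cores.sum_principalBlock_quotient hM (pPrimeCore 2 X)
    Cores.not_dvd_card_pPrimeCore (fun f => f g * conj (f h)), finsum_mem_eq_sum_ite,
    Finset.sum_congr rfl fun ψ _ => if_pos (single_block P hel hX hDN hDodd hdec hM ψ)]
  split_ifs with hc
  · exact second_orthogonality_isConj hc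
  · exact second_orthogonality_not_isConj hc

include hel hX hDN hDodd hdec in
theorem card_quot : Nat.card (X ⧸ pPrimeCore 2 X) =
    Nat.card (P : Subgroup X) * Nat.card (D.map (bar (X := X))) := by
  haveI : Fact (Nat.Prime 2) := ⟨Nat.prime_two⟩
  haveI : (pPrimeCore 2 X).Characteristic := Cores.pPrimeCore_characteristic
  set T := (P : Subgroup X).map (bar (X := X))
  set E' := D.map (bar (X := X))
  have hTc : Nat.card T = Nat.card (P : Subgroup X) := by
    refine (Nat.card_congr (Equiv.ofBijective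
      (fun z : (P : Subgroup X) => (⟨bar (z : X), z, z.2, rfl⟩ : T)) ⟨fun a b h => ?_, ?_⟩)).symm
    · have h' : bar ((a : X)⁻¹ * b) = 1 := by
        rw [map_mul, map_inv, show bar (a : X) = bar (b : X) from congrArg Subtype.val h,
          inv_mul_cancel]
      exact Subtype.ext (inv_mul_eq_one.1
        (eq_one_of_core_sylow P (bar_eq_one.1 h') (mul_mem (inv_mem a.2) b.2) hel))
    · rintro ⟨_, z, hz, rfl⟩
      exact ⟨⟨z, hz⟩, rfl⟩
  have hn : E' ≤ normalizer (T : Set (X ⧸ pPrimeCore 2 X)) := by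
    haveI := normal_bar P hel hX hDN hdec
    exact normalizer_eq_top (H := T) ▸ le_top
  have htop : T ⊔ E' = ⊤ := by
    rw [eq_top_iff]
    intro v _
    obtain ⟨c, rfl⟩ := QuotientGroup.mk'_surjective _ v
    obtain ⟨p, hp, d, hd, e⟩ := exists_mul P hX hdec c
    change bar c ∈ _
    rw [e]
    exact mul_mem (mem_sup_left ⟨p, hp, rfl⟩) (mem_sup_right ⟨d, hd, rfl⟩)
  have hEodd : Odd (Nat.card E') := hDodd.of_dvd_nat (card_map_dvd _ _)
  rw [← card_top, ← htop, H29.AbTwo.card_sup_of_disjoint hn fun v hv hv' => ?_, hTc]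
  obtain ⟨j, hj⟩ := IsPGroup.iff_orderOf.1 (P.isPGroup'.map (bar (X := X))) ⟨v, hv⟩
  rw [Subgroup.orderOf_mk] at hj
  exact orderOf_eq_one_iff.1 (Nat.eq_one_of_dvd_coprimes
    ((Nat.coprime_two_left.2 hEodd).pow_left j) (hj ▸ dvd_rfl) (Subgroup.orderOf_dvd_natCard _ hv'))

include hel hX hDN hDodd hdec in
theorem card_centralizer_le {d : X} (hd : d ∈ D) :
    Nat.card (centralizer ({bar d} : Set (X ⧸ pPrimeCore 2 X))) ≤
      Nat.card ↥((P : Subgroup X) ⊓ centralizer ({d} : Set X)) * Nat.card (D.map (bar (X := X))) := by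
  haveI : Fact (Nat.Prime 2) := ⟨Nat.prime_two⟩
  haveI : (pPrimeCore 2 X).Characteristic := Cores.pPrimeCore_characteristic
  set T := (P : Subgroup X).map (bar (X := X))
  haveI : T.Normal := normal_bar P hel hX hDN hdec
  set K := centralizer ({bar d} : Set (X ⧸ pPrimeCore 2 X))
  have hidx : T.index = Nat.card (D.map (bar (X := X))) := by
    have h := T.card_mul_index
    rw [card_quot P hel hX hDN hDodd hdec] at h
    have hTc : Nat.card T ≤ Nat.card (P : Subgroup X) :=
      Nat.le_of_dvd Nat.card_pos (card_map_dvd _ _)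
    have hTc' : Nat.card (P : Subgroup X) ≤ Nat.card T := by
      refine Nat.card_le_card_of_injective (fun z => ⟨bar (z : X), z, z.2, rfl⟩) fun a b h => ?_
      have h' : bar ((a : X)⁻¹ * b) = 1 := by
        rw [map_mul, map_inv, show bar (a : X) = bar (b : X) from congrArg Subtype.val h,
          inv_mul_cancel]
      exact Subtype.ext (inv_mul_eq_one.1
        (eq_one_of_core_sylow P (bar_eq_one.1 h') (mul_mem (inv_mem a.2) b.2) hel))
    rw [le_antisymm hTc hTc'] at h
    exact Nat.eq_of_mul_eq_mul_left Nat.card_pos h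
  have h1 : Nat.card ↥(T ⊓ K) ≤ Nat.card ↥((P : Subgroup X) ⊓ centralizer ({d} : Set X)) := by
    refine Nat.card_le_card_of_surjective (fun z => ⟨bar (z : X), ⟨(z : X), z.2.1, rfl⟩, ?_⟩) ?_
    · refine mem_centralizer_singleton_iff.2 ?_
      rw [← map_mul, ← map_mul, mem_centralizer_singleton_iff.1 z.2.2]
    · rintro ⟨_, ⟨z, hz, rfl⟩, hzd⟩
      refine ⟨⟨z, hz, mem_centralizer_singleton_iff.2 ?_⟩, rfl⟩
      have h2 : d * z * d⁻¹ * z⁻¹ ∈ pPrimeCore 2 X := by
        rw [← bar_eq_one, map_mul, map_mul, map_mul, map_inv, map_inv,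
          ← mem_centralizer_singleton_iff.1 hzd, mul_inv_cancel_right, mul_inv_cancel]
      have h3 := eq_one_of_core_sylow P h2
        (mul_mem ((mem_normalizer_iff.1 (hDN hd) z).1 hz) (inv_mem hz)) hel
      exact (mul_inv_eq_iff_eq_mul.1 (mul_inv_eq_one.1 h3)).symm
  have h3 := relIndex_mul_relIndex (⊥ : Subgroup (X ⧸ pPrimeCore 2 X)) (T ⊓ K) K bot_le inf_le_right
  rw [relIndex_bot_left, relIndex_bot_left, inf_relIndex_right] at h3
  rw [← h3]
  refine Nat.mul_le_mul h1 ?_
  rw [← hidx]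
  exact Nat.le_of_dvd (Nat.pos_of_ne_zero index_ne_zero_of_finite) (relIndex_dvd_index_of_normal T K)

end Decomp

end Cfsg.Agent.H82.ConstDiff
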