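import Cfsg.Agent.H82.NineBasic

/-!
# The shift of a character by a central involution of a subgroup
-/

set_option autoImplicit false
set_option linter.unusedSectionVars false
set_option linter.style.haveILetI false

open scoped ComplexConjugate

namespace Cfsg.Agent.H82.ConstDiff

open CharBasic BlockBasic

universe u

variable {G : Type u} [Group G] [Fintype G]

/-- On the centralizer of an involution the shifted character is an integral combination. -/
theorem shift_eq_sum (χ : IrrCharacter G) {x : G} (hx : orderOf x = 2)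
    [Fintype (Subgroup.centralizer ({x} : Set G))] :
    ∃ a : IrrCharacter (Subgroup.centralizer ({x} : Set G)) → ℤ,
      (∀ ψ, a ψ = 1 ∨ a ψ = -1) ∧
      (∀ (ψ : IrrCharacter (Subgroup.centralizer ({x} : Set G)))
        (c : Subgroup.centralizer ({x} : Set G)),
        (ψ : _ → ℂ) (⟨x, Subgroup.mem_centralizer_singleton_iff.2 rfl⟩ * c) =
          (a ψ : ℂ) * (ψ : _ → ℂ) c) ∧
      (∀ ψ : IrrCharacter (Subgroup.centralizer ({x} : Set G)), classInner (fun c : Subgroup.centralizer ({x} : Set G) => (χ : G → ℂ) (x * (c : G)))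
        (ψ : _ → ℂ) = (((H83.mult χ ψ : ℤ) * a ψ : ℤ) : ℂ)) ∧
      ∀ c : Subgroup.centralizer ({x} : Set G), (χ : G → ℂ) (x * (c : G)) =
        ∑ ψ : IrrCharacter (Subgroup.centralizer ({x} : Set G)),
          (((H83.mult χ ψ : ℤ) * a ψ : ℤ) : ℂ) * (ψ : _ → ℂ) c := by
  classical
  let C := Subgroup.centralizer ({x} : Set G)
  have hxC : x ∈ C := Subgroup.mem_centralizer_singleton_iff.2 rfl
  obtain ⟨b, hb⟩ := H83.subgroup_scalars hxC fun c hc =>
    (Subgroup.mem_centralizer_singleton_iff.1 hc).symm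
  have hsq : ∀ ψ, b ψ = 1 ∨ b ψ = -1 := by
    intro ψ
    have h2 : (⟨x, hxC⟩ : C) * (⟨x, hxC⟩ * 1) = 1 :=
      Subtype.ext (by simp only [Subgroup.coe_mul, OneMemClass.coe_one, mul_one]; rw [← sq, ← hx, pow_orderOf_eq_one])
    have h := hb ψ (⟨x, hxC⟩ * 1)
    rw [hb ψ 1, h2, ← mul_assoc] at h
    exact mul_self_eq_one_iff.1 (mul_right_cancel₀ (IsIrr.one_ne_zero ψ.2) (by rw [one_mul]; exact h.symm))
  refine ⟨fun ψ => if b ψ = 1 then 1 else -1, fun ψ => by simp only; split_ifs <;> simp, fun ψ c => ?_,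
    fun ψ => ?_, fun c => ?_⟩
  · rw [hb]
    rcases hsq ψ with e | e
    · simp [e]
    · simp [e, show (-1 : ℂ) ≠ 1 by norm_num]
  · rw [Nine.classInner_shift hxC b hb]
    rcases hsq ψ with e | e
    · simp [e]
    · simp [e, show (-1 : ℂ) ≠ 1 by norm_num]
  · rw [show x * (c : G) = ((⟨x, hxC⟩ * c : C) : G) from rfl, H83.restrict_eq_sum]
    refine Finset.sum_congr rfl fun ψ _ => ?_
    rw [hb]
    rcases hsq ψ with e | e
    · simp [e]
    · simp [e, show (-1 : ℂ) ≠ 1 by norm_num]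

/-- The sums of the shifted values and of their squares over a subgroup. -/
theorem shift_norm (χ : IrrCharacter G) {x : G} (hx : orderOf x = 2)
    (D : Subgroup (Subgroup.centralizer ({x} : Set G))) [Fintype D] :
    ∃ (R : ℤ) (S : ℕ),
      ∑ d : D, (χ : G → ℂ) (x * ((d : Subgroup.centralizer ({x} : Set G)) : G)) =
        (Nat.card D : ℂ) * R ∧
      ∑ d : D, Complex.normSq ((χ : G → ℂ) (x * ((d : Subgroup.centralizer ({x} : Set G)) : G))) =
        (Nat.card D : ℝ) * S ∧
      ((χ : G → ℂ) x ≠ 0 → S ≠ 0) := by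
  classical
  haveI : Fintype (Subgroup.centralizer ({x} : Set G)) := Fintype.ofFinite _
  obtain ⟨a, -, -, -, hexp⟩ := shift_eq_sum χ hx
  let e : IrrCharacter D → ℤ := fun φ => ∑ ψ, (H83.mult χ ψ : ℤ) * a ψ * (H83.mult ψ φ : ℤ)
  have hθ : ∀ d : D, (χ : G → ℂ) (x * ((d : Subgroup.centralizer ({x} : Set G)) : G)) =
      ∑ φ, (e φ : ℂ) * (φ : D → ℂ) d := by
    intro d
    simp only [hexp, H83.restrict_eq_sum, Finset.mul_sum]
    rw [Finset.sum_comm]
    refine Finset.sum_congr rfl fun φ _ => ?_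
    simp only [e, Int.cast_sum, Finset.sum_mul]
    refine Finset.sum_congr rfl fun ψ _ => ?_
    push_cast
    ring
  have hinner : ∀ φ φ' : IrrCharacter D, ∑ d : D, (φ : D → ℂ) d * conj ((φ' : D → ℂ) d) =
      if φ = φ' then (Nat.card D : ℂ) else 0 := by
    intro φ φ'
    have h1 := classInner_irrCharacter φ φ'
    rw [classInner_def, inv_mul_eq_iff_eq_mul₀ (Nat.cast_ne_zero.2 Nat.card_pos.ne')] at h1
    rw [h1]; split_ifs <;> simp
  refine ⟨e trivialIrr, (∑ φ, (e φ) ^ 2).toNat, ?_, ?_, ?_⟩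
  · calc ∑ d : D, (χ : G → ℂ) (x * ((d : Subgroup.centralizer ({x} : Set G)) : G))
        = ∑ φ, (e φ : ℂ) * ∑ d : D, (φ : D → ℂ) d * conj (((trivialIrr : IrrCharacter D) : D → ℂ) d) := by
          simp only [hθ, Finset.mul_sum]
          rw [Finset.sum_comm]
          simp [trivialIrr]
      _ = _ := by simp [hinner, mul_comm]
  · apply Complex.ofReal_injective
    have hS : ((∑ φ, (e φ) ^ 2).toNat : ℤ) = ∑ φ, (e φ) ^ 2 :=
      Int.toNat_of_nonneg (Finset.sum_nonneg fun φ _ => sq_nonneg _)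
    have hS' : (((∑ φ, (e φ) ^ 2).toNat : ℕ) : ℂ) = ∑ φ, (e φ : ℂ) * (e φ : ℂ) := by
      rw [← Int.cast_natCast, hS, Int.cast_sum]
      exact Finset.sum_congr rfl fun φ _ => by push_cast; ring
    push_cast
    rw [hS', Finset.mul_sum]
    calc ∑ d : D, ((Complex.normSq ((χ : G → ℂ)
            (x * ((d : Subgroup.centralizer ({x} : Set G)) : G))) : ℂ))
        = ∑ d : D, ∑ φ, ∑ φ', (e φ : ℂ) * (e φ' : ℂ) * ((φ : D → ℂ) d * conj ((φ' : D → ℂ) d)) := by
          refine Finset.sum_congr rfl fun d _ => ?_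
          rw [← Complex.mul_conj, hθ, map_sum, Finset.sum_mul]
          refine Finset.sum_congr rfl fun φ _ => ?_
          rw [Finset.mul_sum]
          refine Finset.sum_congr rfl fun φ' _ => ?_
          rw [map_mul, map_intCast]; ring
      _ = ∑ φ, ∑ φ', (e φ : ℂ) * (e φ' : ℂ) * ∑ d : D, (φ : D → ℂ) d * conj ((φ' : D → ℂ) d) := by
          rw [Finset.sum_comm]
          refine Finset.sum_congr rfl fun φ _ => ?_
          rw [Finset.sum_comm]
          simp only [Finset.mul_sum]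
      _ = _ := by
          refine Finset.sum_congr rfl fun φ _ => ?_
          simp only [hinner, mul_ite, mul_zero, Finset.sum_ite_eq, Finset.mem_univ, if_true]
          ring
  · intro hne h0
    have hle : ∑ φ, (e φ) ^ 2 ≤ 0 := Int.toNat_eq_zero.1 h0
    have hz : ∀ φ, e φ = 0 := fun φ => by
      have := Finset.single_le_sum (f := fun φ => (e φ) ^ 2) (fun φ _ => sq_nonneg _) (Finset.mem_univ φ)
      nlinarith [sq_nonneg (e φ)]
    have h1 := hθ 1
    simp [hz] at h1
    exact hne h1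

end Cfsg.Agent.H82.ConstDiff
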