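import Cfsg.Agent.H82.ConstDiff.Basic
import Cfsg.Agent.H82.ConstDiff.Quot
import Cfsg.Agent.H82.ConstDiff.Shift

/-!
# A nontrivial stabilizer on a Sylow subgroup of order at least sixteen
-/

set_option autoImplicit false
set_option linter.unusedSectionVars false
set_option linter.style.haveILetI false

open scoped ComplexConjugate

namespace Cfsg.Agent.H82.ConstDiff

open CharBasic BlockBasic Subgroup

universe u

theorem small_arith {n : ℕ} (hn : 4 ≤ n) :
    8 * 2 ^ (n / 3) ≤ 2 ^ n ∧ (n + 1) * 2 ^ (n / 3) < 2 ^ n ∧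
      (2 : ℤ) ^ (n / 3) + n * ((2 : ℤ) ^ (n / 3) - 1) ^ 2 < 2 ^ n := by
  have h8 : 8 * 2 ^ (n / 3) ≤ 2 ^ n := by
    rw [show (8 : ℕ) = 2 ^ 3 by norm_num, ← pow_add]
    exact Nat.pow_le_pow_right two_pos (by omega)
  by_cases hlt : n < 12
  · refine ⟨h8, ?_⟩
    interval_cases n <;> norm_num
  · obtain ⟨t, r, hr, rfl⟩ : ∃ t r, r < 3 ∧ n = 3 * t + r :=
      ⟨n / 3, n % 3, Nat.mod_lt _ (by norm_num), (Nat.div_add_mod n 3).symm⟩
    rw [show (3 * t + r) / 3 = t by omega] at h8 ⊢
    have key : ∀ s, 4 ≤ s → 3 * s + 3 < 2 ^ s := by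
      intro s hs
      induction s, hs using Nat.le_induction with
      | base => norm_num
      | succ s hs ih =>
        have h2 : 2 ≤ 2 ^ s := Nat.le_self_pow (by omega) 2
        rw [pow_succ]; omega
    have hk := key t (by omega)
    have h1 : 1 ≤ 2 ^ t := Nat.one_le_pow _ _ two_pos
    have hsplit : (2 : ℕ) ^ (3 * t + r) = 2 ^ t * 2 ^ t * 2 ^ t * 2 ^ r := by
      rw [← pow_add, ← pow_add, ← pow_add]; congr 1; omega
    have hr1 : 1 ≤ 2 ^ r := Nat.one_le_pow _ _ two_pos
    refine ⟨h8, ?_, ?_⟩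
    · rw [hsplit]
      calc (3 * t + r + 1) * 2 ^ t < 2 ^ t * 2 ^ t :=
            Nat.mul_lt_mul_of_pos_right (by omega) (by omega)
        _ = 2 ^ t * 2 ^ t * 1 * 1 := by ring
        _ ≤ 2 ^ t * 2 ^ t * 2 ^ t * 2 ^ r := Nat.mul_le_mul (Nat.mul_le_mul_left _ h1) hr1
    · have hz : ((2 : ℤ)) ^ (3 * t + r) = (2 : ℤ) ^ t * 2 ^ t * 2 ^ t * 2 ^ r := by
        exact_mod_cast hsplit
      rw [hz]
      have hK : (3 * (t : ℤ) + 3) < 2 ^ t := by exact_mod_cast hk
      have hR : (1 : ℤ) ≤ 2 ^ r := by exact_mod_cast hr1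
      have hrz : (r : ℤ) < 3 := by exact_mod_cast hr
      push_cast
      generalize (2 : ℤ) ^ t = K at hK ⊢
      generalize (2 : ℤ) ^ r = R at hR ⊢
      have hK1 : 1 ≤ K := by omega
      have h2 : (3 * (t : ℤ) + r) * (K - 1) ^ 2 ≤ (K - 1) * (K - 1) ^ 2 :=
        mul_le_mul_of_nonneg_right (by omega) (sq_nonneg _)
      have h3 : K * K * K ≤ K * K * K * R := le_mul_of_one_le_right (by positivity) hR
      nlinarith

/-- A sum of integers bounded below by minus one. -/
theorem sum_sq_bound {ι : Type*} (s : Finset ι) (a : ι → ℤ) (h : ∀ i ∈ s, -1 ≤ a i) :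
    0 ≤ ∑ i ∈ s, a i + (s.filter fun i => a i = -1).card ∧
      ∑ i ∈ s, a i * a i ≤ (s.filter fun i => a i = -1).card +
        (∑ i ∈ s, a i + (s.filter fun i => a i = -1).card) ^ 2 := by
  classical
  induction s using Finset.induction with
  | empty => simp
  | @insert j t hj ih =>
    obtain ⟨h1, h2⟩ := ih fun i hi => h i (Finset.mem_insert_of_mem hi)
    rw [Finset.sum_insert hj, Finset.sum_insert hj, Finset.filter_insert]
    by_cases hneg : a j = -1
    · rw [if_pos hneg, Finset.card_insert_of_notMem fun hm => hj (Finset.mem_filter.1 hm).1, hneg]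
      push_cast
      constructor
      · linarith
      · ring_nf; ring_nf at h2; linarith
    · rw [if_neg hneg]
      have ha : 0 ≤ a j := by have := h j (Finset.mem_insert_self j t); omega
      constructor
      · linarith
      · nlinarith [mul_nonneg ha h1]

variable {G : Type u} [Group G] [Fintype G] {M : Ideal AlgInt}

set_option maxHeartbeats 1000000 in
/-- A nontrivial stabilizer is impossible. -/
theorem big_case (hM : IsPModular 2 M) {w x y : G} {k : ℂ} (hk : Diff M w k) (hw : w = x * y)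
    (hcomm : Commute x y) (hx : orderOf x = 2) (hy : ¬ 2 ∣ orderOf y)
    (hconj : ∀ h : G, h ≠ 1 → (∃ e, orderOf h = 2 ^ e) → IsConj x h)
    (P : Sylow 2 G) (hxP : x ∈ (P : Subgroup G)) {n : ℕ} (hn : Nat.card (P : Subgroup G) = 2 ^ n)
    (h4 : 4 ≤ n)
    (hidx : ∀ S : Subgroup G, S ≤ normalizer ((P : Subgroup G) : Set G) → (∀ s ∈ S, s * x = x * s) →
      (centralizer ((P : Subgroup G) : Set G)).relIndex S ≤ n)
    (hfixed : ∀ s ∈ normalizer ((P : Subgroup G) : Set G), s * x = x * s →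
      s ∉ centralizer ((P : Subgroup G) : Set G) →
      Nat.card ↥((P : Subgroup G) ⊓ centralizer ({s} : Set G)) ≤ 2 ^ (n / 3))
    {s₀ : G} (hs₀ : s₀ ∈ normalizer ((P : Subgroup G) : Set G)) (hs₀x : s₀ * x = x * s₀)
    (hs₀C : s₀ ∉ centralizer ((P : Subgroup G) : Set G)) : False := by
  classical
  haveI : Fact (Nat.Prime 2) := ⟨Nat.prime_two⟩
  have hel := sylow_el P hconj hx
  haveI hab := isMulCommutative_of_el P hel
  have hx1 : x ≠ 1 := fun e => by rw [e, orderOf_one] at hx; omega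
  obtain ⟨har1, har2, har3⟩ := small_arith h4
  set C := centralizer ({x} : Set G) with hCdef
  have hle : (P : Subgroup G) ≤ C := fun v hv =>
    mem_centralizer_singleton_iff.2 (H86.Abelian.mul_comm_sylow P hv hxP)
  set Q : Sylow 2 C := P.subtype hle with hQ
  have hQel : ∀ v ∈ (Q : Subgroup C), v ^ 2 = 1 := fun v hv => Subtype.ext (by simpa using hel v hv)
  have hnorm : ∀ c : C, c ∈ normalizer ((Q : Subgroup C) : Set C) →
      (c : G) ∈ normalizer ((P : Subgroup G) : Set G) := by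
    intro c hc
    refine mem_normalizer_iff.2 fun v => ⟨fun hv => ?_, fun hv => ?_⟩
    · exact (mem_normalizer_iff.1 hc ⟨v, hle hv⟩).1 hv
    · have hv' : v ∈ C := by
        have := mul_mem (mul_mem (inv_mem c.2) (hle hv)) c.2
        simpa [mul_assoc] using this
      exact (mem_normalizer_iff.1 hc ⟨v, hv'⟩).2 hv
  have hcentQ : ∀ c : C, c ∈ centralizer ((Q : Subgroup C) : Set C) ↔
      (c : G) ∈ centralizer ((P : Subgroup G) : Set G) := by
    intro c
    simp only [mem_centralizer_iff, SetLike.mem_coe]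
    exact ⟨fun h v hv => congrArg Subtype.val (h ⟨v, hle hv⟩ hv),
      fun h v hv => Subtype.ext (h (v : G) hv)⟩
  have hrel : ∀ B : Subgroup C, B ≤ normalizer ((Q : Subgroup C) : Set C) →
      (centralizer ((Q : Subgroup C) : Set C)).relIndex B ≤ n := by
    intro B hB
    have e : centralizer ((Q : Subgroup C) : Set C) =
        (centralizer ((P : Subgroup G) : Set G)).comap C.subtype := Subgroup.ext fun c => hcentQ c
    rw [e, relIndex_comap]
    refine hidx _ ?_ ?_
    · rintro _ ⟨b, hb, rfl⟩; exact hnorm b (hB hb)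
    · rintro _ ⟨b, -, rfl⟩; exact mem_centralizer_singleton_iff.1 b.2
  have hsf : SmallFusion Q := by
    intro B hB hBC
    obtain ⟨b, hb, hbC⟩ := SetLike.not_le_iff_exists.1 hBC
    have hfx : Nat.card ↥((Q : Subgroup C) ⊓ centralizer (B : Set C)) ≤ 2 ^ (n / 3) := by
      refine le_trans ?_ (hfixed b (hnorm b (hB hb)) (mem_centralizer_singleton_iff.1 b.2)
        fun h => hbC ((hcentQ b).2 h))
      refine Nat.card_le_card_of_injective (fun v => ⟨((v : C) : G), v.2.1, ?_⟩) fun v v' h =>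
        Subtype.ext (Subtype.ext (congrArg (fun z : ↥((P : Subgroup G) ⊓ centralizer ({(b : G)} : Set G)) =>
          (z : G)) h))
      exact mem_centralizer_singleton_iff.2
        (congrArg Subtype.val (mem_centralizer_iff.1 v.2.2 b hb)).symm
    have hQc : Nat.card (Q : Subgroup C) = 2 ^ n := by
      rw [← hn]; exact Nat.card_congr (subgroupOfEquivOfLe hle).toEquiv
    rw [hQc]
    refine ⟨(Nat.mul_le_mul_left 8 hfx).trans har1, lt_of_le_of_lt ?_ har2⟩
    exact Nat.mul_le_mul (Nat.add_le_add_right (hrel B hB) 1) hfx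
  have hX := sup_normalizer_eq_top Q hQel hsf
  obtain ⟨D, hDN, hDodd, hdec⟩ := exists_complement Q hQel
  haveI : Fintype C := Fintype.ofFinite _
  haveI : Fintype D := Fintype.ofFinite _
  haveI hOchar : (pPrimeCore 2 C).Characteristic := Cores.pPrimeCore_characteristic
  set m := Nat.card (D.map (bar (X := C))) with hm
  have hker : ∀ g h : C, blockKernel (principalBlock M C) g h = if IsConj (bar g) (bar h) then
      (Nat.card (centralizer ({bar g} : Set (C ⧸ pPrimeCore 2 C))) : ℂ) else 0 := fun g h =>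
    kernel_bar Q hQel hX hDN hDodd hdec hM g h
  have hQcard : Nat.card (Q : Subgroup C) = 2 ^ n := by
    rw [← hn]; exact Nat.card_congr (subgroupOfEquivOfLe hle).toEquiv
  have hcq : Nat.card (C ⧸ pPrimeCore 2 C) = 2 ^ n * m := by
    rw [card_quot Q hQel hX hDN hDodd hdec, hQcard]
  have hmn : m ≤ n := by
    have h1 : m = (pPrimeCore 2 C).relIndex D := by
      have h := index_ker ((bar (X := C)).comp D.subtype)
      rw [MonoidHom.range_comp, range_subtype] at h
      rw [hm, ← h, relIndex]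
      congr 1
      ext d
      simp [MonoidHom.mem_ker, mem_subgroupOf]
    rw [h1, show (pPrimeCore 2 C).relIndex D = (centralizer ((Q : Subgroup C) : Set C)).relIndex D by
      rw [← inf_relIndex_right (pPrimeCore 2 C) D, ← inf_relIndex_right (centralizer _) D]
      congr 1
      ext d
      simp only [Subgroup.mem_inf]
      exact and_congr_left fun hd => mem_core_iff_centralizer Q hQel hX hDN hDodd hd]
    exact hrel D hDN
  -- a nontrivial element of the complement
  obtain ⟨d₀, hd₀, hd₀O⟩ : ∃ d ∈ D, d ∉ pPrimeCore 2 C := by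
    by_contra hall
    push Not at hall
    refine hs₀C ?_
    have hs₀' : (⟨s₀, mem_centralizer_singleton_iff.2 hs₀x⟩ : C) ∈
        normalizer ((Q : Subgroup C) : Set C) :=
      mem_normalizer_iff.2 fun v => mem_normalizer_iff.1 hs₀ (v : G)
    obtain ⟨p, hp, d, hd, e⟩ := hdec _ hs₀'
    rw [show s₀ = ((p * d : C) : G) from congrArg Subtype.val e, Subgroup.coe_mul]
    exact mul_mem (mem_centralizer_iff.2 fun v hv => H86.Abelian.mul_comm_sylow P hv hp)
      ((hcentQ d).1 ((mem_core_iff_centralizer Q hQel hX hDN hDodd hd).1 (hall d hd)))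
  -- values
  choose a ha _hpar using fun χ : IrrCharacter G => exists_int_even χ hx
  let deg : IrrCharacter G → ℤ := fun χ => (charDegree (χ : G → ℂ) : ℤ)
  have hdeg : ∀ χ : IrrCharacter G, (χ : G → ℂ) 1 = (deg χ : ℂ) := fun χ => by
    rw [apply_one_eq_charDegree]; simp [deg]
  have hcore : ∀ χ ∈ rest M G, ∀ c : C, c ∈ pPrimeCore 2 C →
      (χ : G → ℂ) (x * (c : G)) = (a χ : ℂ) := fun χ hχ c hc => by
    rw [← ha χ]
    exact Cores.principalBlock_apply_mul hM (e := 1) (by rw [hx, pow_one]) (mem_rest.1 hχ).2 _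
      Cores.not_dvd_card_pPrimeCore hc
  have hphi : ∀ c : C, c ∈ pPrimeCore 2 C → phi M (x * (c : G)) = ((∑ χ ∈ rest M G, a χ : ℤ) : ℂ) := by
    intro c hc
    rw [phi, Int.cast_sum]
    exact Finset.sum_congr rfl fun χ hχ => hcore χ hχ c hc
  have hphix : phi M x = ((∑ χ ∈ rest M G, a χ : ℤ) : ℂ) := by
    simpa using hphi 1 (one_mem _)
  have hyC : y ∈ C := mem_centralizer_singleton_iff.2 hcomm.eq.symm
  have hone : ¬ 2 ∣ orderOf (1 : C) := by rw [orderOf_one]; norm_num
  have hphine : phi M x ≠ 0 := phi_ne_zero hM (e := 1) (by rw [hx, pow_one]) hx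
  have hsx := section_eq hM hk hx hw hy hyC 1 hone
  rw [OneMemClass.coe_one, mul_one, hker, hphix, map_intCast] at hsx
  have hyO : (⟨y, hyC⟩ : C) ∈ pPrimeCore 2 C := by
    by_contra hyn
    rw [map_one, if_neg fun h => hyn (bar_eq_one.1 (isConj_one_left.1 h)), neg_zero, mul_eq_zero] at hsx
    rcases hsx with h | h
    · -- a vanishing difference
      have h1 := kernel_sub hM hk w
      rw [h, zero_mul, blockKernel_eq_zero_of_regular_of_singular hM (isPBlock_principalBlock M)
        (g := (1 : G)) (by rw [orderOf_one]; norm_num) ?_, zero_sub, neg_eq_zero, kernel_eq hM] at h1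
      · have h2 : (1 : ℝ) + ∑ χ ∈ rest M G, Complex.normSq ((χ : G → ℂ) w) = 0 := by
          apply Complex.ofReal_injective
          push_cast
          simpa only [Complex.mul_conj] using h1
        linarith [Finset.sum_nonneg fun χ (_ : χ ∈ rest M G) => Complex.normSq_nonneg ((χ : G → ℂ) w)]
      · by_contra hd
        have h3 : pPart (p := 2) w = x :=
          hw ▸ pPart_mul_of hcomm ⟨1, by rw [hx, pow_one]⟩ hy
        rw [(pPart_eq_one_iff _).2 hd] at h3
        exact hx1 h3.symm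
    · exact hphine (by rw [hphix, h])
  have hbary : bar (⟨y, hyC⟩ : C) = 1 := bar_eq_one.2 hyO
  have hK1 : (Nat.card (centralizer ({(1 : C ⧸ pPrimeCore 2 C)} : Set (C ⧸ pPrimeCore 2 C))) : ℂ) =
      ((2 ^ n * m : ℕ) : ℂ) := by
    rw [← hcq, show centralizer ({(1 : C ⧸ pPrimeCore 2 C)} : Set (C ⧸ pPrimeCore 2 C)) = ⊤ by
      ext; simp [mem_centralizer_singleton_iff], card_top]
  rw [hbary, map_one, if_pos (IsConj.refl _), hK1] at hsx
  -- the difference
  have hw1 : ∀ χ ∈ rest M G, (χ : G → ℂ) w = (a χ : ℂ) := fun χ hχ => by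
    rw [hw]; exact hcore χ hχ ⟨y, hyC⟩ hyO
  obtain ⟨ψ, hψ⟩ : (rest M G).Nonempty := by
    rw [Finset.nonempty_iff_ne_empty]
    intro e
    exact hphine (by rw [phi, e, Finset.sum_empty])
  set kz : ℤ := deg ψ - a ψ
  have hkz : k = (kz : ℂ) := by
    rw [← hk ψ (mem_rest.1 hψ).2 (mem_rest.1 hψ).1, hw1 ψ hψ, hdeg]; simp [kz]
  have hdiff : ∀ χ ∈ rest M G, deg χ = kz + a χ := fun χ hχ => by
    have h := hk χ (mem_rest.1 hχ).2 (mem_rest.1 hχ).1
    rw [hw1 χ hχ, hdeg, hkz] at h
    have h' : deg χ - a χ = kz := by exact_mod_cast h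
    omega
  have hval : ∀ (χ : IrrCharacter G) (v : G), v ∈ (P : Subgroup G) → v ≠ 1 →
      (χ : G → ℂ) v = (a χ : ℂ) := by
    intro χ v hv hv1
    obtain ⟨e, -, rfl⟩ := sylow_trans P hconj hxP hx1 hv hv1
    rw [IsIrr.isClassFunction χ.2, ha]
  have hdvd : ∀ χ : IrrCharacter G, ∃ N : ℕ, deg χ + ((2 : ℤ) ^ n - 1) * a χ = (2 : ℤ) ^ n * N := by
    intro χ
    haveI := Fintype.ofFinite (P : Subgroup G)
    obtain ⟨N, hN⟩ := isIrr_sum_sylow χ (P : Subgroup G)
    refine ⟨N, ?_⟩
    rw [← Finset.sum_erase_add _ _ (Finset.mem_univ (1 : (P : Subgroup G))),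
      Finset.sum_congr rfl (g := fun _ => (a χ : ℂ)) fun z hz => by
        rw [hval χ z z.2 fun e => Finset.ne_of_mem_erase hz (Subtype.ext e)],
      Finset.sum_const, Finset.card_erase_of_mem (Finset.mem_univ _), Finset.card_univ,
      ← Nat.card_eq_fintype_card, hn, OneMemClass.coe_one, hdeg, nsmul_eq_mul] at hN
    apply Int.cast_injective (α := ℂ)
    push_cast [Nat.cast_sub (Nat.one_le_two_pow (n := n))] at hN ⊢
    linear_combination hN
  choose N hN using hdvd
  set β : ℤ := (N ψ : ℤ) - a ψ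
  have hq0 : (2 : ℤ) ^ n ≠ 0 := pow_ne_zero _ two_ne_zero
  have hkβ : kz = 2 ^ n * β := by simp only [kz, β]; linear_combination hN ψ
  set A : ℤ := ∑ χ ∈ rest M G, a χ
  have hA : β * A = -(m : ℤ) := by
    apply mul_left_cancel₀ hq0
    rw [hkz] at hsx
    have h : kz * A = -((2 : ℤ) ^ n * m) := by exact_mod_cast hsx
    rw [hkβ] at h
    linear_combination h
  -- integrality over the complement
  have hDreg : ∀ d : D, ¬ 2 ∣ orderOf (d : C) := fun d h => by
    have := H29.AbTwo.odd_orderOf_of_mem hDodd d.2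
    rw [Nat.odd_iff] at this
    omega
  have hm0 : 0 < m := Nat.card_pos
  have hsum : ∃ R : ℤ, A = (m : ℤ) * R := by
    choose R S hR hS _hS0 using fun χ : IrrCharacter G => shift_norm χ hx D
    refine ⟨∑ χ ∈ rest M G, R χ, ?_⟩
    have h1 : ∑ d : D, phi M (x * ((d : C) : G)) =
        (Nat.card D : ℂ) * ((∑ χ ∈ rest M G, R χ : ℤ) : ℂ) := by
      simp only [phi]
      rw [Finset.sum_comm, Finset.sum_congr rfl fun χ _ => hR χ, Int.cast_sum, Finset.mul_sum]
    have h2 : ∀ d : D, (d : C) ∉ pPrimeCore 2 C → phi M (x * ((d : C) : G)) = 0 := by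
      intro d hd
      have h := section_eq hM hk hx hw hy hyC (d : C) (hDreg d)
      rw [hker, hbary, if_neg fun h => hd (bar_eq_one.1 (isConj_one_right.1 h)), neg_zero,
        mul_eq_zero] at h
      rcases h with h | h
      · rw [h, zero_mul] at hsx
        have : ((2 ^ n * m : ℕ) : ℂ) = 0 := neg_eq_zero.1 hsx.symm
        rw [Nat.cast_eq_zero] at this
        exact absurd this (Nat.mul_ne_zero (pow_ne_zero _ two_ne_zero) hm0.ne')
      · exact (map_eq_zero _).1 h
    rw [← Finset.sum_filter_add_sum_filter_not Finset.univ (fun d : D => (d : C) ∈ pPrimeCore 2 C),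
      Finset.sum_eq_zero (s := Finset.univ.filter fun d : D => ¬ (d : C) ∈ pPrimeCore 2 C)
        fun d hd => h2 d (Finset.mem_filter.1 hd).2, add_zero,
      Finset.sum_congr rfl (g := fun _ => ((A : ℤ) : ℂ)) fun d hd => by
        exact hphi (d : C) (Finset.mem_filter.1 hd).2, Finset.sum_const,
      nsmul_eq_mul, ← Fintype.card_subtype, ← Nat.card_eq_fintype_card] at h1
    have hj : Nat.card D = m * Nat.card {d : D // (d : C) ∈ pPrimeCore 2 C} := by
      have h := card_mul_index ((bar (X := C)).comp D.subtype).ker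
      rw [index_ker, MonoidHom.range_comp, range_subtype] at h
      rw [← h, mul_comm, hm]
      congr 1
      exact Nat.card_congr (Equiv.subtypeEquivRight fun d => by simp [MonoidHom.mem_ker])
    rw [hj, Nat.cast_mul] at h1
    have hjne : (Nat.card {d : D // (d : C) ∈ pPrimeCore 2 C} : ℂ) ≠ 0 :=
      Nat.cast_ne_zero.2 (Nat.card_ne_zero.2 ⟨⟨⟨1, one_mem _⟩⟩, inferInstance⟩)
    apply Int.cast_injective (α := ℂ)
    push_cast
    apply mul_left_cancel₀ hjne
    push_cast at h1
    linear_combination h1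
  obtain ⟨R, hR⟩ := hsum
  have hmz : (m : ℤ) ≠ 0 := by exact_mod_cast hm0.ne'
  have hβ1 : β = 1 ∨ β = -1 := by
    refine Int.eq_one_or_neg_one_of_mul_eq_neg_one (mul_left_cancel₀ hmz ?_ : β * R = -1)
    rw [hR] at hA
    linear_combination hA
  -- the squares
  have hsq : (1 : ℤ) + ∑ χ ∈ rest M G, a χ * a χ = (2 : ℤ) ^ n * m := by
    have h := Nine.principal_section_kernel hM (e := 1) (x := x) (by rw [hx, pow_one]) (1 : C) 1 hone hone
    rw [hker, map_one, if_pos (IsConj.refl _), hK1, OneMemClass.coe_one, mul_one, kernel_eq hM] at h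
    simp only [ha, map_intCast] at h
    exact_mod_cast h
  have hsmall : ∀ χ ∈ rest M G, a χ * a χ < (2 : ℤ) ^ n * m := fun χ hχ => by
    have := Finset.single_le_sum (f := fun χ => a χ * a χ) (fun χ _ => mul_self_nonneg _) hχ
    linarith
  have hdpos : 0 < deg ψ := by
    show (0 : ℤ) < (charDegree (ψ : G → ℂ) : ℤ)
    exact_mod_cast charDegree_pos ψ
  have hmq : (m : ℤ) < 2 ^ n := by
    have h1 : m < 2 ^ n := hmn.trans_lt n.lt_two_pow_self
    exact_mod_cast h1
  have hβ : β = 1 := by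
    rcases hβ1 with e | e
    · exact e
    · exfalso
      have h1 := hdiff ψ hψ
      rw [hkβ, e] at h1
      have := hsmall ψ hψ
      have h2 : (2 : ℤ) ^ n < a ψ := by linarith
      nlinarith [mul_pos (show (0:ℤ) < 2 ^ n by positivity) (show (0:ℤ) < 2 ^ n - m by omega)]
  rw [hβ, one_mul] at hA
  rw [hβ, mul_one] at hkβ
  have hlow : ∀ χ ∈ rest M G, -1 ≤ a χ := by
    intro χ hχ
    have h1 := hN χ
    rw [hdiff χ hχ, hkβ] at h1
    have h2 : (N χ : ℤ) = 1 + a χ := mul_left_cancel₀ hq0 (by linear_combination -h1)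
    omega
  obtain ⟨hb1, hb2⟩ := sum_sq_bound (rest M G) a hlow
  set neg := ((rest M G).filter fun χ => a χ = -1).card with hneg
  -- the norms off the core
  set K0 : ℕ := 2 ^ (n / 3)
  set J := Finset.univ.filter fun d : D => ¬ (d : C) ∈ pPrimeCore 2 C with hJ
  have hrow : ∀ χ ∈ rest M G, a χ = -1 →
      (J.card : ℝ) ≤ ∑ d ∈ J, Complex.normSq ((χ : G → ℂ) (x * ((d : C) : G))) := by
    intro χ hχ hneg'
    obtain ⟨R', S, -, hS, hS0⟩ := shift_norm χ hx D
    have hS1 : (1 : ℝ) ≤ S := by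
      exact_mod_cast Nat.one_le_iff_ne_zero.2 (hS0 (by rw [ha, hneg']; simp))
    rw [← Finset.sum_filter_add_sum_filter_not Finset.univ (fun d : D => (d : C) ∈ pPrimeCore 2 C),
      ← hJ, Finset.sum_congr rfl (g := fun _ => (1 : ℝ)) fun d hd => by
        rw [hcore χ hχ (d : C) (Finset.mem_filter.1 hd).2, hneg']; simp,
      Finset.sum_const, nsmul_eq_mul, mul_one] at hS
    have hc : (Nat.card D : ℝ) =
        ((Finset.univ.filter fun d : D => (d : C) ∈ pPrimeCore 2 C).card : ℝ) + (J.card : ℝ) := by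
      rw [Nat.card_eq_fintype_card, ← Finset.card_univ, hJ, ← Nat.cast_add]
      exact congrArg Nat.cast (Finset.card_filter_add_card_filter_not _).symm
    have : (Nat.card D : ℝ) ≤ (Nat.card D : ℝ) * S := le_mul_of_one_le_right (Nat.cast_nonneg _) hS1
    linarith
  have hcol : ∀ d ∈ J, (1 : ℝ) + ∑ χ ∈ rest M G, Complex.normSq ((χ : G → ℂ) (x * ((d : C) : G))) ≤
      ((K0 * m : ℕ) : ℝ) := by
    intro d hd
    have hdO := (Finset.mem_filter.1 hd).2
    have h := Nine.principal_section_kernel hM (e := 1) (x := x) (by rw [hx, pow_one]) (d : C) (d : C)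
      (hDreg d) (hDreg d)
    rw [hker, if_pos (IsConj.refl _), kernel_eq hM] at h
    have h' : (1 : ℝ) + ∑ χ ∈ rest M G, Complex.normSq ((χ : G → ℂ) (x * ((d : C) : G))) =
        (Nat.card (centralizer ({bar (d : C)} : Set (C ⧸ pPrimeCore 2 C))) : ℝ) := by
      apply Complex.ofReal_injective
      push_cast
      simpa only [Complex.mul_conj] using h
    rw [h']
    refine Nat.cast_le.2 ((card_centralizer_le Q hQel hX hDN hDodd hdec d.2).trans
      (Nat.mul_le_mul_right _ ?_))
    refine le_trans ?_ (hfixed ((d : C) : G) (hnorm _ (hDN d.2))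
      (mem_centralizer_singleton_iff.1 (d : C).2)
      fun h => hdO ((mem_core_iff_centralizer Q hQel hX hDN hDodd d.2).2 ((hcentQ _).2 h)))
    refine Nat.card_le_card_of_injective (fun v => ⟨((v : C) : G), v.2.1, ?_⟩) fun v v' h =>
      Subtype.ext (Subtype.ext (congrArg (fun z : ↥((P : Subgroup G) ⊓
        centralizer ({((d : C) : G)} : Set G)) => (z : G)) h))
    exact mem_centralizer_singleton_iff.2
      (congrArg Subtype.val (mem_centralizer_singleton_iff.1 v.2.2))
  have hJpos : 0 < J.card := Finset.card_pos.2 ⟨⟨d₀, hd₀⟩, Finset.mem_filter.2 ⟨Finset.mem_univ _, hd₀O⟩⟩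
  have hnegle : (neg : ℤ) + 1 ≤ (K0 : ℤ) * m := by
    have h1 := Finset.sum_le_sum hcol
    rw [Finset.sum_add_distrib, Finset.sum_const, Finset.sum_const, nsmul_eq_mul, nsmul_eq_mul,
      mul_one, Finset.sum_comm] at h1
    have h2 : (neg : ℝ) * (J.card : ℝ) ≤
        ∑ χ ∈ rest M G, ∑ d ∈ J, Complex.normSq ((χ : G → ℂ) (x * ((d : C) : G))) := by
      refine le_trans ?_ (Finset.sum_le_sum_of_subset_of_nonneg (Finset.filter_subset (fun χ => a χ = -1) _)
        fun χ _ _ => Finset.sum_nonneg fun d _ => Complex.normSq_nonneg _)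
      rw [hneg, ← nsmul_eq_mul]
      exact Finset.card_nsmul_le_sum _ _ _ fun χ hχ =>
        hrow χ (Finset.mem_filter.1 hχ).1 (Finset.mem_filter.1 hχ).2
    have h3 : (J.card : ℝ) * ((neg : ℝ) + 1) ≤ (J.card : ℝ) * ((K0 * m : ℕ) : ℝ) := by linarith
    have h4 := le_of_mul_le_mul_left h3 (by exact_mod_cast hJpos)
    exact_mod_cast h4
  have hmnz : (m : ℤ) ≤ n := by exact_mod_cast hmn
  have hKz : (K0 : ℤ) = (2 : ℤ) ^ (n / 3) := by simp [K0]
  rw [hKz] at hnegle
  have hm1 : (1 : ℤ) ≤ m := by omega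
  generalize (2 : ℤ) ^ (n / 3) = K at har3 hnegle
  generalize (2 : ℤ) ^ n = q at har3 hsq
  have hT : A + neg ≤ (m : ℤ) * (K - 1) := by nlinarith
  have hT2 : (A + neg) ^ 2 ≤ ((m : ℤ) * (K - 1)) ^ 2 := pow_le_pow_left₀ hb1 hT 2
  have h5 : q * m ≤ (m : ℤ) * (K + m * (K - 1) ^ 2) := by
    have e : ((m : ℤ) * (K - 1)) ^ 2 = (m : ℤ) * (m * (K - 1) ^ 2) := by ring
    linarith
  have h6 : (m : ℤ) * q ≤ (m : ℤ) * (K + m * (K - 1) ^ 2) := by linarith
  have h7 := le_of_mul_le_mul_left h6 (by omega)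
  nlinarith [mul_le_mul_of_nonneg_right hmnz (sq_nonneg (K - 1))]

end Cfsg.Agent.H82.ConstDiff
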