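import Cfsg.Agent.H82.FreePoint.Frob

/-!
# Groups of order two and linear fractional groups: degree minus value at an involution
-/

set_option autoImplicit false
set_option linter.unusedSectionVars false
set_option linter.style.haveILetI false

open scoped ComplexConjugate

namespace Cfsg.Agent.H82.ConstDiff

open CharBasic BlockBasic

universe u

variable {Y : Type u} [Group Y] [Finite Y]

/-- In a group of order two the difference is two. -/
theorem order_two_diff (hc : Nat.card Y = 2) {w : Y} (hw : w ≠ 1) (χ : IrrCharacter Y)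
    (hχ : χ ≠ trivialIrr) : (χ : Y → ℂ) 1 - (χ : Y → ℂ) w = 2 := by
  classical
  haveI : Fintype Y := Fintype.ofFinite Y
  have huniv : (Finset.univ : Finset Y) = {1, w} := by
    refine (Finset.eq_univ_of_card _ ?_).symm
    rw [Finset.card_pair hw.symm, ← Nat.card_eq_fintype_card, hc]
  have h0 := classInner_irr_of_ne χ.2 isIrrCharacter_one fun e => hχ (Subtype.ext e)
  have h1 := classInner_irr_self χ.2
  rw [classInner_def, huniv, Finset.sum_pair hw.symm, hc] at h0 h1
  simp only [map_one, mul_one] at h0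
  have hneg : (χ : Y → ℂ) w = -(χ : Y → ℂ) 1 := by linear_combination 2 * h0
  rw [hneg, apply_one_eq_charDegree] at h1 ⊢
  simp only [map_neg, neg_mul_neg, Complex.conj_natCast] at h1
  have h2 : ((charDegree (χ : Y → ℂ) * charDegree (χ : Y → ℂ) : ℕ) : ℂ) = ((1 : ℕ) : ℂ) := by
    push_cast
    linear_combination h1
  have h3 : charDegree (χ : Y → ℂ) * charDegree (χ : Y → ℂ) = 1 := Nat.cast_injective h2
  rw [Nat.eq_one_of_mul_eq_one_right h3]
  norm_num

/-- In `PSL(2, q)` with `q` even the difference at an involution is `q`. -/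
theorem psl_diff (F : Type) [Field F] [Fintype F] {n : ℕ} (hn : 2 ≤ n)
    (hF : Fintype.card F = 2 ^ n) (φ : Y ≃* Matrix.ProjectiveSpecialLinearGroup (Fin 2) F)
    {w : Y} (hw : w ≠ 1) (hw2 : w ^ 2 = 1) (χ₀ : IrrCharacter Y) (hχ₀ : χ₀ ≠ trivialIrr) :
    (χ₀ : Y → ℂ) 1 - (χ₀ : Y → ℂ) w = (2 : ℂ) ^ n := by
  classical
  haveI : Fintype Y := Fintype.ofFinite Y
  set q := Fintype.card F with hqdef
  have hq4 : 4 ≤ q := by
    rw [hF]
    exact le_of_eq_of_le (by norm_num) (Nat.pow_le_pow_right two_pos hn)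
  have hev : Fintype.card F % 2 = 0 := by
    rw [← hqdef, hF]
    exact Nat.mod_eq_zero_of_dvd (dvd_pow_self 2 (by omega : n ≠ 0))
  haveI hchar : CharP F 2 := ringChar.of_eq (FiniteField.even_card_iff_char_two.2 hev)
  have h2 : (2 : F) = 0 := CharTwo.two_eq_zero
  have hgcd : Nat.gcd 2 (Fintype.card F - 1) = 1 := by
    rw [← Nat.coprime_iff_gcd_eq_one, Nat.Prime.coprime_iff_not_dvd Nat.prime_two]
    omega
  have hZ : Subgroup.center (Matrix.SpecialLinearGroup (Fin 2) F) = ⊥ := by
    rw [← Subgroup.card_eq_one, Linear.card_center_SL, Fintype.card_fin, hgcd]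
  let ψ : Y ≃* Matrix.SpecialLinearGroup (Fin 2) F :=
    φ.trans ((QuotientGroup.quotientMulEquivOfEq hZ).trans QuotientGroup.quotientBot)
  haveI : Nontrivial (Fin 2) := inferInstance
  haveI : IsSimpleGroup (Matrix.ProjectiveSpecialLinearGroup (Fin 2) F) :=
    Linear.isSimpleGroup_PSL_fin le_rfl fun _ => by rw [Nat.card_eq_fintype_card]; omega
  haveI : IsSimpleGroup Y := φ.isSimpleGroup
  have hcardY : Nat.card Y = q * (q ^ 2 - 1) := by
    rw [Nat.card_congr ψ.toEquiv, Linear.card_SL_two]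
  have hclasses : Nat.card (IrrCharacter Y) = q + 1 := by
    rw [card_irrCharacter, ← Linear.card_conjClasses_char_two (F := F) h2]
    exact Nat.card_congr
      { toFun := ConjClasses.map ψ.toMonoidHom
        invFun := ConjClasses.map ψ.symm.toMonoidHom
        left_inv := fun C => by
          obtain ⟨g, rfl⟩ := C.exists_rep
          show ConjClasses.mk (ψ.symm (ψ g)) = _; rw [MulEquiv.symm_apply_apply]
        right_inv := fun C => by
          obtain ⟨g, rfl⟩ := C.exists_rep
          show ConjClasses.mk (ψ (ψ.symm g)) = _; rw [MulEquiv.apply_symm_apply] }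
  -- the shape of an involution
  have hshape : ∀ v : Y, v ≠ 1 → v ^ 2 = 1 →
      ¬ Linear.IsScalarTwo ((ψ v : Matrix.SpecialLinearGroup (Fin 2) F) : Matrix (Fin 2) (Fin 2) F) ∧
      ((ψ v : Matrix.SpecialLinearGroup (Fin 2) F) : Matrix (Fin 2) (Fin 2) F).trace = 2 := by
    intro v hv1 hv2
    set g := ψ v
    have hg1 : g ≠ 1 := fun e => hv1 (ψ.injective (by rw [map_one]; exact e))
    have hgg : g * g = 1 := by rw [← map_mul, ← sq, hv2, map_one]
    refine ⟨fun hs => ?_, ?_⟩
    · have hneg : (-1 : Matrix.SpecialLinearGroup (Fin 2) F) = 1 := by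
        refine Subtype.ext ?_
        ext i j
        simp [CharTwo.neg_eq]
      rcases Linear.isScalarTwo_SL_iff.1 hs with h | h
      · exact hg1 h
      · exact hg1 (h.trans hneg)
    · have e := congrArg (fun z : Matrix.SpecialLinearGroup (Fin 2) F =>
        ((z : Matrix (Fin 2) (Fin 2) F))) hgg
      simp only [Matrix.SpecialLinearGroup.coe_mul, Matrix.SpecialLinearGroup.coe_one] at e
      have e00 := congrFun (congrFun e 0) 0
      have e11 := congrFun (congrFun e 1) 1
      simp [Matrix.mul_apply, Fin.sum_univ_two] at e00 e11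
      have hd := Linear.SL_det_two g
      rw [Matrix.trace_fin_two]
      by_contra ht
      rw [h2] at ht
      have k0 : (g : Matrix (Fin 2) (Fin 2) F) 0 0 = 0 := by
        refine (mul_eq_zero.1 ?_).resolve_right ht
        linear_combination e00 + hd + h2
      have k1 : (g : Matrix (Fin 2) (Fin 2) F) 1 1 = 0 := by
        refine (mul_eq_zero.1 ?_).resolve_right ht
        linear_combination e11 + hd + h2
      exact ht (by rw [k0, k1, add_zero])
  obtain ⟨hns, htr⟩ := hshape w hw hw2
  -- all involutions are conjugate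
  have hconj : ∀ v : Y, v ≠ 1 → v ^ 2 = 1 → IsConj w v := by
    intro v hv1 hv2
    obtain ⟨b, hb, hbg⟩ := Linear.exists_conj_upSL hns htr
    obtain ⟨c, hc, hcg⟩ := Linear.exists_conj_upSL (hshape v hv1 hv2).1 (hshape v hv1 hv2).2
    have h := hbg.symm.trans (((Linear.isConj_upSL_iff_isSquare hb hc).2
      (FiniteField.isSquare_of_char_two (ringChar.eq F 2) _)).trans hcg)
    obtain ⟨d, hd⟩ := isConj_iff.1 h
    refine isConj_iff.2 ⟨ψ.symm d, ψ.injective ?_⟩
    rw [map_mul, map_mul, map_inv, MulEquiv.apply_symm_apply, hd]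
  -- the centralizer
  set T := Subgroup.centralizer ({w} : Set Y)
  have hmemT : ∀ c : Y, c ∈ T ↔ ψ c ∈ Subgroup.centralizer
      ({ψ w} : Set (Matrix.SpecialLinearGroup (Fin 2) F)) := fun c => by
    simp only [T, Subgroup.mem_centralizer_singleton_iff, ← map_mul, ψ.injective.eq_iff]
  have hTcard : Nat.card T = q := by
    have h := Linear.card_centralizer_unipotent hns htr
    rw [Linear.card_sq_eq_one_char_two h2, one_mul] at h
    exact (Nat.card_congr (ψ.toEquiv.subtypeEquiv hmemT)).trans h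
  have hTel : ∀ c ∈ T, c ^ 2 = 1 := by
    intro c hc
    obtain ⟨a, b, hab⟩ := (Linear.mem_centralizer_SL_two hns).1 ((hmemT c).1 hc)
    refine ψ.injective ?_
    rw [map_one, map_pow, sq]
    refine Subtype.ext ?_
    have hd := (ψ c).2
    rw [hab, Linear.det_smul_add_smul, (ψ w).2, htr, h2] at hd
    have hww : ((ψ w : Matrix.SpecialLinearGroup (Fin 2) F) : Matrix (Fin 2) (Fin 2) F) *
        ((ψ w : Matrix.SpecialLinearGroup (Fin 2) F) : Matrix (Fin 2) (Fin 2) F) = 1 := by
      rw [← Matrix.SpecialLinearGroup.coe_mul, ← map_mul, ← sq, hw2, map_one,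
        Matrix.SpecialLinearGroup.coe_one]
    rw [Matrix.SpecialLinearGroup.coe_mul, Matrix.SpecialLinearGroup.coe_one, hab]
    simp only [add_mul, mul_add, smul_mul_assoc, mul_smul_comm, Matrix.one_mul, Matrix.mul_one,
      smul_smul, hww]
    ext i j
    simp only [Matrix.add_apply, Matrix.smul_apply, smul_eq_mul]
    linear_combination (1 : Matrix (Fin 2) (Fin 2) F) i j * hd +
      a * b * ((ψ w : Matrix.SpecialLinearGroup (Fin 2) F) : Matrix (Fin 2) (Fin 2) F) i j * h2
  have hwo : orderOf w = 2 :=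
    haveI : Fact (Nat.Prime 2) := ⟨Nat.prime_two⟩
    orderOf_eq_prime hw2 hw
  choose s hs using fun χ : IrrCharacter Y => FreePoint.exists_int χ hwo
  let d : IrrCharacter Y → ℤ := fun χ => (charDegree (χ : Y → ℂ) : ℤ)
  have hd : ∀ χ : IrrCharacter Y, (χ : Y → ℂ) 1 = (d χ : ℂ) := fun χ => by
    rw [apply_one_eq_charDegree]; simp [d]
  have hdvd : ∀ χ, ∃ N : ℕ, d χ + ((q : ℤ) - 1) * s χ = (q : ℤ) * N := by
    intro χ
    haveI := Fintype.ofFinite T
    obtain ⟨N, hN⟩ := FreePoint.exists_sum_subgroup T χ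
    refine ⟨N, ?_⟩
    rw [← Finset.sum_erase_add _ _ (Finset.mem_univ (1 : T)),
      Finset.sum_congr rfl (g := fun _ => (s χ : ℂ)) fun c hc => by
        obtain ⟨e, he⟩ := isConj_iff.1 (hconj (c : Y)
          (fun h => Finset.ne_of_mem_erase hc (Subtype.ext h)) (hTel c c.2))
        rw [← hs χ, ← he, IsIrr.isClassFunction χ.2],
      Finset.sum_const, Finset.card_erase_of_mem (Finset.mem_univ _), Finset.card_univ,
      ← Nat.card_eq_fintype_card, hTcard, OneMemClass.coe_one, hd, nsmul_eq_mul] at hN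
    apply Int.cast_injective (α := ℂ)
    have h1 : 1 ≤ q := by omega
    push_cast [Nat.cast_sub h1] at hN ⊢
    linear_combination hN
  have hsum : ∑ χ : IrrCharacter Y, (d χ - s χ) * (d χ - s χ) = (q : ℤ) ^ 3 := by
    apply Int.cast_injective (α := ℂ)
    have e1 := sum_sq_degree (G := Y)
    have e2 := second_orthogonality_self (G := Y) w
    have e3 := sum_degree_mul_apply (G := Y) w
    rw [if_neg hw] at e3
    rw [hTcard] at e2
    simp only [hd, hs, map_intCast] at e1 e2 e3
    rw [hcardY] at e1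
    have h1 : 1 ≤ q ^ 2 := Nat.one_le_pow _ _ (by omega)
    push_cast [Nat.cast_sub h1] at e1 ⊢
    calc ∑ χ : IrrCharacter Y, ((d χ : ℂ) - (s χ : ℂ)) * ((d χ : ℂ) - (s χ : ℂ))
        = ∑ χ : IrrCharacter Y, ((d χ : ℂ) ^ 2 - 2 * ((d χ : ℂ) * (s χ : ℂ)) +
          (s χ : ℂ) * (s χ : ℂ)) := Finset.sum_congr rfl fun χ _ => by ring
      _ = (q : ℂ) ^ 3 := by
        rw [Finset.sum_add_distrib, Finset.sum_sub_distrib, ← Finset.mul_sum, e1, e2, e3]; ring
  have hs2 : ∑ χ : IrrCharacter Y, s χ * s χ = (q : ℤ) := by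
    apply Int.cast_injective (α := ℂ)
    have e2 := second_orthogonality_self (G := Y) w
    rw [hTcard] at e2
    simp only [hs, map_intCast] at e2
    push_cast
    exact e2
  have hfaith : ∀ χ : IrrCharacter Y, χ ≠ trivialIrr → d χ ≠ s χ := by
    intro χ hχ heq
    obtain ⟨K, hKn, hK, -⟩ := IsChar.exists_kernel (IsIrr.isCharacter χ.2)
    rcases hKn.eq_bot_or_eq_top with h | h
    · have hwK : w ∈ K := (hK w).2 (by rw [hd χ, hs χ, heq])
      rw [h, Subgroup.mem_bot] at hwK
      exact hw hwK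
    · have hconst : ∀ g : Y, (χ : Y → ℂ) g = (d χ : ℂ) := fun g => by
        rw [← hd χ]; exact (hK g).1 (h ▸ Subgroup.mem_top g)
      have h0 := classInner_irr_of_ne χ.2 isIrrCharacter_one (fun e => hχ (Subtype.ext e))
      rw [classInner_def] at h0
      simp only [hconst, map_one, mul_one, Finset.sum_const, nsmul_eq_mul] at h0
      rw [Finset.card_univ, ← Nat.card_eq_fintype_card, ← mul_assoc,
        inv_mul_cancel₀ (Nat.cast_ne_zero.2 Nat.card_pos.ne'), one_mul, ← hd χ] at h0
      exact IsIrr.one_ne_zero χ.2 h0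
  choose N hN using hdvd
  let j : IrrCharacter Y → ℤ := fun χ => (N χ : ℤ) - s χ
  have hj : ∀ χ, d χ - s χ = (q : ℤ) * j χ := fun χ => by
    simp only [j]; linear_combination hN χ
  have hqz : (q : ℤ) ≠ 0 := by omega
  have hjs : ∑ χ ∈ Finset.univ.erase (trivialIrr : IrrCharacter Y), j χ * j χ = (q : ℤ) := by
    apply mul_left_cancel₀ (pow_ne_zero 2 hqz)
    rw [Finset.mul_sum]
    have htriv : d (trivialIrr : IrrCharacter Y) - s (trivialIrr : IrrCharacter Y) = 0 := by
      rw [sub_eq_zero]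
      exact Int.cast_injective (α := ℂ) ((hd trivialIrr).symm.trans (hs trivialIrr))
    rw [← pow_succ, ← hsum, ← Finset.sum_erase Finset.univ
      (f := fun χ => (d χ - s χ) * (d χ - s χ)) (a := (trivialIrr : IrrCharacter Y)) (by rw [htriv]; rfl)]
    exact Finset.sum_congr rfl fun χ _ => by rw [hj χ]; ring
  have hone : ∀ χ ∈ Finset.univ.erase (trivialIrr : IrrCharacter Y), j χ * j χ = 1 := by
    have hne : ∀ χ ∈ Finset.univ.erase (trivialIrr : IrrCharacter Y), 1 ≤ j χ * j χ := by
      intro χ hχ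
      have h0 : j χ ≠ 0 := fun e => hfaith χ (Finset.ne_of_mem_erase hχ)
        (sub_eq_zero.1 (by rw [hj χ, e, mul_zero]))
      nlinarith [Int.one_le_abs h0, sq_abs (j χ), abs_nonneg (j χ)]
    intro χ hχ
    refine le_antisymm ?_ (hne χ hχ)
    by_contra hlt
    have h1 : ∑ χ ∈ Finset.univ.erase (trivialIrr : IrrCharacter Y), (1 : ℤ) <
        ∑ χ ∈ Finset.univ.erase (trivialIrr : IrrCharacter Y), j χ * j χ :=
      Finset.sum_lt_sum hne ⟨χ, hχ, by omega⟩
    rw [hjs, Finset.sum_const, Finset.card_erase_of_mem (Finset.mem_univ _), Finset.card_univ,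
      ← Nat.card_eq_fintype_card, hclasses, nsmul_eq_mul, mul_one] at h1
    omega
  have hj1 : j χ₀ = 1 := by
    rcases mul_self_eq_one_iff.1 (hone χ₀ (Finset.mem_erase.2 ⟨hχ₀, Finset.mem_univ _⟩)) with e | e
    · exact e
    · exfalso
      have h1 : s χ₀ * s χ₀ ≤ (q : ℤ) := hs2 ▸
        Finset.single_le_sum (f := fun χ => s χ * s χ) (fun χ _ => mul_self_nonneg _)
          (Finset.mem_univ χ₀)
      have h3 := hj χ₀
      rw [e] at h3
      have h4 : 0 ≤ d χ₀ := Int.natCast_nonneg _
      have h5 : (q : ℤ) ≤ s χ₀ := by linarith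
      have h6 : (4 : ℤ) ≤ q := by exact_mod_cast hq4
      nlinarith
  rw [hd, hs, ← Int.cast_sub, hj, hj1, mul_one]
  push_cast [hF]
  rfl

end Cfsg.Agent.H82.ConstDiff
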