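import Cfsg.Agent.S0948
import Cfsg.Agent.Cores.KleinBlock
import Cfsg.Agent.H82.NineBasic

/-!
# The three independent functions of a principal block with a Klein four Sylow subgroup
-/

set_option autoImplicit false
set_option linter.unusedSectionVars false
set_option linter.style.haveILetI false

open scoped ComplexConjugate

namespace Cfsg.Agent.H82.ConstDiff

open CharBasic BlockBasic

universe u

variable {H : Type u} [Group H] [Finite H] {M : Ideal AlgInt}

/-- A normal complement gives a core of `2`-power index. -/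
theorem pNilAt_of_complement {z : H}
    (h : HasNormalPComplement 2 (Subgroup.centralizer ({z} : Set H))) : H86.PNilAt 2 z := by
  haveI : Fact (Nat.Prime 2) := ⟨Nat.prime_two⟩
  obtain ⟨Q', N, hN, hc⟩ := h
  haveI := hN
  obtain ⟨j, hj⟩ := IsPGroup.iff_card.1 Q'.isPGroup'
  have hidx : N.index = 2 ^ j := by rw [hc.symm.index_eq_card]; exact hj
  have hNp : ¬ 2 ∣ Nat.card N := Fusion.not_dvd_card_of_isComplement' Q' hc
  have hle2 : N ≤ pPrimeCore 2 (Subgroup.centralizer ({z} : Set H)) :=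
    Cores.le_pPrimeCore (Nat.Coprime.symm ((Nat.prime_two.coprime_iff_not_dvd).2 hNp))
  exact (Nat.dvd_prime_pow Nat.prime_two).1 (hidx ▸ Subgroup.index_dvd_of_le hle2) |>.imp fun _ h => h.2

/-- The block and its three independent functions on elements of odd order. -/
theorem klein_functions (hM : IsPModular 2 M) (V : Sylow 2 H) (hV : IsKleinFour (V : Subgroup H))
    (hone : ∀ s t : H, orderOf s = 2 → orderOf t = 2 → IsConj s t) :
    ∃ (f g g' : IrrCharacter H) (ε : ℤ), (ε = 1 ∨ ε = -1) ∧ f ≠ trivialIrr ∧ g ≠ trivialIrr ∧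
      g' ≠ trivialIrr ∧ f ≠ g ∧ f ≠ g' ∧ g ≠ g' ∧
      (∀ χ, χ ∈ principalBlock M H ↔ χ = trivialIrr ∨ χ = f ∨ χ = g ∨ χ = g') ∧
      (∀ y : H, ¬ 2 ∣ orderOf y →
        (g' : H → ℂ) y = 1 + (f : H → ℂ) y + (ε : ℂ) * (g : H → ℂ) y) ∧
      ∀ a b c : ℂ, (∀ y : H, ¬ 2 ∣ orderOf y →
        a + b * (f : H → ℂ) y + c * ((ε : ℂ) * (g : H → ℂ) y) = 0) → a = 0 ∧ b = 0 ∧ c = 0 := by
  classical
  haveI : Fact (Nat.Prime 2) := ⟨Nat.prime_two⟩
  cases nonempty_fintype H
  obtain ⟨f, g, g', ε, hε, hf, hg, hfg, hfg', hgg', hB, hz, -, -, -, hrel⟩ :=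
    S0948.result M hM V hV hone
  obtain ⟨z₀, hz₀⟩ := exists_prime_orderOf_dvd_card' (G := (V : Subgroup H)) 2
    (by rw [hV.card_four]; norm_num)
  set z : H := (z₀ : H)
  have hzo : orderOf z = 2 := by rw [Subgroup.orderOf_coe, hz₀]
  have hg' : g' ≠ trivialIrr := fun e => by
    have h := (hz z hzo).2.2
    rw [e] at h
    norm_num [trivialIrr] at h
  have hmem : ∀ χ, χ ∈ principalBlock M H ↔ χ = trivialIrr ∨ χ = f ∨ χ = g ∨ χ = g' := by
    intro χ
    rw [hB, Set.mem_setOf_eq]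
    exact or_congr_left ⟨fun h => Subtype.ext h, fun h => by rw [h]; rfl⟩
  have hrel' : ∀ y : H, ¬ 2 ∣ orderOf y →
      (g' : H → ℂ) y = 1 + (f : H → ℂ) y + (ε : ℂ) * (g : H → ℂ) y := fun y hy => by
    linear_combination -(hrel y (Nat.not_even_iff_odd.1 fun h => hy (even_iff_two_dvd.1 h)))
  refine ⟨f, g, g', ε, hε, fun e => hf (by rw [e]; rfl), fun e => hg (by rw [e]; rfl), hg', hfg,
    hfg', hgg', hmem, hrel', fun a b c hzero => ?_⟩
  -- constancy on singular elements
  have hnil := pNilAt_of_complement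
    (Cores.hasNormalPComplement_centralizer_involution V hV hzo z₀.2)
  have hsing : ∀ v : H, 2 ∣ orderOf v → ∀ χ ∈ principalBlock M H,
      (χ : H → ℂ) v = (χ : H → ℂ) z := by
    intro v hv χ hχ
    have h1 : pPart (p := 2) v ≠ 1 := fun e => (pPart_eq_one_iff v).1 e hv
    obtain ⟨Q, hQ⟩ := (IsPGroup.of_card (G := Subgroup.zpowers (pPart (p := 2) v))
      (n := (exists_orderOf_pPart (p := 2) v).choose)
      (by rw [Nat.card_zpowers]; exact (exists_orderOf_pPart (p := 2) v).choose_spec)).exists_le_sylow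
    obtain ⟨d, hd⟩ := MulAction.exists_smul_eq H Q V
    have hdV : d * pPart (p := 2) v * d⁻¹ ∈ (V : Subgroup H) := by
      rw [← hd, Sylow.coe_subgroup_smul]
      exact ⟨_, hQ (Subgroup.mem_zpowers _), rfl⟩
    have ho : orderOf (pPart (p := 2) v) = 2 := by
      rw [← MulEquiv.orderOf_eq (MulAut.conj d), MulAut.conj_apply]
      haveI := hV
      refine orderOf_eq_prime ?_ fun e => h1 (conj_eq_one_iff.1 e)
      rw [sq]
      exact congrArg Subtype.val (IsKleinFour.mul_self (⟨_, hdV⟩ : (V : Subgroup H)))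
    obtain ⟨e, he⟩ := isConj_iff.1 (hone z (pPart (p := 2) v) hzo ho)
    have hc := commute_pPart_pReg (p := 2) v
    rw [← he] at hc
    have hmemC : e⁻¹ * pReg (p := 2) v * e ∈ Subgroup.centralizer ({z} : Set H) := by
      refine Subgroup.mem_centralizer_singleton_iff.2 ?_
      calc e⁻¹ * pReg (p := 2) v * e * z = e⁻¹ * (pReg (p := 2) v * (e * z * e⁻¹)) * e := by group
        _ = e⁻¹ * (e * z * e⁻¹ * pReg (p := 2) v) * e := by rw [hc.eq]
        _ = _ := by group
    have hodd : ¬ 2 ∣ orderOf (⟨_, hmemC⟩ : Subgroup.centralizer ({z} : Set H)) := by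
      rw [Subgroup.orderOf_mk, show e⁻¹ * pReg (p := 2) v * e = MulAut.conj e⁻¹ (pReg (p := 2) v) by
        rw [MulAut.conj_apply, inv_inv], MulEquiv.orderOf_eq]
      exact not_dvd_orderOf_pReg v
    rw [← H86.principal_apply_mul hM ⟨1, by rw [hzo, pow_one]⟩ hnil hχ hodd]
    conv_lhs => rw [← pPart_mul_pReg (p := 2) v, ← he]
    rw [← IsIrr.isClassFunction χ.2 (z * (e⁻¹ * pReg (p := 2) v * e)) e]
    congr 1
    group
  set f0 : ℂ := a + b + c
  have hall : ∀ v : H, (a - f0 / 4) * ((trivialIrr : IrrCharacter H) : H → ℂ) v +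
      (b - f0 / 4) * (f : H → ℂ) v + ((c - f0 / 4) * (ε : ℂ)) * (g : H → ℂ) v +
      (f0 / 4) * (g' : H → ℂ) v = 0 := by
    intro v
    have ht : ((trivialIrr : IrrCharacter H) : H → ℂ) v = 1 := rfl
    rw [ht]
    by_cases hv : 2 ∣ orderOf v
    · rw [hsing v hv f ((hmem f).2 (Or.inr (Or.inl rfl))),
        hsing v hv g ((hmem g).2 (Or.inr (Or.inr (Or.inl rfl)))),
        hsing v hv g' ((hmem g').2 (Or.inr (Or.inr (Or.inr rfl)))),
        (hz z hzo).1, (hz z hzo).2.1, (hz z hzo).2.2]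
      have hε2 : (ε : ℂ) * ε = 1 := by rcases hε with rfl | rfl <;> simp
      linear_combination (c - f0 / 4) * hε2
    · rw [hrel' v hv]
      linear_combination hzero v hv
  have hcoef : ∀ ψ : IrrCharacter H,
      (a - f0 / 4) * (if trivialIrr = ψ then 1 else 0) + (b - f0 / 4) * (if f = ψ then 1 else 0) +
      ((c - f0 / 4) * (ε : ℂ)) * (if g = ψ then 1 else 0) + (f0 / 4) * (if g' = ψ then 1 else 0) = 0 := by
    intro ψ
    simp only [← classInner_irrCharacter, classInner_def]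
    calc _ = (Nat.card H : ℂ)⁻¹ * ∑ v : H, (((a - f0 / 4) * ((trivialIrr : IrrCharacter H) : H → ℂ) v +
          (b - f0 / 4) * (f : H → ℂ) v + ((c - f0 / 4) * (ε : ℂ)) * (g : H → ℂ) v +
          (f0 / 4) * (g' : H → ℂ) v) * conj ((ψ : H → ℂ) v)) := by
          simp only [add_mul, Finset.sum_add_distrib, mul_add, mul_assoc, ← Finset.mul_sum]
          ring
      _ = 0 := by simp [hall]
  have e4 := hcoef g'
  rw [if_neg hg'.symm, if_neg hfg', if_neg hgg', if_pos rfl] at e4
  have hf0 : f0 = 0 := by linear_combination 4 * e4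
  have e1 := hcoef trivialIrr
  rw [if_pos rfl, if_neg (fun e => hf (by rw [e]; rfl)), if_neg (fun e => hg (by rw [e]; rfl)),
    if_neg hg', hf0] at e1
  have e2 := hcoef f
  rw [if_neg (fun e => hf (by rw [← e]; rfl)), if_pos rfl, if_neg hfg.symm, if_neg hfg'.symm, hf0] at e2
  have e3 := hcoef g
  rw [if_neg (fun e => hg (by rw [← e]; rfl)), if_neg hfg, if_pos rfl, if_neg hgg'.symm, hf0] at e3
  have hεne : (ε : ℂ) ≠ 0 := by rcases hε with rfl | rfl <;> norm_num
  refine ⟨by linear_combination e1, by linear_combination e2, ?_⟩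
  have : c * (ε : ℂ) = 0 := by linear_combination e3
  exact (mul_eq_zero.1 this).resolve_right hεne

end Cfsg.Agent.H82.ConstDiff
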