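import Cfsg.Agent.H29.AbTwo.Orders
import Cfsg.Agent.Coprime.HalfTransField
import Cfsg.Agent.S0205
import Mathlib.FieldTheory.Fixed

/-!
# An odd transitive automizer of an elementary abelian Sylow 2-subgroup: bounds for a point stabilizer
-/

set_option autoImplicit false
set_option linter.unusedSectionVars false
set_option linter.style.haveILetI false

namespace Cfsg.Agent.H82.ConstDiff

open Subgroup

universe u

variable {G : Type u} [Group G] [Finite G]

/-- The stabilizer of a point has at most `n` automorphisms, each fixing at most `2 ^ (n / 3)` points. -/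
theorem semilinear_bounds (P : Sylow 2 G) [IsMulCommutative (P : Subgroup G)]
    (hel : ∀ a ∈ (P : Subgroup G), a ^ 2 = 1)
    (htrans : ∀ a ∈ (P : Subgroup G), a ≠ 1 → ∀ b ∈ (P : Subgroup G), b ≠ 1 →
      ∃ n ∈ normalizer ((P : Subgroup G) : Set G), n * a * n⁻¹ = b)
    {x : G} (hx : x ∈ (P : Subgroup G)) (hx1 : x ≠ 1) :
    ∃ n : ℕ, Nat.card (P : Subgroup G) = 2 ^ n ∧
      (∀ S : Subgroup G, S ≤ normalizer ((P : Subgroup G) : Set G) → (∀ s ∈ S, s * x = x * s) →
        (centralizer ((P : Subgroup G) : Set G)).relIndex S ≤ n) ∧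
      ∀ s ∈ normalizer ((P : Subgroup G) : Set G), s * x = x * s →
        s ∉ centralizer ((P : Subgroup G) : Set G) →
        Nat.card ↥((P : Subgroup G) ⊓ centralizer ({s} : Set G)) ≤ 2 ^ (n / 3) := by
  classical
  haveI : Fact (Nat.Prime 2) := ⟨Nat.prime_two⟩
  set T : Subgroup G := (P : Subgroup G)
  set N := normalizer (T : Set G)
  letI : CommGroup T := { (inferInstance : Group T) with mul_comm := mul_comm' }
  let f : N →* MulAut T := T.normalizerMonoidHom
  let D := f.range
  letI : DistribMulAction D (Additive T) :=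
    { smul := fun d a => Additive.ofMul ((d : MulAut T) a.toMul)
      one_smul := fun a => rfl
      mul_smul := fun d d' a => rfl
      smul_zero := fun d => congrArg Additive.ofMul (map_one (d : MulAut T))
      smul_add := fun d a b => congrArg Additive.ofMul (map_mul (d : MulAut T) _ _) }
  haveI : FaithfulSMul D (Additive T) := ⟨fun {d d'} h => Subtype.ext (MulEquiv.ext fun a =>
    Additive.ofMul.injective (h (Additive.ofMul a)))⟩
  haveI : Nontrivial (Additive T) := ⟨⟨Additive.ofMul ⟨x, hx⟩, 0, fun e => hx1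
    (congrArg (fun a : Additive T => ((a.toMul : T) : G)) e)⟩⟩
  haveI : Finite (MulAut T) := Finite.of_injective (fun e => (e : T → T)) DFunLike.coe_injective
  have hDodd : Odd (Nat.card D) := by
    rw [← index_ker, normalizerMonoidHom_ker]
    exact H29.AbTwo.odd_eInd (P := P)
  haveI : Group.IsSolvable D := S0205.result hDodd
  obtain ⟨K, _, _, φ, hsemi, -⟩ := Coprime.HalfTrans.exists_semilinear (D := D) (E := Additive T)
    hDodd Nat.prime_two (fun e => by
      rw [two_nsmul]
      show Additive.ofMul (e.toMul * e.toMul) = 0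
      rw [show e.toMul * e.toMul = 1 from Subtype.ext (by
        rw [Subgroup.coe_mul, ← sq]; exact hel _ e.toMul.2)]
      rfl)
    (fun a b ha hb => by
      obtain ⟨m, hm, e⟩ := htrans _ a.toMul.2
        (fun e => ha (Additive.toMul.injective (Subtype.ext e))) _ b.toMul.2
        (fun e => hb (Additive.toMul.injective (Subtype.ext e)))
      exact ⟨⟨f ⟨m, hm⟩, _, rfl⟩, Or.inl (Additive.toMul.injective (Subtype.ext e))⟩)
  set e₁ : Additive T := Additive.ofMul ⟨x, hx⟩
  set c := φ e₁
  have hc : c ≠ 0 := fun e => hx1 (by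
    have h := φ.injective (e.trans φ.map_zero.symm)
    exact congrArg (fun a : Additive T => ((a.toMul : T) : G)) h)
  have hchar : CharP K 2 := (CharP.charP_iff_prime_eq_zero Nat.prime_two).2 (by
    have h2 : c + c = 0 := by
      rw [← map_add, show e₁ + e₁ = 0 from congrArg Additive.ofMul
        (Subtype.ext (by simpa [sq] using hel x hx) : (⟨x, hx⟩ : T) * ⟨x, hx⟩ = 1), map_zero]
    have h3 : ((2 : ℕ) : K) * c = 0 := by push_cast; rw [two_mul]; exact h2
    exact (mul_eq_zero.1 h3).resolve_right hc)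
  obtain ⟨n, hn, haut⟩ := Coprime.HalfTrans.card_ringAut_le K 2
  have hcard : Nat.card T = Nat.card K := (Nat.card_congr (Additive.ofMul.trans φ.toEquiv) :)
  let ψ : T → K := fun v => φ (Additive.ofMul v) / c
  have hψsurj : ∀ z, ∃ v, ψ v = z := fun z => ⟨(φ.symm (z * c)).toMul, by
    simp only [ψ, ofMul_toMul, AddEquiv.apply_symm_apply]
    exact mul_div_cancel_right₀ z hc⟩
  have hψinj : Function.Injective ψ := fun v w h =>
    Additive.ofMul.injective (φ.injective ((div_left_inj' hc).1 h))
  have hstab : ∀ (m : N), (m : G) * x = x * m →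
      ∃ σ : K ≃+* K, ∀ v : T, ψ (f m v) = σ (ψ v) := by
    intro m hm
    obtain ⟨a, σ, hσ⟩ := hsemi ⟨f m, m, rfl⟩
    have h1 : φ e₁ = (a : K) * σ (φ e₁) := by
      rw [← hσ e₁]
      exact congrArg φ (congrArg Additive.ofMul (Subtype.ext
        (show x = (m : G) * x * (m : G)⁻¹ by rw [hm, mul_inv_cancel_right])))
    refine ⟨σ, fun v => ?_⟩
    have h2 : φ (Additive.ofMul (f m v)) = (a : K) * σ (φ (Additive.ofMul v)) := hσ (Additive.ofMul v)
    show φ (Additive.ofMul (f m v)) / c = σ (φ (Additive.ofMul v) / c)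
    rw [h2, map_div₀, div_eq_div_iff hc (by simpa using hc)]
    linear_combination -(σ (φ (Additive.ofMul v))) * h1
  refine ⟨n, hcard.trans hn, fun S hS hSx => ?_, fun s hs hsx hsC => ?_⟩
  · haveI : Finite (K ≃+* K) := Finite.of_injective (fun e => (e : K → K)) DFunLike.coe_injective
    refine le_trans ?_ haut
    rw [relIndex, index_eq_card]
    choose σ hσ using hstab
    refine Nat.card_le_card_of_injective
      (fun q => σ ⟨(q.out : G), hS q.out.2⟩ (hSx _ q.out.2)) fun q q' h => ?_
    rw [← q.out_eq', ← q'.out_eq', QuotientGroup.eq, mem_subgroupOf, mem_centralizer_iff]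
    intro v hv
    have h1 := hψinj ((hσ ⟨(q.out : G), hS q.out.2⟩ (hSx _ q.out.2) ⟨v, hv⟩).trans
      ((by simp only at h; rw [h]) : _ = σ ⟨(q'.out : G), hS q'.out.2⟩ (hSx _ q'.out.2) (ψ ⟨v, hv⟩))
      |>.trans (hσ ⟨(q'.out : G), hS q'.out.2⟩ (hSx _ q'.out.2) ⟨v, hv⟩).symm)
    have h2 : (q.out : G) * v * (q.out : G)⁻¹ = (q'.out : G) * v * (q'.out : G)⁻¹ :=
      congrArg Subtype.val h1
    push_cast
    calc v * ((q.out : G)⁻¹ * q'.out) = (q.out : G)⁻¹ * ((q.out : G) * v * (q.out : G)⁻¹) * q'.out := by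
          group
      _ = _ := by rw [h2]; group
  · obtain ⟨σ, hσ⟩ := hstab ⟨s, hs⟩ hsx
    set d := f ⟨s, hs⟩
    have hpow : ∀ (j : ℕ) (v : T), ψ ((d ^ j) v) = (σ ^ j) (ψ v) := by
      intro j
      induction j with
      | zero => exact fun v => rfl
      | succ j ih =>
        intro v
        rw [pow_succ', pow_succ', MulAut.mul_apply, hσ, ih, RingAut.mul_apply]
    have hσodd : Odd (orderOf σ) := by
      refine hDodd.of_dvd_nat (orderOf_dvd_of_pow_eq_one (RingEquiv.ext fun z => ?_))
      obtain ⟨v, rfl⟩ := hψsurj z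
      have h1 : d ^ Nat.card D = 1 :=
        congrArg Subtype.val (pow_card_eq_one' (x := (⟨d, ⟨s, hs⟩, rfl⟩ : D)))
      rw [← hpow, h1]
      rfl
    have hσ1 : σ ≠ 1 := fun e => hsC (mem_centralizer_iff.2 fun v hv => by
      have h1 := hσ ⟨v, hv⟩
      rw [e, RingAut.one_apply] at h1
      exact (mul_inv_eq_iff_eq_mul.1 (congrArg Subtype.val (hψinj h1))).symm)
    haveI : Finite (K ≃+* K) := Finite.of_injective (fun e => (e : K → K)) DFunLike.coe_injective
    set H := zpowers σ
    letI : Fintype H := Fintype.ofFinite _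
    set L := FixedPoints.subfield H K
    have hfin : Module.finrank L K = orderOf σ := by
      rw [FixedPoints.finrank_eq_card, ← Nat.card_eq_fintype_card, Nat.card_zpowers]
    have hm3 : 3 ≤ orderOf σ := by
      have h1 : orderOf σ ≠ 1 := fun e => hσ1 (orderOf_eq_one_iff.1 e)
      obtain ⟨j, hj⟩ := hσodd
      omega
    have hKL : Nat.card K = Nat.card L ^ orderOf σ := by
      rw [← hfin]; exact Module.natCard_eq_pow_finrank
    have hle : Nat.card ↥(T ⊓ centralizer ({s} : Set G)) ≤ Nat.card L := by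
      refine Nat.card_le_card_of_injective (fun v => ⟨ψ ⟨v, v.2.1⟩, ?_⟩) fun v w h =>
        Subtype.ext (congrArg (fun z : T => (z : G)) (hψinj (congrArg Subtype.val h)))
      rintro ⟨τ, hτ⟩
      have hfix : σ (ψ ⟨v, v.2.1⟩) = ψ ⟨v, v.2.1⟩ := by
        rw [← hσ]
        congr 1
        refine Subtype.ext ?_
        show s * (v : G) * s⁻¹ = v
        rw [← mem_centralizer_singleton_iff.1 v.2.2, mul_inv_cancel_right]
      have hle' : H ≤ MulAction.stabilizer (K ≃+* K) (ψ ⟨v, v.2.1⟩) := zpowers_le.2 hfix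
      exact hle' hτ
    refine hle.trans ?_
    obtain ⟨t, -, ht⟩ := (Nat.dvd_prime_pow Nat.prime_two).1
      (show Nat.card L ∣ 2 ^ n by rw [← hn, hKL]; exact dvd_pow_self _ (by omega))
    rw [ht]
    refine Nat.pow_le_pow_right two_pos ?_
    rw [ht, ← pow_mul, hn] at hKL
    have h := Nat.pow_right_injective le_rfl hKL
    rw [Nat.le_div_iff_mul_le (by norm_num)]
    calc t * 3 ≤ t * orderOf σ := Nat.mul_le_mul_left t hm3
      _ = n := h.symm

end Cfsg.Agent.H82.ConstDiff
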