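import Mathlib.Algebra.BigOperators.Ring.Finset
import Mathlib.Algebra.Order.BigOperators.Group.Finset
import Mathlib.Data.Fintype.BigOperators
import Mathlib.Data.Fintype.Prod
import Mathlib.Tactic.LinearCombination
import Mathlib.Tactic.Linarith
import Mathlib.Tactic.Ring

/-!
# The integral rows of a principal block in the section of an involution, rank three

The rows are triples of integers; their Gram matrix is twice the sum of the identity and the all-one
matrix, one row being the first unit vector.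
-/

set_option autoImplicit false

namespace Cfsg.Agent.H82.ConstDiff.Rows

/-- The bilinear expression attached to the inverse of the Gram matrix. -/
def bil (x y z X Y Z : ℤ) : ℤ := 4 * (x * X + y * Y + z * Z) - (x + y + z) * (X + Y + Z)

/-- A sign. -/
def sgn (b : Bool) : ℤ := if b then 1 else -1

theorem exists_sgn {v : ℤ} (h : v * v = 1) : ∃ b, v = sgn b := by
  rcases mul_self_eq_one_iff.1 h with e | e
  · exact ⟨true, e⟩
  · exact ⟨false, e⟩

/-- One row is admissible. -/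
def Ok (x y z X Y Z : ℤ) : Prop :=
  bil x y z X Y Z ≤ 4 ∧ (Y + Z - 3 * X) ∣ bil x y z X Y Z

instance (x y z X Y Z : ℤ) : Decidable (Ok x y z X Y Z) := by unfold Ok; infer_instance

theorem no_pattern_six : ∀ a b c d e f : Bool,
    let X := sgn a + sgn b + sgn c
    let Y := sgn a + sgn b + sgn d + sgn e
    let Z := sgn a + sgn c + sgn d + sgn f
    0 < Y + Z - 3 * X → (Y + Z - 3 * X) ∣ 8 →
    Ok (sgn a) (sgn a) (sgn a) X Y Z → Ok (sgn b) (sgn b) 0 X Y Z →
    Ok (sgn c) 0 (sgn c) X Y Z → Ok 0 (sgn d) (sgn d) X Y Z →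
    Ok 0 (sgn e) 0 X Y Z → Ok 0 0 (sgn f) X Y Z → False := by decide

theorem no_pattern_seven : ∀ a a' b e e' f f' : Bool,
    let X := sgn a + sgn a' + sgn b
    let Y := sgn a + sgn a' + sgn e + sgn e'
    let Z := sgn a + sgn a' + sgn f + sgn f'
    0 < Y + Z - 3 * X → (Y + Z - 3 * X) ∣ 8 →
    Ok (sgn a) (sgn a) (sgn a) X Y Z → Ok (sgn a') (sgn a') (sgn a') X Y Z →
    Ok (sgn b) 0 0 X Y Z → Ok 0 (sgn e) 0 X Y Z → Ok 0 (sgn e') 0 X Y Z →
    Ok 0 0 (sgn f) X Y Z → Ok 0 0 (sgn f') X Y Z → False := by decide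

theorem counts {a b c e f g h : ℕ} (e1 : a + b + c + e = 3) (e2 : a + b + f + g = 4)
    (e3 : a + c + f + h = 4) (hb : 2 ≤ a + b ∧ (a + b) % 2 = 0) (hc : 2 ≤ a + c ∧ (a + c) % 2 = 0)
    (hf : 2 ≤ a + f ∧ (a + f) % 2 = 0) :
    (a = 1 ∧ b = 1 ∧ c = 1 ∧ e = 0 ∧ f = 1 ∧ g = 1 ∧ h = 1) ∨
      (a = 2 ∧ b = 0 ∧ c = 0 ∧ e = 1 ∧ f = 0 ∧ g = 2 ∧ h = 2) ∨
      (a = 2 ∧ b = 0 ∧ c = 0 ∧ e = 1 ∧ f = 2 ∧ g = 0 ∧ h = 0) := by
  obtain ⟨hb, b', hb'⟩ := hb.imp_right fun h => (Nat.dvd_of_mod_eq_zero h : 2 ∣ a + b)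
  obtain ⟨hc, c', hc'⟩ := hc.imp_right fun h => (Nat.dvd_of_mod_eq_zero h : 2 ∣ a + c)
  obtain ⟨hf, f', hf'⟩ := hf.imp_right fun h => (Nat.dvd_of_mod_eq_zero h : 2 ∣ a + f)
  rcases a with _ | _ | _ | a
  · omega
  · obtain rfl : b = 1 := by omega
    obtain rfl : c = 1 := by omega
    obtain rfl : e = 0 := by omega
    obtain rfl : f = 1 := by omega
    exact Or.inl ⟨rfl, rfl, rfl, rfl, rfl, by omega, by omega⟩
  · obtain rfl : b = 0 := by omega
    obtain rfl : c = 0 := by omega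
    obtain rfl : e = 1 := by omega
    obtain rfl | rfl : f = 0 ∨ f = 2 := by omega
    · exact Or.inr (Or.inl ⟨rfl, rfl, rfl, rfl, rfl, by omega, by omega⟩)
    · exact Or.inr (Or.inr ⟨rfl, rfl, rfl, rfl, rfl, by omega, by omega⟩)
  · omega

theorem bound_pair {s t : ℤ} {a b : ℕ} (h : (2 : ℤ) = s + t) (hs : s ≤ a) (ht : t ≤ b)
    (hs2 : s % 2 = (a : ℤ) % 2) (ht2 : t % 2 = (b : ℤ) % 2) : 2 ≤ a + b ∧ (a + b) % 2 = 0 := by
  omega

variable {ι : Type*} [Fintype ι]

theorem abs_le_one_of_column (y d : ι → ℤ) (h2 : ∑ i, y i * y i = 4) (hd : ∀ i, 0 < d i)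
    (h0 : ∑ i, d i * y i = 0) (i : ι) : y i * y i ≤ 1 := by
  classical
  have hle : y i * y i ≤ 4 :=
    h2 ▸ Finset.single_le_sum (fun j _ => mul_self_nonneg (y j)) (Finset.mem_univ i)
  by_contra hlt
  have h4 : y i * y i = 4 := by
    have : -2 ≤ y i ∧ y i ≤ 2 := ⟨by nlinarith, by nlinarith⟩
    obtain h | h | h | h | h : y i = -2 ∨ y i = -1 ∨ y i = 0 ∨ y i = 1 ∨ y i = 2 := by omega
    all_goals rw [h] at hlt ⊢; omega
  have hz : ∀ j, j ≠ i → y j = 0 := fun j hj => by
    have h := Finset.sum_le_sum_of_subset_of_nonneg (Finset.subset_univ ({i, j} : Finset ι))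
      (fun k _ _ => mul_self_nonneg (y k))
    rw [Finset.sum_pair hj.symm, h2, h4] at h
    exact mul_self_eq_zero.1 (le_antisymm (by linarith) (mul_self_nonneg _))
  rw [Finset.sum_eq_single i (fun j _ hj => by rw [hz j hj, mul_zero])
    (fun h => absurd (Finset.mem_univ i) h)] at h0
  rcases mul_eq_zero.1 h0 with h | h
  · exact (hd i).ne' h
  · rw [h] at h4; norm_num at h4

set_option maxHeartbeats 4000000 in
/-- No admissible system of rows exists. -/
theorem no_rows (x y z d : ι → ℤ) (k : ℤ) (hne : ∀ i, x i ≠ 0 ∨ y i ≠ 0 ∨ z i ≠ 0)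
    (hd : ∀ i, 0 < d i) (hxx : ∑ i, x i * x i = 3) (hyy : ∑ i, y i * y i = 4)
    (hzz : ∑ i, z i * z i = 4) (hxy : ∑ i, x i * y i = 2) (hxz : ∑ i, x i * z i = 2)
    (hyz : ∑ i, y i * z i = 2) (hdy : ∑ i, d i * y i = 0) (hdz : ∑ i, d i * z i = 0) (hk : 0 < k)
    (hkm : k * (∑ i, y i + ∑ i, z i - 3 * ∑ i, x i) = 8)
    (hrow : ∀ i, 8 * (d i - k) = -(k * bil (x i) (y i) (z i) (∑ i, x i) (∑ i, y i) (∑ i, z i)))
    (hbd : ∀ i, k ≤ 2 * d i) : False := by
  classical
  set X := ∑ i, x i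
  set Y := ∑ i, y i
  set Z := ∑ i, z i
  set m := Y + Z - 3 * X
  have hm : 0 < m := by nlinarith
  have hm8 : m ∣ 8 := ⟨k, by linarith⟩
  have hok : ∀ i, Ok (x i) (y i) (z i) X Y Z := fun i => by
    refine ⟨by nlinarith [hrow i, hbd i], ⟨k - d i, ?_⟩⟩
    apply mul_left_cancel₀ hk.ne'
    calc k * bil (x i) (y i) (z i) X Y Z = 8 * (k - d i) := by linarith [hrow i]
      _ = k * (m * (k - d i)) := by rw [← mul_assoc, hkm]
  have bx : ∀ i, x i * x i ≤ 1 := fun i => by
    have h : x i * x i ≤ 3 := hxx ▸ Finset.single_le_sum (fun j _ => mul_self_nonneg (x j)) (Finset.mem_univ i)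
    have : -1 ≤ x i ∧ x i ≤ 1 := ⟨by nlinarith, by nlinarith⟩
    obtain e | e | e : x i = -1 ∨ x i = 0 ∨ x i = 1 := by omega
    all_goals rw [e]; norm_num
  have by' := abs_le_one_of_column y d hyy hd hdy
  have bz := abs_le_one_of_column z d hzz hd hdz
  -- the classes of rows according to their supports
  let code : ι → Bool × Bool × Bool := fun i => (decide (x i ≠ 0), decide (y i ≠ 0), decide (z i ≠ 0))
  let cl : Bool → Bool → Bool → Finset ι := fun a b c => Finset.univ.filter fun i => code i = (a, b, c)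
  have hcl : ∀ (a b c : Bool) (i : ι), i ∈ cl a b c →
      (x i * x i = if a then 1 else 0) ∧ (y i * y i = if b then 1 else 0) ∧
        (z i * z i = if c then 1 else 0) := by
    intro a b c i hi
    simp only [cl, code, Finset.mem_filter, Finset.mem_univ, true_and, Prod.mk.injEq] at hi
    have key : ∀ v : ℤ, v * v ≤ 1 → v * v = if decide (v ≠ 0) then 1 else 0 := fun v hv => by
      by_cases hv0 : v = 0
      · subst hv0; simp
      · rw [if_pos (by simpa using hv0)]
        have := mul_self_pos.2 hv0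
        omega
    exact ⟨hi.1 ▸ key _ (bx i), hi.2.1 ▸ key _ (by' i), hi.2.2 ▸ key _ (bz i)⟩
  have h000 : cl false false false = ∅ := by
    rw [Finset.eq_empty_iff_forall_notMem]
    intro i hi
    obtain ⟨h1, h2, h3⟩ := hcl _ _ _ i hi
    simp at h1 h2 h3
    rcases hne i with h | h | h
    · exact h h1
    · exact h h2
    · exact h h3
  have hsum : ∀ f : ι → ℤ, ∑ i, f i = ∑ i ∈ cl true true true, f i + ∑ i ∈ cl true true false, f i +
      ∑ i ∈ cl true false true, f i + ∑ i ∈ cl true false false, f i +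
      ∑ i ∈ cl false true true, f i + ∑ i ∈ cl false true false, f i +
      ∑ i ∈ cl false false true, f i := by
    intro f
    rw [← Finset.sum_fiberwise Finset.univ code f]
    simp only [Fintype.sum_prod_type, Fintype.sum_bool]
    have h0 : ∑ i ∈ cl false false false, f i = 0 := by rw [h000, Finset.sum_empty]
    simp only [cl] at h0 ⊢
    linarith
  have hcount : ∀ (a b c : Bool) (f : ι → ℤ) (v : ℤ), (∀ i ∈ cl a b c, f i = v) →
      ∑ i ∈ cl a b c, f i = (cl a b c).card * v := fun a b c f v h => by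
    rw [Finset.sum_congr rfl h, Finset.sum_const, nsmul_eq_mul]
  have hprod : ∀ (a b c : Bool) (f g : ι → ℤ), (∀ i ∈ cl a b c, f i * f i = 1 ∧ g i * g i = 1) →
      -((cl a b c).card : ℤ) ≤ ∑ i ∈ cl a b c, f i * g i ∧
        ∑ i ∈ cl a b c, f i * g i ≤ (cl a b c).card ∧
        (∑ i ∈ cl a b c, f i * g i) % 2 = ((cl a b c).card : ℤ) % 2 := by
    intro a b c f g h
    have hv : ∀ i ∈ cl a b c, f i * g i = 1 ∨ f i * g i = -1 := fun i hi => by
      refine mul_self_eq_one_iff.1 ?_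
      rw [show f i * g i * (f i * g i) = (f i * f i) * (g i * g i) by ring, (h i hi).1, (h i hi).2, one_mul]
    generalize cl a b c = s at hv
    induction s using Finset.induction with
    | empty => simp
    | @insert j t hj ih =>
      rw [Finset.sum_insert hj, Finset.card_insert_of_notMem hj]
      obtain ⟨h1, h2, h3⟩ := ih fun i hi => hv i (Finset.mem_insert_of_mem hi)
      rcases hv j (Finset.mem_insert_self j t) with e | e <;> rw [e] <;> push_cast <;> omega
  have hzero : ∀ (a b c : Bool) (f g : ι → ℤ), (∀ i ∈ cl a b c, f i * f i = 0) →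
      ∑ i ∈ cl a b c, f i * g i = 0 := fun a b c f g h =>
    Finset.sum_eq_zero fun i hi => by rw [mul_self_eq_zero.1 (h i hi), zero_mul]
  -- the counts
  have qx : ∀ a b c, ∀ i ∈ cl a b c, x i * x i = if a then 1 else 0 := fun a b c i hi => (hcl a b c i hi).1
  have qy : ∀ a b c, ∀ i ∈ cl a b c, y i * y i = if b then 1 else 0 := fun a b c i hi => (hcl a b c i hi).2.1
  have qz : ∀ a b c, ∀ i ∈ cl a b c, z i * z i = if c then 1 else 0 := fun a b c i hi => (hcl a b c i hi).2.2
  have hzero' : ∀ (a b c : Bool) (f g : ι → ℤ), (∀ i ∈ cl a b c, g i * g i = 0) →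
      ∑ i ∈ cl a b c, f i * g i = 0 := fun a b c f g h =>
    Finset.sum_eq_zero fun i hi => by rw [mul_self_eq_zero.1 (h i hi), mul_zero]
  have e1 := hsum fun i => x i * x i
  have e2 := hsum fun i => y i * y i
  have e3 := hsum fun i => z i * z i
  simp only [hxx, hyy, hzz, hcount _ _ _ (fun i => x i * x i) _ (qx _ _ _),
    hcount _ _ _ (fun i => y i * y i) _ (qy _ _ _), hcount _ _ _ (fun i => z i * z i) _ (qz _ _ _)] at e1 e2 e3
  simp only [if_true, if_false, mul_one, mul_zero, add_zero, Bool.false_eq_true] at e1 e2 e3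
  have e12 := hsum fun i => x i * y i
  rw [hxy, hzero' true false true x y (qy _ _ _), hzero' true false false x y (qy _ _ _),
    hzero false true true x y (qx _ _ _), hzero false true false x y (qx _ _ _),
    hzero false false true x y (qx _ _ _)] at e12
  have e13 := hsum fun i => x i * z i
  rw [hxz, hzero' true true false x z (qz _ _ _), hzero' true false false x z (qz _ _ _),
    hzero false true true x z (qx _ _ _), hzero false true false x z (qx _ _ _),
    hzero false false true x z (qx _ _ _)] at e13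
  have e23 := hsum fun i => y i * z i
  rw [hyz, hzero' true true false y z (qz _ _ _), hzero true false true y z (qy _ _ _),
    hzero true false false y z (qy _ _ _), hzero' false true false y z (qz _ _ _),
    hzero false false true y z (qy _ _ _)] at e23
  obtain ⟨l1, u1, p1⟩ := hprod true true true x y fun i hi => ⟨qx _ _ _ i hi, qy _ _ _ i hi⟩
  obtain ⟨l2, u2, p2⟩ := hprod true true false x y fun i hi => ⟨qx _ _ _ i hi, qy _ _ _ i hi⟩
  obtain ⟨l3, u3, p3⟩ := hprod true true true x z fun i hi => ⟨qx _ _ _ i hi, qz _ _ _ i hi⟩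
  obtain ⟨l4, u4, p4⟩ := hprod true false true x z fun i hi => ⟨qx _ _ _ i hi, qz _ _ _ i hi⟩
  obtain ⟨l5, u5, p5⟩ := hprod true true true y z fun i hi => ⟨qy _ _ _ i hi, qz _ _ _ i hi⟩
  obtain ⟨l6, u6, p6⟩ := hprod false true true y z fun i hi => ⟨qy _ _ _ i hi, qz _ _ _ i hi⟩
  obtain ⟨n1, n2, n3, n4, n5, n6, n7⟩ | ⟨n1, n2, n3, n4, n5, n6, n7⟩ |
      ⟨n1, n2, n3, n4, n5, n6, n7⟩ :=
    counts (a := (cl true true true).card) (b := (cl true true false).card)
      (c := (cl true false true).card) (e := (cl true false false).card)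
      (f := (cl false true true).card) (g := (cl false true false).card)
      (h := (cl false false true).card) (by exact_mod_cast e1.symm) (by exact_mod_cast e2.symm)
      (by exact_mod_cast e3.symm)
      (bound_pair (by linarith [e12]) u1 u2 p1 p2) (bound_pair (by linarith [e13]) u3 u4 p3 p4)
      (bound_pair (by linarith [e23]) u5 u6 p5 p6)
  · -- six rows
    obtain ⟨A, hA⟩ := Finset.card_eq_one.1 n1
    obtain ⟨B, hB⟩ := Finset.card_eq_one.1 n2
    obtain ⟨C, hC⟩ := Finset.card_eq_one.1 n3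
    obtain ⟨D, hD⟩ := Finset.card_eq_one.1 n5
    obtain ⟨E', hE⟩ := Finset.card_eq_one.1 n6
    obtain ⟨F, hF⟩ := Finset.card_eq_one.1 n7
    have h4 := Finset.card_eq_zero.1 n4
    simp only [hA, hB, hC, hD, Finset.sum_singleton] at e12 e13 e23
    have mA : A ∈ cl true true true := by rw [hA]; exact Finset.mem_singleton_self _
    have mB : B ∈ cl true true false := by rw [hB]; exact Finset.mem_singleton_self _
    have mC : C ∈ cl true false true := by rw [hC]; exact Finset.mem_singleton_self _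
    have mD : D ∈ cl false true true := by rw [hD]; exact Finset.mem_singleton_self _
    have mE : E' ∈ cl false true false := by rw [hE]; exact Finset.mem_singleton_self _
    have mF : F ∈ cl false false true := by rw [hF]; exact Finset.mem_singleton_self _
    obtain ⟨a, ha⟩ := exists_sgn (qx _ _ _ A mA)
    obtain ⟨b, hb⟩ := exists_sgn (qx _ _ _ B mB)
    obtain ⟨c, hc⟩ := exists_sgn (qx _ _ _ C mC)
    obtain ⟨δ, hδ⟩ := exists_sgn (qy _ _ _ D mD)
    obtain ⟨e, he⟩ := exists_sgn (qy _ _ _ E' mE)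
    obtain ⟨f, hf⟩ := exists_sgn (qz _ _ _ F mF)
    have same : ∀ u v u' v' : ℤ, u * u = 1 → v * v = 1 → u' * u' = 1 → v' * v' = 1 →
        2 = u * v + u' * v' → v = u ∧ v' = u' := by
      intro u v u' v' hu hv hu' hv' h
      rcases mul_self_eq_one_iff.1 hu with rfl | rfl <;> rcases mul_self_eq_one_iff.1 hv with rfl | rfl <;>
        rcases mul_self_eq_one_iff.1 hu' with rfl | rfl <;>
        rcases mul_self_eq_one_iff.1 hv' with rfl | rfl <;> omega
    obtain ⟨yA, yB⟩ := same _ _ _ _ (qx _ _ _ A mA) (qy _ _ _ A mA) (qx _ _ _ B mB) (qy _ _ _ B mB)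
      (by linarith [e12])
    obtain ⟨zA, zC⟩ := same _ _ _ _ (qx _ _ _ A mA) (qz _ _ _ A mA) (qx _ _ _ C mC) (qz _ _ _ C mC)
      (by linarith [e13])
    obtain ⟨-, zD⟩ := same _ _ _ _ (qy _ _ _ A mA) (qz _ _ _ A mA) (qy _ _ _ D mD) (qz _ _ _ D mD)
      (by linarith [e23])
    have z0 : ∀ v : ℤ, v * v = 0 → v = 0 := fun v h => mul_self_eq_zero.1 h
    have hX := hsum x
    have hY := hsum y
    have hZ := hsum z
    simp only [hA, hB, hC, hD, hE, hF, h4, Finset.sum_singleton, Finset.sum_empty, ha, hb, hc, hδ, he,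
      hf, yA, yB, zA, zC, zD, z0 _ (qy _ _ _ C mC), z0 _ (qx _ _ _ D mD), z0 _ (qx _ _ _ E' mE),
      z0 _ (qz _ _ _ E' mE), z0 _ (qx _ _ _ F mF), z0 _ (qy _ _ _ F mF), z0 _ (qz _ _ _ B mB),
      add_zero] at hX hY hZ
    refine no_pattern_six a b c δ e f ?_ ?_ ?_ ?_ ?_ ?_ ?_ ?_
    all_goals rw [← hX, ← hY, ← hZ]
    · exact hm
    · exact hm8
    · simpa only [ha, yA, zA] using hok A
    · simpa only [hb, yB, z0 _ (qz _ _ _ B mB)] using hok B
    · simpa only [hc, zC, z0 _ (qy _ _ _ C mC)] using hok C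
    · simpa only [hδ, zD, z0 _ (qx _ _ _ D mD)] using hok D
    · simpa only [he, z0 _ (qx _ _ _ E' mE), z0 _ (qz _ _ _ E' mE)] using hok E'
    · simpa only [hf, z0 _ (qx _ _ _ F mF), z0 _ (qy _ _ _ F mF)] using hok F
  · -- seven rows
    obtain ⟨A, A', hne', hA⟩ := Finset.card_eq_two.1 n1
    obtain ⟨B, hB⟩ := Finset.card_eq_one.1 n4
    obtain ⟨E₁, E₂, hEn, hE⟩ := Finset.card_eq_two.1 n6
    obtain ⟨F₁, F₂, hFn, hF⟩ := Finset.card_eq_two.1 n7
    have h2 := Finset.card_eq_zero.1 n2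
    have h3 := Finset.card_eq_zero.1 n3
    have h5 := Finset.card_eq_zero.1 n5
    simp only [hA, h2, h3, Finset.sum_pair hne', Finset.sum_empty, add_zero] at e12 e13
    have mA : A ∈ cl true true true := by rw [hA]; simp
    have mA' : A' ∈ cl true true true := by rw [hA]; simp
    have mB : B ∈ cl true false false := by rw [hB]; exact Finset.mem_singleton_self _
    have mE : E₁ ∈ cl false true false := by rw [hE]; simp
    have mE' : E₂ ∈ cl false true false := by rw [hE]; simp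
    have mF : F₁ ∈ cl false false true := by rw [hF]; simp
    have mF' : F₂ ∈ cl false false true := by rw [hF]; simp
    obtain ⟨a, ha⟩ := exists_sgn (qx _ _ _ A mA)
    obtain ⟨a', ha'⟩ := exists_sgn (qx _ _ _ A' mA')
    obtain ⟨b, hb⟩ := exists_sgn (qx _ _ _ B mB)
    obtain ⟨e, he⟩ := exists_sgn (qy _ _ _ E₁ mE)
    obtain ⟨e', he'⟩ := exists_sgn (qy _ _ _ E₂ mE')
    obtain ⟨f, hf⟩ := exists_sgn (qz _ _ _ F₁ mF)
    obtain ⟨f', hf'⟩ := exists_sgn (qz _ _ _ F₂ mF')
    have same : ∀ u v u' v' : ℤ, u * u = 1 → v * v = 1 → u' * u' = 1 → v' * v' = 1 →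
        2 = u * v + u' * v' → v = u ∧ v' = u' := by
      intro u v u' v' hu hv hu' hv' h
      rcases mul_self_eq_one_iff.1 hu with rfl | rfl <;> rcases mul_self_eq_one_iff.1 hv with rfl | rfl <;>
        rcases mul_self_eq_one_iff.1 hu' with rfl | rfl <;>
        rcases mul_self_eq_one_iff.1 hv' with rfl | rfl <;> omega
    obtain ⟨yA, yA'⟩ := same _ _ _ _ (qx _ _ _ A mA) (qy _ _ _ A mA) (qx _ _ _ A' mA') (qy _ _ _ A' mA')
      (by linarith [e12])
    obtain ⟨zA, zA'⟩ := same _ _ _ _ (qx _ _ _ A mA) (qz _ _ _ A mA) (qx _ _ _ A' mA') (qz _ _ _ A' mA')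
      (by linarith [e13])
    have z0 : ∀ v : ℤ, v * v = 0 → v = 0 := fun v h => mul_self_eq_zero.1 h
    have hX := hsum x
    have hY := hsum y
    have hZ := hsum z
    simp only [hA, h2, h3, hB, h5, hE, hF, Finset.sum_pair hne', Finset.sum_pair hEn,
      Finset.sum_pair hFn, Finset.sum_singleton, Finset.sum_empty, ha, ha', hb, he, he', hf, hf', yA,
      yA', zA, zA', z0 _ (qy _ _ _ B mB), z0 _ (qz _ _ _ B mB), z0 _ (qx _ _ _ E₁ mE),
      z0 _ (qz _ _ _ E₁ mE), z0 _ (qx _ _ _ E₂ mE'), z0 _ (qz _ _ _ E₂ mE'), z0 _ (qx _ _ _ F₁ mF),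
      z0 _ (qy _ _ _ F₁ mF), z0 _ (qx _ _ _ F₂ mF'), z0 _ (qy _ _ _ F₂ mF'), add_zero,
      ← add_assoc] at hX hY hZ
    refine no_pattern_seven a a' b e e' f f' ?_ ?_ ?_ ?_ ?_ ?_ ?_ ?_ ?_
    all_goals rw [← hX, ← hY, ← hZ]
    · exact hm
    · exact hm8
    · simpa only [ha, yA, zA] using hok A
    · simpa only [ha', yA', zA'] using hok A'
    · simpa only [hb, z0 _ (qy _ _ _ B mB), z0 _ (qz _ _ _ B mB)] using hok B
    · simpa only [he, z0 _ (qx _ _ _ E₁ mE), z0 _ (qz _ _ _ E₁ mE)] using hok E₁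
    · simpa only [he', z0 _ (qx _ _ _ E₂ mE'), z0 _ (qz _ _ _ E₂ mE')] using hok E₂
    · simpa only [hf, z0 _ (qx _ _ _ F₁ mF), z0 _ (qy _ _ _ F₁ mF)] using hok F₁
    · simpa only [hf', z0 _ (qx _ _ _ F₂ mF'), z0 _ (qy _ _ _ F₂ mF')] using hok F₂
  · -- a row with zero degree
    obtain ⟨A, A', hne', hA⟩ := Finset.card_eq_two.1 n1
    obtain ⟨B, hB⟩ := Finset.card_eq_one.1 n4
    obtain ⟨D, D', hDn, hD⟩ := Finset.card_eq_two.1 n5
    have h2 := Finset.card_eq_zero.1 n2
    have h3 := Finset.card_eq_zero.1 n3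
    have h6 := Finset.card_eq_zero.1 n6
    have h7 := Finset.card_eq_zero.1 n7
    have mA : A ∈ cl true true true := by rw [hA]; simp
    have mA' : A' ∈ cl true true true := by rw [hA]; simp
    have mB : B ∈ cl true false false := by rw [hB]; exact Finset.mem_singleton_self _
    have mD : D ∈ cl false true true := by rw [hD]; simp
    have mD' : D' ∈ cl false true true := by rw [hD]; simp
    simp only [hA, h2, h3, hD, Finset.sum_pair hne', Finset.sum_pair hDn, Finset.sum_empty,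
      add_zero] at e12 e13 e23
    have h0 := hsum fun i => d i * y i - d i * z i
    rw [Finset.sum_sub_distrib, hdy, hdz, sub_zero] at h0
    have z0 : ∀ v : ℤ, v * v = 0 → v = 0 := fun v h => mul_self_eq_zero.1 h
    simp only [hA, h2, h3, hB, hD, h6, h7, Finset.sum_pair hne', Finset.sum_pair hDn,
      Finset.sum_singleton, Finset.sum_empty, z0 _ (qy _ _ _ B mB), z0 _ (qz _ _ _ B mB), mul_zero,
      sub_zero, add_zero] at h0
    have := hd D
    have := hd D'
    rcases mul_self_eq_one_iff.1 (qx _ _ _ A mA) with a1 | a1 <;>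
      rcases mul_self_eq_one_iff.1 (qy _ _ _ A mA) with a2 | a2 <;>
      rcases mul_self_eq_one_iff.1 (qz _ _ _ A mA) with a3 | a3 <;>
      rcases mul_self_eq_one_iff.1 (qx _ _ _ A' mA') with b1 | b1 <;>
      rcases mul_self_eq_one_iff.1 (qy _ _ _ A' mA') with b2 | b2 <;>
      rcases mul_self_eq_one_iff.1 (qz _ _ _ A' mA') with b3 | b3 <;>
      simp only [a1, a2, a3, b1, b2, b3] at e12 e13 e23 h0 <;>
      first
        | omega
        | (rcases mul_self_eq_one_iff.1 (qy _ _ _ D mD) with c1 | c1 <;>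
            rcases mul_self_eq_one_iff.1 (qz _ _ _ D mD) with c2 | c2 <;>
            rcases mul_self_eq_one_iff.1 (qy _ _ _ D' mD') with c3 | c3 <;>
            rcases mul_self_eq_one_iff.1 (qz _ _ _ D' mD') with c4 | c4 <;>
            simp only [c1, c2, c3, c4] at e23 h0 <;> omega)

end Cfsg.Agent.H82.ConstDiff.Rows
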