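import Cfsg.Agent.H82.ConstDiff.ThreeLocal
import Cfsg.Agent.H82.ConstDiff.Basic
import Cfsg.Agent.H82.ConstDiff.Shift
import Cfsg.Agent.H82.ConstDiff.Rows
import Cfsg.Agent.H81.AlgInt

/-!
# A nontrivial stabilizer on a Sylow subgroup of order eight
-/

set_option autoImplicit false
set_option linter.unusedSectionVars false
set_option linter.style.haveILetI false

open scoped ComplexConjugate

namespace Cfsg.Agent.H82.ConstDiff

open CharBasic BlockBasic Subgroup

universe u

variable {G : Type u} [Group G] [Fintype G] {M : Ideal AlgInt}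

set_option maxHeartbeats 1000000 in
/-- A nontrivial stabilizer is impossible for order eight. -/
theorem three_case (hM : IsPModular 2 M) {w x y : G} {k : ℂ} (hk : Diff M w k) (hw : w = x * y)
    (hcomm : Commute x y) (hx : orderOf x = 2) (hy : ¬ 2 ∣ orderOf y)
    (hconj : ∀ h : G, h ≠ 1 → (∃ e, orderOf h = 2 ^ e) → IsConj x h)
    (P : Sylow 2 G) (hxP : x ∈ (P : Subgroup G)) (hcard : Nat.card (P : Subgroup G) = 8)
    (hfixed : ∀ s ∈ normalizer ((P : Subgroup G) : Set G), s * x = x * s →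
      s ∉ centralizer ((P : Subgroup G) : Set G) →
      Nat.card ↥((P : Subgroup G) ⊓ centralizer ({s} : Set G)) ≤ 2)
    {s₀ : G} (hs₀ : s₀ ∈ normalizer ((P : Subgroup G) : Set G)) (hs₀x : s₀ * x = x * s₀)
    (hs₀C : s₀ ∉ centralizer ((P : Subgroup G) : Set G)) : False := by
  classical
  haveI : Fact (Nat.Prime 2) := ⟨Nat.prime_two⟩
  have hel := sylow_el P hconj hx
  haveI hab := isMulCommutative_of_el P hel
  have hx1 : x ≠ 1 := fun e => by rw [e, orderOf_one] at hx; omega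
  let C := centralizer ({x} : Set G)
  haveI : Fintype C := Fintype.ofFinite _
  have hle : (P : Subgroup G) ≤ C := fun v hv =>
    mem_centralizer_singleton_iff.2 (H86.Abelian.mul_comm_sylow P hv hxP)
  set Q : Sylow 2 C := P.subtype hle
  have hQel : ∀ v ∈ (Q : Subgroup C), v ^ 2 = 1 := fun v hv => Subtype.ext (by simpa using hel v hv)
  have hQcard : Nat.card (Q : Subgroup C) = 8 := by
    rw [← hcard]; exact Nat.card_congr (subgroupOfEquivOfLe hle).toEquiv
  set e : C := ⟨x, mem_centralizer_singleton_iff.2 rfl⟩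
  have heQ : e ∈ (Q : Subgroup C) := hxP
  have he1 : e ≠ 1 := fun h => hx1 (congrArg Subtype.val h)
  have hec : ∀ c : C, e * c = c * e := fun c =>
    Subtype.ext (mem_centralizer_singleton_iff.1 c.2).symm
  have he2 : e * e = 1 := by rw [← sq]; exact hQel e heQ
  -- an element of odd order
  set t₀ : C := ⟨s₀, mem_centralizer_singleton_iff.2 hs₀x⟩
  have ht₀ : t₀ ∈ normalizer ((Q : Subgroup C) : Set C) :=
    mem_normalizer_iff.2 fun v => mem_normalizer_iff.1 hs₀ (v : G)
  obtain ⟨a, s, hts, haz, hsz, ⟨j, hj⟩, hs2⟩ := Fusion.exists_mul_eq_pPart (p := 2) t₀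
  have hzle : zpowers t₀ ≤ normalizer ((Q : Subgroup C) : Set C) := zpowers_le.2 ht₀
  have haQ : a ∈ (Q : Subgroup C) := by
    obtain ⟨i, -, hi⟩ := (Nat.dvd_prime_pow Nat.prime_two).1 hj
    exact ((IsPGroup.of_card (G := zpowers a) (n := i) (by rw [Nat.card_zpowers, hi])).inf_normalizer_sylow
      Q).le ⟨mem_zpowers a, hzle haz⟩ |>.2
  have hsodd : Odd (orderOf s) := Nat.coprime_two_right.1 hs2
  have hsC : (s : G) ∉ centralizer ((P : Subgroup G) : Set G) := fun h => hs₀C <| by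
    rw [show s₀ = (a : G) * (s : G) from congrArg Subtype.val hts]
    exact mul_mem (mem_centralizer_iff.2 fun v hv => H86.Abelian.mul_comm_sylow P hv haQ) h
  have hsN : (s : G) ∈ normalizer ((P : Subgroup G) : Set G) := by
    rw [show (s : G) = ((a : G))⁻¹ * s₀ by
      rw [show s₀ = (a : G) * (s : G) from congrArg Subtype.val hts, inv_mul_cancel_left]]
    exact mul_mem (inv_mem (le_normalizer (show (a : G) ∈ (P : Subgroup G) from haQ))) hs₀
  have hsfix : ∀ v ∈ (Q : Subgroup C), s * v * s⁻¹ = v → v = 1 ∨ v = e := by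
    intro v hv hfix
    by_contra hne
    push Not at hne
    set F := (P : Subgroup G) ⊓ centralizer ({(s : G)} : Set G)
    have hxF : x ∈ F := ⟨hxP, mem_centralizer_singleton_iff.2 (mem_centralizer_singleton_iff.1 s.2).symm⟩
    have hvF : (v : G) ∈ F := ⟨hv, mem_centralizer_singleton_iff.2
      (congrArg Subtype.val (mul_inv_eq_iff_eq_mul.1 hfix)).symm⟩
    have h3 : 3 ≤ Nat.card F := by
      let φ : Fin 3 → F := ![1, ⟨x, hxF⟩, ⟨(v : G), hvF⟩]
      have hinj : Function.Injective φ := by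
        have n1 : (1 : F) ≠ ⟨x, hxF⟩ := fun h => hx1 (congrArg Subtype.val h).symm
        have n2 : (1 : F) ≠ ⟨(v : G), hvF⟩ := fun h =>
          hne.1 (Subtype.ext (congrArg Subtype.val h).symm)
        have n3 : (⟨x, hxF⟩ : F) ≠ ⟨(v : G), hvF⟩ := fun h => hne.2 (Subtype.ext
          (show (v : G) = x from (congrArg (fun z : F => (z : G)) h).symm))
        intro i i'
        fin_cases i <;> fin_cases i' <;> simp [φ, n1, n2, n3, n1.symm, n2.symm, n3.symm]
      simpa using Nat.card_le_card_of_injective φ hinj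
    have h2 : Nat.card F ≤ 2 := hfixed (s : G) hsN (mem_centralizer_singleton_iff.1 s.2) hsC
    omega
  obtain ⟨K, V, heK, hsplit, hodd, hklein, hone⟩ :=
    exists_klein_factor Q hQel hQcard heQ he1 hec (hzle hsz) hsodd hsfix
  haveI : Fintype K := Fintype.ofFinite _
  obtain ⟨f, g, g', ε, hε, hf, hg, hg', hfg, hfg', hgg', hblock, hrel, hind⟩ :=
    klein_functions hM V hklein hone
  let Reg : K → Prop := fun z => ¬ 2 ∣ orderOf (z : C)
  have hregK : ∀ z : K, Reg z → ¬ 2 ∣ orderOf z := fun z hz => by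
    rwa [← Subgroup.orderOf_coe]
  have hregK' : ∀ z : K, ¬ 2 ∣ orderOf z → Reg z := fun z hz => by
    show ¬ 2 ∣ orderOf (z : C)
    rwa [Subgroup.orderOf_coe]
  let U : K → ℂ := fun z => (f : K → ℂ) z
  let W : K → ℂ := fun z => (ε : ℂ) * (g : K → ℂ) z
  have hind' : ∀ a b c : ℂ, (∀ z, Reg z → a + b * U z + c * W z = 0) → a = 0 ∧ b = 0 ∧ c = 0 :=
    fun a b c h => hind a b c fun z hz => h z (hregK' z hz)
  have hindc : ∀ a b c : ℂ, (∀ z, Reg z → a + b * conj (U z) + c * conj (W z) = 0) →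
      a = 0 ∧ b = 0 ∧ c = 0 := fun a b c h => by
    obtain ⟨h1, h2, h3⟩ := hind' (conj a) (conj b) (conj c) fun z hz => by
      have := congrArg conj (h z hz)
      simpa only [map_add, map_mul, Complex.conj_conj, map_zero] using this
    exact ⟨(map_eq_zero _).1 h1, (map_eq_zero _).1 h2, (map_eq_zero _).1 h3⟩
  have hε2 : (ε : ℂ) * ε = 1 := by rcases hε with rfl | rfl <;> simp
  -- members of the block of the centralizer
  have hmem : ∀ ψ : IrrCharacter C, ∃ α β γ : ℤ, ψ ∈ principalBlock M C → ∀ z : K, Reg z →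
      (ψ : C → ℂ) (z : C) = (α : ℂ) + (β : ℂ) * U z + (γ : ℂ) * W z := by
    intro ψ
    by_cases hψ : ψ ∈ principalBlock M C
    · have key : ∀ z : K, (ψ : C → ℂ) (z : C) =
          ((res hec he2 heK hsplit ψ : IrrCharacter K) : K → ℂ) z := fun z => rfl
      rcases (hblock _).1 (res_mem hec he2 heK hsplit hψ) with h | h | h | h
      · exact ⟨1, 0, 0, fun _ z _ => by rw [key, h]; simp [trivialIrr]⟩
      · exact ⟨0, 1, 0, fun _ z _ => by rw [key, h]; simp [U]⟩
      · refine ⟨0, 0, ε, fun _ z _ => ?_⟩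
        rw [key, h]
        simp only [W, Int.cast_zero, zero_mul, zero_add, ← mul_assoc, hε2, one_mul]
      · refine ⟨1, 1, 1, fun _ z hz => ?_⟩
        rw [key, h, hrel z (hregK z hz)]
        simp [U, W]
    · exact ⟨0, 0, 0, fun h => absurd h hψ⟩
  choose α β γ hψval using hmem
  -- the rows
  have hrows : ∀ χ : IrrCharacter G, ∃ r₁ r₂ r₃ : ℤ, χ ∈ principalBlock M G → ∀ z : K, Reg z →
      (χ : G → ℂ) (x * ((z : C) : G)) = (r₁ : ℂ) + (r₂ : ℂ) * U z + (r₃ : ℂ) * W z := by
    intro χ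
    obtain ⟨a', -, -, hcl, -⟩ := shift_eq_sum χ hx
    set S := Finset.univ.filter fun ψ : IrrCharacter C => ψ ∈ principalBlock M C
    refine ⟨∑ ψ ∈ S, (H83.mult χ ψ : ℤ) * a' ψ * α ψ, ∑ ψ ∈ S, (H83.mult χ ψ : ℤ) * a' ψ * β ψ,
      ∑ ψ ∈ S, (H83.mult χ ψ : ℤ) * a' ψ * γ ψ, fun hχ z hz => ?_⟩
    have h := Cores.principal_part_eq hM (e := 1) (by rw [hx, pow_one]) χ (z : C) hz
    rw [if_pos hχ] at h
    rw [← h]
    simp only [Int.cast_sum, Finset.sum_mul, ← Finset.sum_add_distrib]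
    refine Finset.sum_congr (by simp only [S]; congr 1) fun ψ hψ => ?_
    rw [hcl, hψval ψ (Finset.mem_filter.1 hψ).2 z hz]
    push_cast
    ring
  choose r₁ r₂ r₃ hr using hrows
  let ι := {χ : IrrCharacter G // χ ∈ rest M G}
  haveI : Fintype ι := Fintype.ofFinite _
  let X : ι → ℤ := fun i => r₁ i.1
  let Y : ι → ℤ := fun i => r₂ i.1
  let Z : ι → ℤ := fun i => r₃ i.1
  let d : ι → ℤ := fun i => (charDegree (i.1 : G → ℂ) : ℤ)
  have hval : ∀ (i : ι) (z : K), Reg z → (i.1 : G → ℂ) (x * ((z : C) : G)) =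
      (X i : ℂ) + (Y i : ℂ) * U z + (Z i : ℂ) * W z :=
    fun i z hz => hr i.1 (mem_rest.1 i.2).2 z hz
  have hd1 : ∀ i : ι, (i.1 : G → ℂ) 1 = (d i : ℂ) := fun i => by
    rw [apply_one_eq_charDegree]; simp [d]
  have hsubG : ∀ F : IrrCharacter G → ℂ, ∑ χ ∈ rest M G, F χ = ∑ i : ι, F i.1 := fun F =>
    (Finset.sum_subtype (rest M G) (fun χ => Iff.rfl) F)
  have hKker : ∀ z z' : K, Reg z → Reg z' → blockKernel (principalBlock M K) z z' =
      1 + U z * conj (U z') + W z * conj (W z') +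
        (1 + U z + W z) * (1 + conj (U z') + conj (W z')) := by
    intro z z' hz hz'
    have hset : (Finset.univ.filter fun χ : IrrCharacter K => χ ∈ principalBlock M K) =
        {trivialIrr, f, g, g'} := by
      ext χ; simp [hblock χ]
    rw [blockKernel, finsum_mem_eq_sum_ite, ← Finset.sum_filter, hset,
      Finset.sum_insert (by simp [hf.symm, hg.symm, hg'.symm]), Finset.sum_insert (by simp [hfg, hfg']),
      Finset.sum_insert (by simp [hgg']), Finset.sum_singleton, hrel z (hregK z hz),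
      hrel z' (hregK z' hz')]
    simp only [U, W, map_add, map_mul, map_one, map_intCast, trivialIrr]
    linear_combination (-(g : K → ℂ) z * conj ((g : K → ℂ) z')) * hε2
  -- the Gram matrix
  have hgram : ∀ z z' : K, Reg z → Reg z' →
      ∑ i : ι, ((X i : ℂ) + (Y i : ℂ) * U z + (Z i : ℂ) * W z) *
        ((X i : ℂ) + (Y i : ℂ) * conj (U z') + (Z i : ℂ) * conj (W z')) =
      2 * (1 + U z * conj (U z') + W z * conj (W z') +
        (1 + U z + W z) * (1 + conj (U z') + conj (W z'))) - 1 := by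
    intro z z' hz hz'
    have h1 := Nine.principal_section_kernel hM (e := 1) (x := x) (by rw [hx, pow_one]) (z : C) (z' : C) hz hz'
    rw [kernel_double hec he2 heK hsplit hM hz hz', hKker z z' hz hz', kernel_eq hM, hsubG] at h1
    rw [← h1, add_sub_cancel_left]
    refine Finset.sum_congr rfl fun i _ => ?_
    rw [hval i z hz, hval i z' hz']
    simp only [map_add, map_mul, map_intCast]
  obtain ⟨⟨gxx, gxy, gxz⟩, ⟨-, gyy, gyz⟩, -, -, gzz⟩ :
      ((∑ i, X i * X i = 3) ∧ (∑ i, X i * Y i = 2) ∧ (∑ i, X i * Z i = 2)) ∧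
      ((∑ i, Y i * X i = 2) ∧ (∑ i, Y i * Y i = 4) ∧ (∑ i, Y i * Z i = 2)) ∧
      ((∑ i, Z i * X i = 2) ∧ (∑ i, Z i * Y i = 2) ∧ (∑ i, Z i * Z i = 4)) := by
    set sxx := ∑ i, X i * X i
    set sxy := ∑ i, X i * Y i
    set sxz := ∑ i, X i * Z i
    set syx := ∑ i, Y i * X i
    set syy := ∑ i, Y i * Y i
    set syz := ∑ i, Y i * Z i
    set szx := ∑ i, Z i * X i
    set szy := ∑ i, Z i * Y i
    set szz := ∑ i, Z i * Z i
    have hexp : ∀ z z' : K, Reg z → Reg z' →
        (((sxx : ℂ) - 3) + ((sxy : ℂ) - 2) * conj (U z') + ((sxz : ℂ) - 2) * conj (W z')) +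
        (((syx : ℂ) - 2) + ((syy : ℂ) - 4) * conj (U z') + ((syz : ℂ) - 2) * conj (W z')) * U z +
        (((szx : ℂ) - 2) + ((szy : ℂ) - 2) * conj (U z') + ((szz : ℂ) - 4) * conj (W z')) * W z = 0 := by
      intro z z' hz hz'
      have h := hgram z z' hz hz'
      simp only [add_mul, mul_add, Finset.sum_add_distrib] at h
      simp only [sxx, sxy, sxz, syx, syy, syz, szx, szy, szz, Int.cast_sum, Int.cast_mul, sub_mul,
        add_mul, Finset.sum_mul]
      simp only [mul_assoc, mul_left_comm, mul_comm] at h ⊢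
      linear_combination h
    have h3 : ∀ z', Reg z' → _ ∧ _ ∧ _ := fun z' hz' => hind' _ _ _ fun z hz => hexp z z' hz hz'
    obtain ⟨a1, a2, a3⟩ := hindc _ _ _ fun z' hz' => (h3 z' hz').1
    obtain ⟨b1, b2, b3⟩ := hindc _ _ _ fun z' hz' => (h3 z' hz').2.1
    obtain ⟨c1, c2, c3⟩ := hindc _ _ _ fun z' hz' => (h3 z' hz').2.2
    rw [sub_eq_zero] at a1 a2 a3 b1 b2 b3 c1 c2 c3
    exact ⟨⟨by exact_mod_cast a1, by exact_mod_cast a2, by exact_mod_cast a3⟩,
      ⟨by exact_mod_cast b1, by exact_mod_cast b2, by exact_mod_cast b3⟩,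
      by exact_mod_cast c1, by exact_mod_cast c2, by exact_mod_cast c3⟩
  -- orthogonality with the degrees
  have hsing : ∀ z : K, Reg z → 2 ∣ orderOf (x * ((z : C) : G)) := by
    intro z hz
    have hc : Commute x ((z : C) : G) := (mem_centralizer_singleton_iff.1 (z : C).2).symm
    have h1 : pPart (p := 2) (x * ((z : C) : G)) = x :=
      pPart_mul_of hc ⟨1, by rw [hx, pow_one]⟩ (by rwa [Subgroup.orderOf_coe])
    by_contra hd
    rw [(pPart_eq_one_iff _).2 hd] at h1
    exact hx1 h1.symm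
  have hone' : ¬ 2 ∣ orderOf (1 : G) := by rw [orderOf_one]; norm_num
  obtain ⟨-, hdy, hdz⟩ : (1 : ℤ) + ∑ i, d i * X i = 0 ∧ ∑ i, d i * Y i = 0 ∧ ∑ i, d i * Z i = 0 := by
    have h : ∀ z, Reg z → ((1 : ℤ) + ∑ i, d i * X i : ℤ) + ((∑ i, d i * Y i : ℤ) : ℂ) * conj (U z) +
        ((∑ i, d i * Z i : ℤ) : ℂ) * conj (W z) = 0 := by
      intro z hz
      have h0 := blockKernel_eq_zero_of_regular_of_singular hM (isPBlock_principalBlock (G := G) M)
        hone' (hsing z hz)
      rw [kernel_eq hM, hsubG, Finset.sum_congr rfl (g := fun i => (d i : ℂ) *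
        ((X i : ℂ) + (Y i : ℂ) * conj (U z) + (Z i : ℂ) * conj (W z))) fun i _ => by
          rw [hd1, hval i z hz]; simp only [map_add, map_mul, map_intCast]] at h0
      rw [← h0]
      push_cast
      simp only [mul_add, Finset.sum_add_distrib, Finset.sum_mul, mul_assoc]
      ring
    obtain ⟨h1, h2, h3⟩ := hindc _ _ _ h
    exact ⟨by exact_mod_cast h1, by exact_mod_cast h2, by exact_mod_cast h3⟩
  -- the column of the element
  have hyC : y ∈ C := mem_centralizer_singleton_iff.2 hcomm.eq.symm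
  have hyodd : ¬ 2 ∣ orderOf (⟨y, hyC⟩ : C) := by rwa [Subgroup.orderOf_mk]
  set y' : K := ⟨⟨y, hyC⟩, hodd _ hyodd⟩
  have hy' : Reg y' := hyodd
  set sX := ∑ i, X i
  set sY := ∑ i, Y i
  set sZ := ∑ i, Z i
  set p := U y'
  set q := W y'
  obtain ⟨eX, eY, eZ⟩ : k * (sX : ℂ) = -2 * (2 + p + q) ∧ k * (sY : ℂ) = -2 * (1 + 2 * p + q) ∧
      k * (sZ : ℂ) = -2 * (1 + p + 2 * q) := by
    obtain ⟨h1, h2, h3⟩ := hindc (k * (sX : ℂ) + 2 * (2 + p + q))
      (k * (sY : ℂ) + 2 * (1 + 2 * p + q)) (k * (sZ : ℂ) + 2 * (1 + p + 2 * q)) fun z hz => by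
        have h := section_eq hM hk hx hw hy hyC (z : C) hz
        rw [show (⟨y, hyC⟩ : C) = ((y' : K) : C) from rfl, kernel_double hec he2 heK hsplit hM hy' hz,
          hKker y' z hy' hz, phi, map_sum, hsubG, Finset.sum_congr rfl (g := fun i =>
            ((X i : ℂ) + (Y i : ℂ) * conj (U z) + (Z i : ℂ) * conj (W z))) fun i _ => by
              rw [hval i z hz]; simp only [map_add, map_mul, map_intCast]] at h
        simp only [Finset.sum_add_distrib, ← Finset.sum_mul] at h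
        simp only [sX, sY, sZ, p, q, Int.cast_sum]
        linear_combination h
    exact ⟨by linear_combination h1, by linear_combination h2, by linear_combination h3⟩
  set m : ℤ := sY + sZ - 3 * sX
  have hkm : k * (m : ℂ) = 8 := by
    simp only [m]; push_cast; linear_combination eY + eZ - 3 * eX
  have hm0 : m ≠ 0 := fun h => by rw [h] at hkm; norm_num at hkm
  have hk0 : k ≠ 0 := fun h => by rw [h] at hkm; norm_num at hkm
  have hwval : ∀ i : ι, (i.1 : G → ℂ) w = (X i : ℂ) + (Y i : ℂ) * p + (Z i : ℂ) * q := fun i => by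
    rw [hw]; exact hval i y' hy'
  have hkd : ∀ i : ι, k = (d i : ℂ) - (i.1 : G → ℂ) w := fun i => by
    rw [← hk i.1 (mem_rest.1 i.2).2 (mem_rest.1 i.2).1, hd1]
  obtain ⟨i₀⟩ : Nonempty ι := by
    by_contra hemp
    rw [not_nonempty_iff] at hemp
    rw [Finset.univ_eq_empty, Finset.sum_empty] at gxx
    norm_num at gxx
  obtain ⟨kz, hkz⟩ : ∃ kz : ℤ, k = (kz : ℂ) := by
    have hq : k = (((8 : ℚ) / (m : ℚ) : ℚ) : ℂ) := by
      push_cast
      rw [eq_div_iff (Int.cast_ne_zero.2 hm0)]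
      exact hkm
    have hint : IsIntegral ℤ k := by
      rw [hkd i₀, ← hd1]
      exact (isIntegral_apply i₀.1 1).sub (isIntegral_apply i₀.1 w)
    rw [hq] at hint
    obtain ⟨kz, hkz⟩ := H81.int_of_isIntegral_ratCast hint
    exact ⟨kz, by rw [hq, ← hkz, Rat.cast_intCast]⟩
  have hkzm : kz * m = 8 := by
    rw [hkz] at hkm; exact_mod_cast hkm
  have hrow : ∀ i, 8 * (d i - kz) = -(kz * Rows.bil (X i) (Y i) (Z i) sX sY sZ) := by
    intro i
    apply Int.cast_injective (α := ℂ)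
    have h := hkd i
    rw [hwval i, hkz] at h
    rw [hkz] at eX eY eZ
    simp only [Rows.bil]
    push_cast
    linear_combination -8 * h + ((X i : ℂ) * 3 - Y i - Z i) * eX + ((Y i : ℂ) * 3 - X i - Z i) * eY +
      ((Z i : ℂ) * 3 - X i - Y i) * eZ
  have hbd : ∀ i, 0 ≤ kz ∧ kz ≤ 2 * d i := by
    intro i
    have h := CharBasic.IsChar.norm_le (IsIrr.isCharacter i.1.2) w
    have hv : (i.1 : G → ℂ) w = ((d i - kz : ℤ) : ℂ) := by
      push_cast; linear_combination hkd i - hkz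
    rw [hv, hd1, Complex.norm_intCast, Complex.norm_intCast] at h
    have h' : |d i - kz| ≤ |d i| := by exact_mod_cast h
    rw [abs_of_nonneg (show 0 ≤ d i by simp [d])] at h'
    rw [abs_le] at h'
    omega
  have hkz0 : kz ≠ 0 := fun h => by rw [h, zero_mul] at hkzm; omega
  refine Rows.no_rows X Y Z d kz (fun i => ?_) (fun i => ?_) gxx gyy gzz gxy gxz gyz hdy hdz
    (lt_of_le_of_ne (hbd i₀).1 hkz0.symm) hkzm hrow fun i => (hbd i).2
  · obtain ⟨c, hc, hne⟩ := Nine.exists_apply_mul_ne_zero hM (e := 1) (x := x) (by rw [hx, pow_one])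
      (Nine.factorization_centralizer P hxP) (mem_rest.1 i.2).2
    by_contra hall
    push Not at hall
    refine hne ?_
    have h := hval i ⟨c, hodd c hc⟩ hc
    rw [hall.1, hall.2.1, hall.2.2] at h
    simpa using h
  · show (0 : ℤ) < (charDegree (i.1 : G → ℂ) : ℤ)
    exact_mod_cast charDegree_pos i.1

end Cfsg.Agent.H82.ConstDiff
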