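import Cfsg.Agent.H82.ConstDiff.Self
import Cfsg.Agent.H82.ConstDiff.Semi
import Cfsg.Agent.H82.ConstDiff.Big
import Cfsg.Agent.H82.ConstDiff.Three
import Cfsg.Agent.Fusion.Complements

/-!
# Principal 2-blocks with constant difference of degree and value: groups with trivial odd core
-/

set_option autoImplicit false
set_option linter.unusedSectionVars false
set_option linter.style.haveILetI false

namespace Cfsg.Agent.H82.ConstDiff

open CharBasic BlockBasic Subgroup

universe u

variable {G : Type u} [Group G] [Fintype G] {M : Ideal AlgInt}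

/-- The group has order two or is a linear fractional group and the element is an involution. -/
theorem reduced (hM : IsPModular 2 M) (hO : pPrimeCore 2 G = ⊥) {w : G} (hw1 : w ≠ 1) {k : ℂ}
    (hk : Diff M w k) :
    Nat.card G = 2 ∨ ∃ (F : Type) (_ : Field F) (_ : Fintype F) (n : ℕ), 2 ≤ n ∧
      Fintype.card F = 2 ^ n ∧
      Nonempty (G ≃* Matrix.ProjectiveSpecialLinearGroup (Fin 2) F) ∧ w ^ 2 = 1 := by
  classical
  haveI : Fact (Nat.Prime 2) := ⟨Nat.prime_two⟩
  obtain ⟨x, y, hw, hcomm, hx, hy, hconj⟩ := shape hM hO hw1 hk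
  obtain ⟨P, hxP⟩ := exists_sylow_mem hconj hx
  have hel := sylow_el P hconj hx
  haveI := isMulCommutative_of_el P hel
  have hx1 : x ≠ 1 := fun e => by rw [e, orderOf_one] at hx; omega
  have htrans : ∀ a ∈ (P : Subgroup G), a ≠ 1 → ∀ b ∈ (P : Subgroup G), b ≠ 1 →
      ∃ n ∈ normalizer ((P : Subgroup G) : Set G), n * a * n⁻¹ = b :=
    fun a ha ha1 b hb hb1 => sylow_trans P hconj ha ha1 hb hb1
  obtain ⟨n, hn, hidx, hfixed⟩ := semilinear_bounds P hel htrans hxP hx1
  by_cases hstab : ∀ m ∈ normalizer ((P : Subgroup G) : Set G), m * x = x * m →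
      m ∈ centralizer ((P : Subgroup G) : Set G)
  · by_cases hq : 4 ≤ Nat.card (P : Subgroup G)
    · exact Or.inr (psl_case hM hO hk hw hcomm hx hy hconj P hxP hq hstab)
    left
    have hn1 : n = 1 := by
      rcases n with _ | _ | n
      · exfalso
        rw [pow_zero, card_eq_one] at hn
        exact hx1 (mem_bot.1 (hn ▸ hxP))
      · rfl
      · exfalso
        exact hq (hn ▸ le_of_eq_of_le (by norm_num : (4 : ℕ) = 2 ^ 2)
          (Nat.pow_le_pow_right two_pos (by omega)))
    rw [hn1, pow_one] at hn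
    have hle : normalizer ((P : Subgroup G) : Set G) ≤ centralizer ((P : Subgroup G) : Set G) := by
      intro m hm
      refine hstab m hm (mul_inv_eq_iff_eq_mul.1 ?_)
      have huniv : ∀ v : (P : Subgroup G), v = 1 ∨ v = ⟨x, hxP⟩ := by
        obtain ⟨a, b, hab, hab'⟩ := Nat.card_eq_two_iff.1 hn
        intro v
        have h1 : ∀ z : (P : Subgroup G), z = a ∨ z = b := fun z => by
          simpa using (hab' ▸ Set.mem_univ z : z ∈ ({a, b} : Set (P : Subgroup G)))
        have hne : (1 : (P : Subgroup G)) ≠ ⟨x, hxP⟩ := fun e => hx1 (congrArg Subtype.val e).symm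
        rcases h1 v with rfl | rfl <;> rcases h1 1 with e1 | e1 <;> rcases h1 ⟨x, hxP⟩ with e2 | e2 <;>
          first
            | exact Or.inl e1.symm
            | exact Or.inr e2.symm
            | exact absurd (e1.trans e2.symm) hne
      rcases huniv ⟨m * x * m⁻¹, (mem_normalizer_iff.1 hm x).1 hxP⟩ with h | h
      · exact absurd (conj_eq_one_iff.1 (congrArg Subtype.val h)) hx1
      · exact congrArg Subtype.val h
    obtain ⟨Q, N, hN, hc⟩ := Fusion.hasNormalPComplement_of_normalizer_le_centralizer P hle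
    haveI := hN
    have hNp : ¬ 2 ∣ Nat.card N := Fusion.not_dvd_card_of_isComplement' Q hc
    have hNbot : N = ⊥ := le_bot_iff.1 (hO ▸ Cores.le_pPrimeCore
      (Nat.Coprime.symm ((Nat.prime_two.coprime_iff_not_dvd).2 hNp)))
    rw [← hc.card_mul_card, hNbot, card_bot, one_mul]
    refine Eq.trans ?_ hn
    exact Nat.card_congr (Sylow.equiv Q P).toEquiv
  · exfalso
    push Not at hstab
    obtain ⟨s₀, hs₀, hs₀x, hs₀C⟩ := hstab
    have h2 : 2 ≤ 2 ^ (n / 3) := by
      refine le_trans ?_ (hfixed s₀ hs₀ hs₀x hs₀C)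
      haveI : Nontrivial ↥((P : Subgroup G) ⊓ centralizer ({s₀} : Set G)) :=
        ⟨⟨1, ⟨x, hxP, mem_centralizer_singleton_iff.2 hs₀x.symm⟩,
          fun e => hx1 (congrArg Subtype.val e).symm⟩⟩
      exact Finite.one_lt_card
    have h3 : 3 ≤ n := by
      by_contra h
      rw [Nat.div_eq_of_lt (by omega), pow_zero] at h2
      omega
    rcases Nat.lt_or_ge n 4 with h | h
    · obtain rfl : n = 3 := by omega
      refine three_case hM hk hw hcomm hx hy hconj P hxP (by rw [hn]; norm_num) ?_ hs₀ hs₀x hs₀C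
      intro s a b c
      simpa using hfixed s a b c
    · exact big_case hM hk hw hcomm hx hy hconj P hxP hn h hidx hfixed hs₀ hs₀x hs₀C

end Cfsg.Agent.H82.ConstDiff
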