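import Cfsg.Agent.H82.NineBasic
import Cfsg.Agent.CharInduce.Ops

/-!
# The principal 2-block of a group with a central involution and a complementary subgroup
-/

set_option autoImplicit false
set_option linter.unusedSectionVars false
set_option linter.style.haveILetI false

open scoped ComplexConjugate

namespace Cfsg.Agent.H82.ConstDiff

open CharBasic BlockBasic

universe u

variable {C : Type u} [Group C] [Fintype C] {e : C} {K : Subgroup C} [Fintype K]
  (hec : ∀ c : C, e * c = c * e) (he2 : e * e = 1) (heK : e ∉ K) (hK : ∀ c : C, c ∈ K ∨ e * c ∈ K)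

include he2 heK hK in
theorem sum_split (F : C → ℂ) : ∑ c : C, F c = ∑ k : K, F (k : C) + ∑ k : K, F (e * (k : C)) := by
  classical
  let f : K ⊕ K → C := Sum.elim (fun k => (k : C)) fun k => e * (k : C)
  have hne : ∀ k k' : K, (k : C) ≠ e * (k' : C) := fun k k' h => heK (by
    have := K.mul_mem k.2 (K.inv_mem k'.2)
    rwa [h, mul_inv_cancel_right] at this)
  have hbij : Function.Bijective f := by
    constructor
    · rintro (k | k) (k' | k') h <;> simp only [f, Sum.elim_inl, Sum.elim_inr] at h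
      · exact congrArg _ (Subtype.ext h)
      · exact absurd h (hne k k')
      · exact absurd h.symm (hne k' k)
      · exact congrArg _ (Subtype.ext (mul_left_cancel h))
    · intro c
      rcases hK c with h | h
      · exact ⟨Sum.inl ⟨c, h⟩, rfl⟩
      · exact ⟨Sum.inr ⟨e * c, h⟩, by simp only [f, Sum.elim_inr]; rw [← mul_assoc, he2, one_mul]⟩
  rw [← Fintype.sum_bijective f hbij _ F fun _ => rfl, Fintype.sum_sum_type]
  rfl

include hec he2 heK hK in
theorem index_centralizer (k : K) :
    (Subgroup.centralizer ({(k : C)} : Set C)).index =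
      (Subgroup.centralizer ({k} : Set K)).index := by
  rw [← card_conjugates_eq_index, ← card_conjugates_eq_index]
  have hmem : ∀ v : C, IsConj (k : C) v → ∃ d : K, (d : C) * (k : C) * (d : C)⁻¹ = v := by
    intro v h
    obtain ⟨d, rfl⟩ := isConj_iff.1 h
    rcases hK d with h' | h'
    · exact ⟨⟨d, h'⟩, rfl⟩
    · refine ⟨⟨e * d, h'⟩, ?_⟩
      show e * d * (k : C) * (e * d)⁻¹ = d * (k : C) * d⁻¹
      calc e * d * (k : C) * (e * d)⁻¹ = e * (d * (k : C) * d⁻¹) * e⁻¹ := by group
        _ = _ := by rw [hec, mul_inv_cancel_right]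
  refine Nat.card_congr
    { toFun := fun v => ⟨⟨v.1, ?_⟩, ?_⟩
      invFun := fun v => ⟨(v.1 : C), ?_⟩
      left_inv := fun v => rfl
      right_inv := fun v => rfl }
  · obtain ⟨d, hd⟩ := hmem v.1 v.2
    rw [← hd]; exact K.mul_mem (K.mul_mem d.2 k.2) (K.inv_mem d.2)
  · obtain ⟨d, hd⟩ := hmem v.1 v.2
    exact isConj_iff.2 ⟨d, Subtype.ext hd⟩
  · obtain ⟨d, hd⟩ := isConj_iff.1 v.2
    exact isConj_iff.2 ⟨(d : C), congrArg Subtype.val hd⟩

include hec he2 in
theorem exists_sign : ∃ σ : IrrCharacter C → ℂ, (∀ ψ, σ ψ = 1 ∨ σ ψ = -1) ∧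
    ∀ (ψ : IrrCharacter C) (c : C), (ψ : C → ℂ) (e * c) = σ ψ * (ψ : C → ℂ) c := by
  haveI : Fintype (⊤ : Subgroup C) := Fintype.ofFinite _
  have hle : Subgroup.zpowers e ≤ Subgroup.center C := by
    rw [Subgroup.zpowers_le, Subgroup.mem_center_iff]
    exact fun c => (hec c).symm
  have h : ∀ ψ : IrrCharacter C, ∃ s : ℂ, ∀ c : C, (ψ : C → ℂ) (e * c) = s * (ψ : C → ℂ) c := by
    intro ψ
    obtain ⟨n, ρ, hρ, hψ⟩ := ψ.2
    obtain ⟨s, hs⟩ := CharBasic.exists_central_scalar ρ (hle (Subgroup.mem_zpowers e))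
    refine ⟨s, fun c => ?_⟩
    rw [← hψ, hec c]
    exact hs.2.2 c
  choose σ hσ using h
  refine ⟨σ, fun ψ => ?_, hσ⟩
  have h1 := hσ ψ (e * 1)
  rw [hσ ψ 1, mul_one, he2, ← mul_assoc] at h1
  exact mul_self_eq_one_iff.1
    (mul_right_cancel₀ (IsIrr.one_ne_zero ψ.2) (by rw [one_mul]; exact h1.symm))

include hec he2 heK hK in
/-- Restriction to the complementary subgroup is irreducible. -/
theorem isIrr_restrict (ψ : IrrCharacter C) : IsIrrCharacter K (fun k => (ψ : C → ℂ) (k : C)) := by
  obtain ⟨σ, hσ, hs⟩ := exists_sign hec he2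
  refine CharBasic.isIrr_of_norm_one (H86.isCharacter_comp (IsIrr.isCharacter ψ.2) K.subtype) ?_
  have h1 := classInner_irr_self ψ.2
  rw [classInner_def, sum_split he2 heK hK] at h1
  have hcard : Nat.card C = 2 * Nat.card K := by
    have h := sum_split he2 heK hK (fun _ : C => (1 : ℂ))
    simp only [Finset.sum_const, Finset.card_univ, nsmul_eq_mul, mul_one] at h
    rw [← two_mul] at h
    rw [Nat.card_eq_fintype_card, Nat.card_eq_fintype_card]
    exact_mod_cast h
  have hσ2 : σ ψ * conj (σ ψ) = 1 := by rcases hσ ψ with h | h <;> simp [h]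
  rw [Finset.sum_congr rfl (g := fun k : K => (ψ : C → ℂ) (k : C) * conj ((ψ : C → ℂ) (k : C)))
    (s₁ := Finset.univ) (f := fun k : K => (ψ : C → ℂ) (e * (k : C)) * conj ((ψ : C → ℂ) (e * (k : C))))
    fun k _ => by rw [hs, map_mul]; linear_combination ((ψ : C → ℂ) (k : C) * conj ((ψ : C → ℂ) (k : C))) * hσ2,
    ← two_mul, hcard, Nat.cast_mul, Nat.cast_ofNat] at h1
  rw [classInner_def]
  rw [mul_inv, mul_mul_mul_comm, inv_mul_cancel₀ two_ne_zero, one_mul] at h1
  exact h1

/-- The restriction to the complementary subgroup. -/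
noncomputable def res (hec : ∀ c : C, e * c = c * e) (he2 : e * e = 1) (heK : e ∉ K)
    (hK : ∀ c : C, c ∈ K ∨ e * c ∈ K) (ψ : IrrCharacter C) : IrrCharacter K :=
  ⟨fun k => (ψ : C → ℂ) (k : C), isIrr_restrict hec he2 heK hK ψ⟩

theorem centralChar_restrict (ψ : IrrCharacter C) (k : K) :
    centralChar ((res hec he2 heK hK ψ : IrrCharacter K) : K → ℂ) k = centralChar (ψ : C → ℂ) (k : C) := by
  unfold centralChar
  rw [index_centralizer hec he2 heK hK k]
  rfl

include hec he2 heK hK in
theorem centralChar_one_restrict (k : K) :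
    centralChar (fun _ : K => (1 : ℂ)) k = centralChar (fun _ : C => (1 : ℂ)) (k : C) := by
  unfold centralChar
  rw [index_centralizer hec he2 heK hK k]

theorem res_mem {M : Ideal AlgInt} {ψ : IrrCharacter C} (h : ψ ∈ principalBlock M C) :
    res hec he2 heK hK ψ ∈ principalBlock M K := fun k => by
  rw [centralChar_restrict, centralChar_one_restrict hec he2 heK hK]
  exact h (k : C)

include hec he2 heK hK in
/-- The kernel on elements of odd order is twice that of the subgroup. -/
theorem kernel_double {M : Ideal AlgInt} (hM : IsPModular 2 M) {y z : K}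
    (hy : ¬ 2 ∣ orderOf (y : C)) (hz : ¬ 2 ∣ orderOf (z : C)) :
    blockKernel (principalBlock M C) (y : C) (z : C) = 2 * blockKernel (principalBlock M K) y z := by
  classical
  haveI : Fact (Nat.Prime 2) := ⟨Nat.prime_two⟩
  obtain ⟨σ, hσ, hs⟩ := exists_sign hec he2
  let proj : C → K := fun c => if h : c ∈ K then ⟨c, h⟩ else ⟨e * c, (hK c).resolve_left h⟩
  have hprojK : ∀ k : K, proj (k : C) = k := fun k => by simp [proj, k.2]
  have hproje : ∀ k : K, proj (e * (k : C)) = k := fun k => by
    have h : e * (k : C) ∉ K := fun h => heK (by simpa using K.mul_mem h (K.inv_mem k.2))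
    simp only [proj, dif_neg h]
    exact Subtype.ext (by show e * (e * (k : C)) = k; rw [← mul_assoc, he2, one_mul])
  have hmul : ∀ c d, proj (c * d) = proj c * proj d := by
    intro c d
    have key : ∀ c : C, ∃ k : K, c = (k : C) ∨ c = e * (k : C) := fun c => by
      rcases hK c with h | h
      · exact ⟨⟨c, h⟩, Or.inl rfl⟩
      · exact ⟨⟨e * c, h⟩, Or.inr (by show c = e * (e * c); rw [← mul_assoc, he2, one_mul])⟩
    obtain ⟨k, rfl | rfl⟩ := key c <;> obtain ⟨l, rfl | rfl⟩ := key d
    · rw [← Subgroup.coe_mul, hprojK, hprojK, hprojK]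
    · rw [show (k : C) * (e * (l : C)) = e * ((k * l : K) : C) by
        rw [← mul_assoc, ← hec, mul_assoc, Subgroup.coe_mul], hproje, hprojK, hproje]
    · rw [show e * (k : C) * (l : C) = e * ((k * l : K) : C) by rw [mul_assoc, Subgroup.coe_mul],
        hproje, hproje, hprojK]
    · rw [show e * (k : C) * (e * (l : C)) = ((k * l : K) : C) by
        rw [mul_assoc, ← mul_assoc (k : C), ← hec (k : C), ← mul_assoc, ← mul_assoc, he2, one_mul,
          Subgroup.coe_mul], hprojK, hproje, hproje]
  let π : C →* K := MonoidHom.mk' proj hmul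
  let ext : IrrCharacter K → IrrCharacter C := fun ζ =>
    ⟨fun c => (ζ : K → ℂ) (π c), CharInduce.IsIrr.comp ζ.2 π fun k => ⟨(k : C), hprojK k⟩⟩
  have hres : ∀ ζ, res hec he2 heK hK (ext ζ) = ζ := fun ζ => Subtype.ext (funext fun k => by
    show (ζ : K → ℂ) (proj (k : C)) = _
    rw [hprojK])
  have hext : ∀ ζ (c : C), (ext ζ : C → ℂ) (e * c) = (ext ζ : C → ℂ) c := fun ζ c => by
    show (ζ : K → ℂ) (proj (e * c)) = (ζ : K → ℂ) (proj c)
    rcases hK c with h | h
    · rw [show c = ((⟨c, h⟩ : K) : C) from rfl, hproje, hprojK]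
    · rw [show c = e * ((⟨e * c, h⟩ : K) : C) by show c = e * (e * c); rw [← mul_assoc, he2, one_mul],
        hproje, ← mul_assoc, he2, one_mul, hprojK]
  have hσext : ∀ ζ, σ (ext ζ) = 1 := fun ζ => by
    have h1 := hs (ext ζ) 1
    rw [hext] at h1
    exact mul_right_cancel₀ (IsIrr.one_ne_zero (ext ζ).2) (by rw [one_mul]; exact h1.symm)
  have hextmem : ∀ ζ, ζ ∈ principalBlock M K → ext ζ ∈ principalBlock M C := by
    intro ζ h c
    rcases hK c with hc | hc
    · have h' := h ⟨c, hc⟩
      rwa [← hres ζ, centralChar_restrict, centralChar_one_restrict hec he2 heK hK] at h'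
    · have h' := h ⟨e * c, hc⟩
      rw [← hres ζ, centralChar_restrict, centralChar_one_restrict hec he2 heK hK] at h'
      have hidx : (Subgroup.centralizer ({e * c} : Set C)).index =
          (Subgroup.centralizer ({c} : Set C)).index := by
        congr 1
        ext d
        simp only [Subgroup.mem_centralizer_singleton_iff]
        rw [← mul_assoc, ← hec d, mul_assoc, mul_assoc, mul_right_inj]
      simp only [centralChar, hext, hidx] at h' ⊢
      exact h'
  set S := (Finset.univ.filter fun ψ : IrrCharacter C => ψ ∈ principalBlock M C) with hSdef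
  set Sp := S.filter fun ψ => σ ψ = 1
  set Sm := S.filter fun ψ => ¬ σ ψ = 1
  let F : IrrCharacter C → ℂ := fun ψ => (ψ : C → ℂ) (y : C) * conj ((ψ : C → ℂ) (z : C))
  have hK0 : blockKernel (principalBlock M C) (y : C) (e * (z : C)) = 0 := by
    refine blockKernel_eq_zero_of_regular_of_singular hM (isPBlock_principalBlock M) hy ?_
    by_contra hd
    have hecz : Commute e (z : C) := hec _
    have he : orderOf e = 2 := orderOf_eq_prime (by rw [sq, he2]) fun h => heK (h ▸ K.one_mem)
    have h := pPart_mul_of hecz ⟨1, by rw [he, pow_one]⟩ hz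
    rw [(pPart_eq_one_iff _).2 hd] at h
    rw [← h, orderOf_one] at he
    omega
  rw [blockKernel, finsum_mem_eq_sum_ite, ← Finset.sum_filter, ← hSdef] at hK0 ⊢
  rw [← Finset.sum_filter_add_sum_filter_not S (fun ψ => σ ψ = 1)] at hK0 ⊢
  rw [Finset.sum_congr rfl (g := F) fun ψ hψ => by
      rw [hs, (Finset.mem_filter.1 hψ).2, one_mul],
    Finset.sum_congr rfl (s₁ := Sm) (g := fun ψ => - F ψ) fun ψ hψ => by
      rw [hs, (hσ ψ).resolve_left (Finset.mem_filter.1 hψ).2]; simp [F],
    Finset.sum_neg_distrib] at hK0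
  have hplus : ∑ ψ ∈ Sp, F ψ = blockKernel (principalBlock M K) y z := by
    rw [blockKernel, finsum_mem_eq_sum_ite, ← Finset.sum_filter]
    refine Finset.sum_bij' (fun ψ _ => res hec he2 heK hK ψ) (fun ζ _ => ext ζ) ?_ ?_ ?_ ?_ ?_
    · exact fun ψ hψ => Finset.mem_filter.2 ⟨Finset.mem_univ _,
        res_mem hec he2 heK hK (Finset.mem_filter.1 (Finset.mem_filter.1 hψ).1).2⟩
    · exact fun ζ hζ => Finset.mem_filter.2 ⟨Finset.mem_filter.2 ⟨Finset.mem_univ _,
        hextmem ζ (Finset.mem_filter.1 hζ).2⟩, hσext ζ⟩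
    · intro ψ hψ
      refine Subtype.ext (funext fun c => ?_)
      show (ψ : C → ℂ) ((proj c : K) : C) = (ψ : C → ℂ) c
      rcases hK c with h | h
      · rw [show c = ((⟨c, h⟩ : K) : C) from rfl, hprojK]
      · conv_rhs => rw [show c = e * (e * c) by rw [← mul_assoc, he2, one_mul], hs,
          (Finset.mem_filter.1 hψ).2, one_mul]
        rw [show proj c = ⟨e * c, h⟩ from by
          simp only [proj]
          rw [dif_neg fun hc => heK (by simpa using K.mul_mem h (K.inv_mem hc))]]
    · exact fun ζ _ => hres ζ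
    · exact fun ψ _ => rfl
  rw [← hplus]
  linear_combination -hK0

end Cfsg.Agent.H82.ConstDiff
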