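import Cfsg.Agent.H82.NineBasic
import Cfsg.Agent.H86.HomocyclicVectors

/-!
# A character whose restriction to a subgroup has one-dimensional invariants
-/

set_option autoImplicit false
set_option linter.unusedSectionVars false
set_option linter.style.haveILetI false

open scoped ComplexConjugate

namespace Cfsg.Agent.H82.ConstDiff

open CharBasic BlockBasic

universe u

variable {G : Type u} [Group G] [Finite G]

/-- With `r` invariants over `Q`, `r` at most one, the invariants of a commuting element are given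
by a root of unity. -/
theorem exists_root_of_rank_le_one (χ : IrrCharacter G) (Q : Subgroup G) [Fintype Q]
    [IsMulCommutative Q] {c : G} (hc : ∀ z ∈ Q, z * c = c * z) {r : ℕ} (hr : r ≤ 1)
    (hsum : ∑ z : Q, (χ : G → ℂ) z = (Nat.card Q : ℂ) * r) :
    ∃ ζ : ℂ, ζ ^ orderOf c = 1 ∧
      ∑ z : Q, (χ : G → ℂ) ((z : G) * c) = (Nat.card Q : ℂ) * (r * ζ) := by
  classical
  cases nonempty_fintype G
  set A := Subgroup.closure ((Q : Set G) ∪ {c})
  have hA : ∀ a ∈ (Q : Set G) ∪ {c}, ∀ b ∈ (Q : Set G) ∪ {c}, a * b = b * a := by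
    rintro a (ha | ha) b (hb | hb)
    · exact congrArg Subtype.val (mul_comm' (⟨a, ha⟩ : Q) ⟨b, hb⟩)
    · rw [Set.mem_singleton_iff.1 hb]; exact hc a ha
    · rw [Set.mem_singleton_iff.1 ha]; exact (hc b hb).symm
    · rw [Set.mem_singleton_iff.1 ha, Set.mem_singleton_iff.1 hb]
  haveI : IsMulCommutative A := Subgroup.isMulCommutative_closure hA
  haveI : Fintype A := Fintype.ofFinite _
  have hQA : ∀ z : Q, (z : G) ∈ A := fun z => Subgroup.subset_closure (Or.inl z.2)
  set c' : A := ⟨c, Subgroup.subset_closure (Or.inr rfl)⟩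
  let ι : Q → A := fun z => ⟨z, hQA z⟩
  have hlin : ∀ φ : IrrCharacter A, (φ : A → ℂ) 1 = 1 := fun φ => H85.apply_one_eq_one_of_comm φ
  let S : IrrCharacter A → Prop := fun φ => ∀ z : Q, (φ : A → ℂ) (ι z) = 1
  have hS : ∀ φ : IrrCharacter A, ∑ z : Q, (φ : A → ℂ) (ι z) =
      if S φ then (Nat.card Q : ℂ) else 0 := by
    intro φ
    split_ifs with h
    · rw [Finset.sum_congr rfl fun z _ => h z, Finset.sum_const, Finset.card_univ,
        Nat.card_eq_fintype_card, nsmul_eq_mul, mul_one]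
    · simp only [S, not_forall] at h
      obtain ⟨z₀, hz₀⟩ := h
      have h1 : (φ : A → ℂ) (ι z₀) * ∑ z : Q, (φ : A → ℂ) (ι z) = ∑ z : Q, (φ : A → ℂ) (ι z) := by
        rw [Finset.mul_sum]
        exact Fintype.sum_equiv (Equiv.mulLeft z₀) _ _ fun z =>
          (H86.apply_mul_of_one φ.2 (hlin φ) (ι z₀) (ι z)).symm
      rw [← sub_eq_zero] at h1
      exact (mul_eq_zero.1 (show ((φ : A → ℂ) (ι z₀) - 1) * ∑ z : Q, (φ : A → ℂ) (ι z) = 0 by
        rw [sub_mul, one_mul]; exact h1)).resolve_left (sub_ne_zero.2 hz₀)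
  have hgen : ∀ e : A, (∀ φ : IrrCharacter A, ∀ z : Q,
      (φ : A → ℂ) (ι z * e) = (φ : A → ℂ) (ι z) * (φ : A → ℂ) e) ∧
      ∑ z : Q, (χ : G → ℂ) ((z : G) * (e : G)) =
      (Nat.card Q : ℂ) * ∑ φ with S φ, (H83.mult χ φ : ℂ) * (φ : A → ℂ) e := by
    intro e
    refine ⟨fun φ z => H86.apply_mul_of_one φ.2 (hlin φ) _ _, ?_⟩
    calc ∑ z : Q, (χ : G → ℂ) ((z : G) * (e : G))
        = ∑ z : Q, ∑ φ : IrrCharacter A, (H83.mult χ φ : ℂ) * ((φ : A → ℂ) (ι z) * (φ : A → ℂ) e) :=
          Finset.sum_congr rfl fun z _ => by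
            rw [show (z : G) * (e : G) = ((ι z * e : A) : G) from rfl, H83.restrict_eq_sum]
            exact Finset.sum_congr rfl fun φ _ => by rw [H86.apply_mul_of_one φ.2 (hlin φ)]
      _ = ∑ φ : IrrCharacter A, (∑ z : Q, (φ : A → ℂ) (ι z)) * ((H83.mult χ φ : ℂ) * (φ : A → ℂ) e) := by
          rw [Finset.sum_comm]
          refine Finset.sum_congr rfl fun φ _ => ?_
          rw [Finset.sum_mul]
          exact Finset.sum_congr rfl fun z _ => by ring
      _ = _ := by
          simp only [hS, ite_mul, zero_mul]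
          rw [← Finset.sum_filter, Finset.mul_sum]
  have h1 := (hgen 1).2
  simp only [OneMemClass.coe_one, mul_one, hlin] at h1
  rw [hsum] at h1
  have hr' : ∑ φ with S φ, H83.mult χ φ = r := by
    have := mul_left_cancel₀ (Nat.cast_ne_zero.2 (Nat.card_pos (α := Q)).ne') h1
    exact_mod_cast this.symm
  have hpow : ∀ φ : IrrCharacter A, (φ : A → ℂ) c' ^ orderOf c = 1 := by
    intro φ
    have h : ∀ j : ℕ, (φ : A → ℂ) (c' ^ j) = (φ : A → ℂ) c' ^ j := by
      intro j
      induction j with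
      | zero => rw [pow_zero, pow_zero, hlin]
      | succ j ih => rw [pow_succ, pow_succ, H86.apply_mul_of_one φ.2 (hlin φ), ih]
    rw [← h, show c' ^ orderOf c = 1 from Subtype.ext (pow_orderOf_eq_one c), hlin]
  have hc' := (hgen c').2
  rcases Nat.eq_zero_or_pos r with rfl | hpos
  · refine ⟨1, one_pow _, ?_⟩
    rw [Finset.sum_eq_zero (s := Finset.univ.filter fun φ => S φ) fun φ hφ => by
      rw [Finset.sum_eq_zero_iff.1 hr' φ hφ, Nat.cast_zero, zero_mul]] at hc'
    rw [hc', Nat.cast_zero, zero_mul]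
  · obtain rfl : r = 1 := by omega
    obtain ⟨φ₀, hφ₀, hm⟩ := Finset.exists_ne_zero_of_sum_ne_zero (hr'.trans_ne one_ne_zero)
    rw [← Finset.add_sum_erase _ _ hφ₀] at hr'
    have hm1 : H83.mult χ φ₀ = 1 := by omega
    refine ⟨(φ₀ : A → ℂ) c', hpow φ₀, ?_⟩
    rw [← Finset.add_sum_erase _ _ hφ₀, Finset.sum_eq_zero
      (s := (Finset.univ.filter fun φ => S φ).erase φ₀) fun φ hφ => by
        rw [Finset.sum_eq_zero_iff.1 (show ∑ φ ∈ (Finset.univ.filter fun φ => S φ).erase φ₀,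
          H83.mult χ φ = 0 by omega) φ hφ, Nat.cast_zero, zero_mul], add_zero, hm1, Nat.cast_one] at hc'
    rw [hc', Nat.cast_one]

/-- A real root of unity of odd order is one. -/
theorem eq_one_of_real {ζ : ℂ} {m : ℕ} (hm : Odd m) (h : ζ ^ m = 1) (hre : conj ζ = ζ) : ζ = 1 := by
  obtain ⟨r, rfl⟩ := Complex.conj_eq_iff_real.1 hre
  have h1 : r ^ m = 1 ^ m := by rw [one_pow]; exact_mod_cast h
  rw [hm.strictMono_pow.injective h1, Complex.ofReal_one]

end Cfsg.Agent.H82.ConstDiff
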