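import Cfsg.Agent.H82.ConstDiff.Basic
import Cfsg.Agent.H82.ConstDiff.RankOne
import Cfsg.Agent.H82.FreePoint.Frob
import Cfsg.Agent.H29.AbTwo.Basic
import Cfsg.Agent.Cores.PrincipalLambda
import Cfsg.Agent.Coprime.Generation

/-!
# Trivial stabilizer of the involution: the linear fractional groups
-/

set_option autoImplicit false
set_option linter.unusedSectionVars false
set_option linter.style.haveILetI false

open scoped ComplexConjugate

namespace Cfsg.Agent.H82.ConstDiff

open CharBasic BlockBasic Subgroup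

universe u

variable {G : Type u} [Group G] [Fintype G] {M : Ideal AlgInt}

/-- With trivial stabilizer the group is a linear fractional group and the element an involution. -/
theorem psl_case (hM : IsPModular 2 M) (hO : pPrimeCore 2 G = ⊥) {w x y : G} {k : ℂ}
    (hk : Diff M w k) (hw : w = x * y) (hcomm : Commute x y) (hx : orderOf x = 2)
    (hy : ¬ 2 ∣ orderOf y) (hconj : ∀ h : G, h ≠ 1 → (∃ e, orderOf h = 2 ^ e) → IsConj x h)
    (P : Sylow 2 G) (hxP : x ∈ (P : Subgroup G)) (hq : 4 ≤ Nat.card (P : Subgroup G))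
    (hstab : ∀ m ∈ normalizer ((P : Subgroup G) : Set G), m * x = x * m →
      m ∈ centralizer ((P : Subgroup G) : Set G)) :
    ∃ (F : Type) (_ : Field F) (_ : Fintype F) (n : ℕ), 2 ≤ n ∧ Fintype.card F = 2 ^ n ∧
      Nonempty (G ≃* Matrix.ProjectiveSpecialLinearGroup (Fin 2) F) ∧ w ^ 2 = 1 := by
  classical
  haveI : Fact (Nat.Prime 2) := ⟨Nat.prime_two⟩
  have hel := sylow_el P hconj hx
  haveI hab := isMulCommutative_of_el P hel
  set T : Subgroup G := (P : Subgroup G) with hT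
  have hx1 : x ≠ 1 := fun e => by rw [e, orderOf_one] at hx; omega
  have hfix : H86.Abelian.FreeFusion P := by
    intro n hn a ha ha1 hna
    obtain ⟨m, hm, rfl⟩ := sylow_trans P hconj hxP hx1 ha ha1
    have h1 := hstab (m⁻¹ * n * m) (mul_mem (mul_mem (inv_mem hm) hn) hm) (mul_inv_eq_iff_eq_mul.1 (by
      calc m⁻¹ * n * m * x * (m⁻¹ * n * m)⁻¹ = m⁻¹ * (n * (m * x * m⁻¹) * n⁻¹) * m := by group
        _ = x := by rw [hna]; group))
    refine mem_centralizer_iff.2 fun v hv => ?_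
    have hv' : m⁻¹ * v * m ∈ T := by
      have := (mem_normalizer_iff.1 (inv_mem hm) v).1 hv
      rwa [inv_inv] at this
    have h2 := mem_centralizer_iff.1 h1 _ hv'
    calc v * n = m * (m⁻¹ * v * m * (m⁻¹ * n * m)) * m⁻¹ := by group
      _ = m * (m⁻¹ * n * m * (m⁻¹ * v * m)) * m⁻¹ := by rw [h2]
      _ = _ := by group
  have hnil : ∀ a ∈ T, a ≠ 1 → H86.PNilAt 2 a := fun a ha ha1 =>
    H86.Abelian.pNilAt_of_mem P hfix ha ha1
  have hord : ∀ a ∈ T, a ≠ 1 → orderOf a = 2 := fun a ha ha1 => orderOf_eq_two hel ha ha1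
  have hval : ∀ (χ : IrrCharacter G) (a : G), a ∈ T → a ≠ 1 → (χ : G → ℂ) a = (χ : G → ℂ) x := by
    intro χ a ha ha1
    obtain ⟨m, -, rfl⟩ := sylow_trans P hconj hxP hx1 ha ha1
    exact IsIrr.isClassFunction χ.2 x m
  choose a ha _hpar using fun χ : IrrCharacter G => exists_int_even χ hx
  let d : IrrCharacter G → ℤ := fun χ => (charDegree (χ : G → ℂ) : ℤ)
  have hd : ∀ χ : IrrCharacter G, (χ : G → ℂ) 1 = (d χ : ℂ) := fun χ => by
    rw [apply_one_eq_charDegree]; simp [d]
  have hdpos : ∀ χ : IrrCharacter G, 0 < d χ := fun χ => by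
    show (0 : ℤ) < (charDegree (χ : G → ℂ) : ℤ)
    exact_mod_cast charDegree_pos χ
  set q := Nat.card T with hqdef
  have hyC : y ∈ centralizer ({x} : Set G) := mem_centralizer_singleton_iff.2 hcomm.eq.symm
  have hwval : ∀ χ ∈ rest M G, (χ : G → ℂ) w = (a χ : ℂ) := fun χ hχ => by
    rw [hw, ← ha χ]
    exact H86.principal_apply_mul hM ⟨1, by rw [hx, pow_one]⟩ (hnil x hxP hx1) (mem_rest.1 hχ).2
      (c := ⟨y, hyC⟩) (by rwa [Subgroup.orderOf_mk])
  -- the sum of the squares
  have hsq : (1 : ℤ) + ∑ χ ∈ rest M G, a χ * a χ = (q : ℤ) := by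
    have h := H86.sum_sq_principal hM ⟨1, by rw [hx, pow_one]⟩ (hnil x hxP hx1)
    rw [kernel_eq hM, Nine.factorization_centralizer P hxP] at h
    simp only [ha, map_intCast] at h
    rw [hqdef, hT, P.card_eq_multiplicity]
    exact_mod_cast h
  have horth : (1 : ℤ) + ∑ χ ∈ rest M G, d χ * a χ = 0 := by
    have h0 := blockKernel_eq_zero_of_regular_of_singular hM (isPBlock_principalBlock (G := G) M)
      (g := (1 : G)) (by rw [orderOf_one]; norm_num) (h := x) (by rw [hx])
    rw [kernel_eq hM] at h0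
    simp only [ha, map_intCast, hd] at h0
    exact_mod_cast h0
  have hdvd : ∀ χ : IrrCharacter G, ∃ N : ℕ, d χ + ((q : ℤ) - 1) * a χ = (q : ℤ) * N := by
    intro χ
    haveI := Fintype.ofFinite T
    obtain ⟨N, hN⟩ := FreePoint.exists_sum_subgroup T χ
    refine ⟨N, ?_⟩
    rw [← Finset.sum_erase_add _ _ (Finset.mem_univ (1 : T)),
      Finset.sum_congr rfl (g := fun _ => (a χ : ℂ)) fun z hz => by
        rw [← ha χ, hval χ z z.2 fun e => Finset.ne_of_mem_erase hz (Subtype.ext e)],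
      Finset.sum_const, Finset.card_erase_of_mem (Finset.mem_univ _), Finset.card_univ,
      ← Nat.card_eq_fintype_card, ← hqdef, OneMemClass.coe_one, hd, nsmul_eq_mul] at hN
    apply Int.cast_injective (α := ℂ)
    push_cast [Nat.cast_sub (show 1 ≤ q by omega)] at hN ⊢
    linear_combination hN
  choose N hN using hdvd
  have hdiff : ∀ χ ∈ rest M G, ((d χ - a χ : ℤ) : ℂ) = k := fun χ hχ => by
    rw [← hk χ (mem_rest.1 hχ).2 (mem_rest.1 hχ).1, hwval χ hχ, hd]; push_cast; rfl
  obtain ⟨ψ, hψ⟩ : (rest M G).Nonempty := by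
    rw [Finset.nonempty_iff_ne_empty]
    intro e
    rw [e, Finset.sum_empty] at hsq
    omega
  set β : ℤ := (N ψ : ℤ) - a ψ
  have hq0 : (q : ℤ) ≠ 0 := by omega
  have hβ : ∀ χ ∈ rest M G, d χ = q * β + a χ ∧ (N χ : ℤ) = β + a χ := by
    intro χ hχ
    have e1 : d χ - a χ = d ψ - a ψ := Int.cast_injective ((hdiff χ hχ).trans (hdiff ψ hψ).symm)
    have e2 : (q : ℤ) * ((N χ : ℤ) - a χ) = (q : ℤ) * β := by
      simp only [β]; linear_combination e1 - hN χ + hN ψ
    have e3 := mul_left_cancel₀ hq0 e2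
    constructor
    · linear_combination hN χ + (q : ℤ) * e3
    · omega
  have hβsum : β * ∑ χ ∈ rest M G, a χ = -1 := by
    apply mul_left_cancel₀ hq0
    rw [Finset.sum_congr rfl fun χ hχ =>
      show d χ * a χ = q * β * a χ + a χ * a χ by rw [(hβ χ hχ).1]; ring,
      Finset.sum_add_distrib, ← Finset.mul_sum] at horth
    linear_combination horth - hsq
  have hsmall : ∀ χ ∈ rest M G, a χ * a χ ≤ (q : ℤ) - 1 := fun χ hχ => by
    have := Finset.single_le_sum (f := fun χ => a χ * a χ) (fun χ _ => mul_self_nonneg _) hχ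
    linarith
  have hβ1 : β = 1 := by
    rcases Int.eq_one_or_neg_one_of_mul_eq_neg_one hβsum with e | e
    · exact e
    · exfalso
      have h1 := (hβ ψ hψ).1
      rw [e] at h1
      have := hdpos ψ
      have := hsmall ψ hψ
      nlinarith
  rw [hβ1, one_mul] at hβsum
  obtain ⟨χ₀, hχ₀, hneg⟩ : ∃ χ ∈ rest M G, a χ < 0 := by
    by_contra hall
    push Not at hall
    linarith [Finset.sum_nonneg hall]
  obtain ⟨hd₀, hN₀⟩ := hβ χ₀ hχ₀
  have ha₀ : a χ₀ = -1 := by omega
  rw [hβ1, mul_one, ha₀] at hd₀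
  -- the faithful character
  obtain ⟨K, hKn, hK, -⟩ := IsChar.exists_kernel (IsIrr.isCharacter χ₀.2)
  have hKbot : K = ⊥ := by
    haveI := hKn
    rw [← le_bot_iff, ← hO]
    refine Cores.le_pPrimeCore (Nat.Coprime.symm ((Nat.prime_two.coprime_iff_not_dvd).2 fun hd2 => ?_))
    obtain ⟨t, ht⟩ := exists_prime_orderOf_dvd_card' 2 hd2
    have hto : orderOf (t : G) = 2 := by rw [Subgroup.orderOf_coe, ht]
    obtain ⟨c, hc⟩ := isConj_iff.1
      (hconj t (fun e => by rw [e, orderOf_one] at hto; omega) ⟨1, by rw [hto, pow_one]⟩)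
    have h := (hK t).1 t.2
    rw [← hc, IsIrr.isClassFunction χ₀.2, ha, hd] at h
    have := Int.cast_injective h
    omega
  have hfaith : ∀ c : G, (χ₀ : G → ℂ) c = (d χ₀ : ℂ) → c = 1 := fun c hc =>
    (eq_bot_iff_forall _).1 hKbot c ((hK c).2 (by rw [hd, hc]))
  have hshift : ∀ (Q : Subgroup G), Q ≤ T → ∀ c : G, Odd (orderOf c) →
      (∀ z ∈ Q, z * c = c * z) → ∀ z ∈ Q, z ≠ 1 → (χ₀ : G → ℂ) (z * c) = -1 := by
    intro Q hQ c hc hcQ z hz hz1
    have hzC : c ∈ centralizer ({z} : Set G) := mem_centralizer_singleton_iff.2 (hcQ z hz).symm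
    rw [show z * c = z * ((⟨c, hzC⟩ : centralizer ({z} : Set G)) : G) from rfl,
      H86.principal_apply_mul hM ⟨1, by rw [hord z (hQ hz) hz1, pow_one]⟩ (hnil z (hQ hz) hz1)
        (mem_rest.1 hχ₀).2 (c := ⟨c, hzC⟩) (by
          rw [Subgroup.orderOf_mk]; rw [Nat.odd_iff] at hc; omega),
      hval χ₀ z (hQ hz) hz1, ha, ha₀]
    simp
  have hsumQ : ∀ (Q : Subgroup G) [Fintype Q], Q ≤ T → ∀ c : G, Odd (orderOf c) →
      (∀ z ∈ Q, z * c = c * z) →
      ∑ z : Q, (χ₀ : G → ℂ) ((z : G) * c) = (χ₀ : G → ℂ) c - ((Nat.card Q : ℂ) - 1) := by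
    intro Q _ hQ c hc hcQ
    have hterm : ∀ z ∈ (Finset.univ : Finset Q).erase 1, (χ₀ : G → ℂ) ((z : G) * c) = -1 :=
      fun z hz => hshift Q hQ c hc hcQ z z.2 fun e => Finset.ne_of_mem_erase hz (Subtype.ext e)
    rw [← Finset.sum_erase_add _ _ (Finset.mem_univ (1 : Q)),
      Finset.sum_congr rfl hterm,
      Finset.sum_const, Finset.card_erase_of_mem (Finset.mem_univ _), Finset.card_univ,
      ← Nat.card_eq_fintype_card, OneMemClass.coe_one, one_mul, nsmul_eq_mul,
      Nat.cast_sub (Nat.card_pos (α := Q))]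
    push_cast
    ring
  have hrank : ∀ (Q : Subgroup G), Q ≤ T → ∀ r : ℕ, r ≤ 1 → q = (1 + r) * Nat.card Q → ∀ c : G,
      Odd (orderOf c) → (∀ z ∈ Q, z * c = c * z) →
      ∃ ζ : ℂ, ζ ^ orderOf c = 1 ∧
        (χ₀ : G → ℂ) c = (Nat.card Q : ℂ) * (r * ζ) + ((Nat.card Q : ℂ) - 1) := by
    intro Q hQ r hr hqr c hc hcQ
    haveI : Fintype Q := Fintype.ofFinite _
    haveI : IsMulCommutative Q := ⟨⟨fun u v => Subtype.ext
      (H86.Abelian.mul_comm_sylow P (hQ u.2) (hQ v.2))⟩⟩
    obtain ⟨ζ, h1, h2⟩ := exists_root_of_rank_le_one χ₀ Q hcQ hr (by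
      have h := hsumQ Q hQ 1 (by rw [orderOf_one]; exact odd_one) fun z _ => by simp
      simp only [mul_one] at h
      rw [h, hd, hd₀]
      push_cast
      rw [hqr]
      push_cast
      ring)
    refine ⟨ζ, h1, ?_⟩
    rw [hsumQ Q hQ c hc hcQ] at h2
    linear_combination h2
  have hfullfix : ∀ c : G, Odd (orderOf c) → (∀ z ∈ T, z * c = c * z) → c = 1 := by
    intro c hc hcT
    obtain ⟨ζ, -, h⟩ := hrank T le_rfl 0 (by norm_num) (by rw [hqdef]; ring) c hc hcT
    refine hfaith c ?_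
    rw [h, hd₀]; push_cast; rw [hqdef]; ring
  have hW : ∀ a ∈ T, a ≠ 1 → H29.AbTwo.oddAt a = ⊥ := by
    intro a ha ha1
    set U := H29.AbTwo.oddAt a
    have hTU : T ≤ normalizer (U : Set G) := by
      have key : ∀ b ∈ T, ∀ c ∈ U, b * c * b⁻¹ ∈ U := fun b hb c hc => by
        have hb' : b * a * b⁻¹ = a := by
          rw [H86.Abelian.mul_comm_sylow P hb ha, mul_inv_cancel_right]
        have := H29.AbTwo.conj_oddAt b (hnil a ha ha1) (by rw [hb']; exact hnil a ha ha1) hc
        rwa [hb'] at this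
      exact fun b hb => mem_normalizer_iff.2 fun c => ⟨key b hb c, fun h => by
        simpa [mul_assoc] using key b⁻¹ (inv_mem hb) _ h⟩
    refine le_bot_iff.1 (Coprime.le_of_centralizer_cyclic_quotient_le hTU ?_ fun B hBT hB => ?_)
    · rw [hT, P.card_eq_multiplicity]
      exact (Nat.coprime_two_left.2 (H29.AbTwo.odd_card_oddAt a)).pow_left _
    obtain ⟨b, hbT, hB⟩ := hB
    intro c hc
    rw [Subgroup.mem_bot]
    have hcodd : ∀ e ∈ U, Odd (orderOf e) := fun e he =>
      H29.AbTwo.odd_orderOf_of_mem (H29.AbTwo.odd_card_oddAt a) he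
    have hcB : ∀ z ∈ B, z * c = c * z := fun z hz => mem_centralizer_iff.1 hc.2 z hz
    by_cases hbB : b ∈ B
    · refine hfullfix c (hcodd c hc.1) fun z hz => hcB z ?_
      rw [← hB, sup_eq_left.2 (zpowers_le.2 hbB)] at hz
      exact hz
    · have hcard : q = (1 + 1) * Nat.card B := by
        have h := H29.AbTwo.card_sup_of_disjoint (H := B) (K := zpowers b)
          (zpowers_le.2 (mem_normalizer_iff.2 fun z => ?_)) (fun z hz hz' => ?_)
        · rw [hB, Nat.card_zpowers, hord b hbT fun e => hbB (e ▸ one_mem B)] at h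
          omega
        · constructor
          · intro hz
            rwa [← H86.Abelian.mul_comm_sylow P (hBT hz) hbT, mul_inv_cancel_right]
          · intro hz
            have h' := H86.Abelian.mul_comm_sylow P (hBT hz) hbT
            have e : b * z * b⁻¹ = z :=
              mul_left_cancel (show b * (b * z * b⁻¹) = b * z by rw [← h', inv_mul_cancel_right])
            rwa [e] at hz
        · obtain ⟨i, rfl⟩ := mem_zpowers_iff.1 hz'
          rcases Int.even_or_odd i with ⟨j, rfl⟩ | ⟨j, rfl⟩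
          · rw [← two_mul, zpow_mul, zpow_ofNat, hel b hbT, one_zpow]
          · rw [zpow_add, zpow_mul, zpow_ofNat, hel b hbT, one_zpow, one_mul, zpow_one] at hz
            exact absurd hz hbB
      set V := U ⊓ centralizer (B : Set G)
      have hbV : ∀ e ∈ V, b * e * b⁻¹ ∈ V := by
        intro e he
        refine ⟨(mem_normalizer_iff.1 (hTU hbT) e).1 he.1, mem_centralizer_iff.2 fun z hz => ?_⟩
        have h1 := mem_centralizer_iff.1 he.2 z hz
        have h2 := H86.Abelian.mul_comm_sylow P (hBT hz) hbT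
        have h3 : z * b⁻¹ = b⁻¹ * z := H86.Abelian.mul_comm_sylow P (hBT hz) (inv_mem hbT)
        calc z * (b * e * b⁻¹) = b * (z * e) * b⁻¹ := by rw [← mul_assoc, ← mul_assoc, h2]; group
          _ = b * e * (z * b⁻¹) := by rw [h1]; group
          _ = b * e * b⁻¹ * z := by rw [h3]; group
      have hbinv : b⁻¹ = b := inv_eq_of_mul_eq_one_right (by rw [← sq, hel b hbT])
      let f : V → V := fun e => ⟨(e : G)⁻¹ * (b * (e : G) * b⁻¹), mul_mem (inv_mem e.2) (hbV e e.2)⟩
      have hinj : Function.Injective f := by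
        intro e e' h
        have h' : (e : G)⁻¹ * (b * (e : G) * b⁻¹) = (e' : G)⁻¹ * (b * (e' : G) * b⁻¹) :=
          congrArg Subtype.val h
        have hcomm' : ((e' : G) * (e : G)⁻¹) * b = b * ((e' : G) * (e : G)⁻¹) := by
          calc (e' : G) * (e : G)⁻¹ * b
              = (e' : G) * ((e : G)⁻¹ * (b * (e : G) * b⁻¹)) * (b * (e : G)⁻¹ * b⁻¹) * b := by group
            _ = _ := by rw [h']; group
        have hmem : (e' : G) * (e : G)⁻¹ ∈ V := mul_mem e'.2 (inv_mem e.2)
        have h1 := hfullfix _ (hcodd _ hmem.1) fun z hz => by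
          rw [← hB] at hz
          have hle : B ⊔ zpowers b ≤ centralizer ({(e' : G) * (e : G)⁻¹} : Set G) := by
            refine sup_le (fun z hz => mem_centralizer_singleton_iff.2 ?_)
              (zpowers_le.2 (mem_centralizer_singleton_iff.2 hcomm'.symm))
            exact mem_centralizer_iff.1 hmem.2 z hz
          exact mem_centralizer_singleton_iff.1 (hle hz)
        exact Subtype.ext (mul_inv_eq_one.1 h1).symm
      obtain ⟨e, he⟩ := (Finite.injective_iff_surjective.1 hinj) ⟨c, hc⟩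
      have hce : c = (e : G)⁻¹ * (b * (e : G) * b⁻¹) := (congrArg Subtype.val he).symm
      have hinv : b * c * b⁻¹ = c⁻¹ := by
        rw [hce]
        calc b * ((e : G)⁻¹ * (b * (e : G) * b⁻¹)) * b⁻¹
            = b * (e : G)⁻¹ * b * (e : G) * (b⁻¹ * b⁻¹) := by group
          _ = b * (e : G)⁻¹ * b * (e : G) := by
            rw [show b⁻¹ * b⁻¹ = 1 by rw [hbinv, ← sq, hel b hbT], mul_one]
          _ = b * (e : G)⁻¹ * b⁻¹ * (e : G) := by rw [hbinv]
          _ = _ := by group
      obtain ⟨ζ, hζ, h⟩ := hrank B hBT 1 le_rfl hcard c (hcodd c hc.1) hcB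
      have hreal : conj ((χ₀ : G → ℂ) c) = (χ₀ : G → ℂ) c := by
        rw [conj_apply_eq_inv, ← hinv]
        exact IsIrr.isClassFunction χ₀.2 c b
      have hζ1 : ζ = 1 := by
        refine eq_one_of_real (hcodd c hc.1) hζ ?_
        rw [h] at hreal
        simp only [Nat.cast_one, one_mul, map_add, map_mul, map_sub, map_one, map_natCast] at hreal
        exact mul_left_cancel₀ (Nat.cast_ne_zero.2 (Nat.card_pos (α := B)).ne')
          (add_right_cancel hreal)
      refine hfaith c ?_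
      rw [h, hζ1, hd₀]
      push_cast
      rw [hcard]
      push_cast
      ring
  have hC : ∀ a ∈ T, a ≠ 1 → centralizer ({a} : Set G) = T := by
    intro a ha ha1
    refine le_antisymm (fun c hc => ?_) fun c hc =>
      mem_centralizer_singleton_iff.2 (H86.Abelian.mul_comm_sylow P hc ha)
    obtain ⟨e, he, z, hz, rfl⟩ := H29.AbTwo.centralizer_eq hfix ha ha1 hc
    rw [hW a ha ha1, Subgroup.mem_bot] at he
    rwa [he, one_mul]
  have hnn : ¬ T.Normal := by
    intro hTn
    haveI := hTn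
    obtain ⟨g, hg⟩ : ∃ g : G, g ∉ T := by
      by_contra hall
      push Not at hall
      have hle := Subgroup.card_le_of_le (show T ≤ zpowers x from fun a ha => by
        by_cases ha1 : a = 1
        · rw [ha1]; exact one_mem _
        · obtain ⟨c, hc⟩ := isConj_iff.1 (hconj a ha1 (H86.Abelian.exists_orderOf P ⟨a, ha⟩))
          rw [← hc, H86.Abelian.mul_comm_sylow P (hall c) hxP, mul_inv_cancel_right]
          exact mem_zpowers x)
      rw [Nat.card_zpowers, hx] at hle
      omega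
    obtain ⟨ψ', hψ'⟩ := exists_irr_ne_of_ne_one (g := (g : G ⧸ T))
      fun e => hg ((QuotientGroup.eq_one_iff g).1 e)
    set χ := Cores.inflIrr T ψ'
    have hone : (χ : G → ℂ) 1 = (ψ' : G ⧸ T → ℂ) 1 := rfl
    have hxv : (χ : G → ℂ) x = (χ : G → ℂ) 1 := by
      show (ψ' : G ⧸ T → ℂ) (x : G ⧸ T) = (ψ' : G ⧸ T → ℂ) 1
      rw [(QuotientGroup.eq_one_iff x).2 hxP]
    have hne : χ ≠ trivialIrr := fun e => hψ' (by
      have h1 : ∀ v : G, (ψ' : G ⧸ T → ℂ) (v : G ⧸ T) = 1 := fun v =>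
        congrFun (congrArg Subtype.val e) v
      rw [h1, show (1 : G ⧸ T) = ((1 : G) : G ⧸ T) from rfl, h1])
    have hmem : χ ∈ principalBlock M G :=
      (FreePoint.mem_iff_ne_zero hM P hC hxP hx1 χ).2 (by rw [hxv]; exact IsIrr.one_ne_zero χ.2)
    have h := (hβ χ (mem_rest.2 ⟨hne, hmem⟩)).1
    rw [ha, hd] at hxv
    have := Int.cast_injective hxv
    rw [hβ1] at h
    omega
  have hEC : H39.ElemCentralizers G := by
    intro t ht
    obtain ⟨c, hc⟩ := isConj_iff.1
      (hconj t (fun e => by rw [e, orderOf_one] at ht; omega) ⟨1, by rw [ht, pow_one]⟩)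
    have hmem : ∀ e ∈ centralizer ({t} : Set G), c⁻¹ * e * c ∈ T := by
      intro e he
      rw [← hC x hxP hx1]
      refine mem_centralizer_singleton_iff.2 ?_
      have h := mem_centralizer_singleton_iff.1 he
      calc c⁻¹ * e * c * x = c⁻¹ * (e * (c * x * c⁻¹)) * c := by group
        _ = c⁻¹ * (c * x * c⁻¹ * e) * c := by rw [hc, h]
        _ = _ := by group
    refine ⟨⟨⟨fun e e' => Subtype.ext ?_⟩⟩, fun e he => ?_⟩
    · have h := H86.Abelian.mul_comm_sylow P (hmem e e.2) (hmem e' e'.2)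
      have h' : c⁻¹ * ((e : G) * e') * c = c⁻¹ * ((e' : G) * e) * c := by
        calc c⁻¹ * ((e : G) * e') * c = c⁻¹ * e * c * (c⁻¹ * e' * c) := by group
          _ = c⁻¹ * e' * c * (c⁻¹ * e * c) := h
          _ = _ := by group
      simpa using h'
    · have h := hel _ (hmem e he)
      rw [show c⁻¹ * e * c = c⁻¹ * e * c⁻¹⁻¹ by rw [inv_inv], conj_pow] at h
      exact conj_eq_one_iff.1 h
  have hnc : ¬ IsCyclic T := fun hc => by
    have h := IsCyclic.exponent_eq_card (α := T)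
    have h2 : Monoid.exponent T ∣ 2 :=
      Monoid.exponent_dvd_of_forall_pow_eq_one fun z => Subtype.ext (hel z z.2)
    rw [h] at h2
    have := Nat.le_of_dvd (by norm_num) h2
    omega
  obtain ⟨F, iF, iFt, hF, hiso⟩ := H39.ec_isPSL hEC hnc hnn
  obtain ⟨n, hn⟩ := IsPGroup.iff_card.1 P.isPGroup'
  refine ⟨F, iF, iFt, n, ?_, hF.trans hn, hiso, ?_⟩
  · by_contra hlt
    have : 2 ^ n ≤ 2 ^ 1 := Nat.pow_le_pow_right two_pos (by omega)
    rw [← hn] at this
    change q ≤ 2 ^ 1 at this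
    omega
  · have hy1 : y = 1 := H86.eq_one_of_pPow (p := 2)
      (H86.Abelian.exists_orderOf P ⟨y, show y ∈ T from (hC x hxP hx1).le hyC⟩) hy
    rw [hw, hy1, mul_one, hel x hxP]

end Cfsg.Agent.H82.ConstDiff
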