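import Cfsg.Agent.H82.ConstDiff.Prod
import Cfsg.Agent.H82.ConstDiff.KleinAux
import Cfsg.Agent.H82.ConstDiff.Small
import Cfsg.Agent.H41.Basic
import Cfsg.Agent.Fusion.Complements

/-!
# A Sylow subgroup of order eight with a central involution and a fixed-point-free fusion outside it
-/

set_option autoImplicit false
set_option linter.unusedSectionVars false
set_option linter.style.haveILetI false

open scoped ComplexConjugate

namespace Cfsg.Agent.H82.ConstDiff

open CharBasic BlockBasic Subgroup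

universe u

variable {C : Type u} [Group C] [Finite C]

/-- The complementary subgroup with a Klein four Sylow subgroup and one class of involutions. -/
theorem exists_klein_factor (Q : Sylow 2 C) (hel : ∀ v ∈ (Q : Subgroup C), v ^ 2 = 1)
    (hcard : Nat.card (Q : Subgroup C) = 8) {e : C} (he : e ∈ (Q : Subgroup C)) (he1 : e ≠ 1)
    (hec : ∀ c : C, e * c = c * e) {s : C} (hs : s ∈ normalizer ((Q : Subgroup C) : Set C))
    (hsodd : Odd (orderOf s))
    (hsfix : ∀ v ∈ (Q : Subgroup C), s * v * s⁻¹ = v → v = 1 ∨ v = e) :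
    ∃ (K : Subgroup C) (V : Sylow 2 K), e ∉ K ∧ (∀ c : C, c ∈ K ∨ e * c ∈ K) ∧
      (∀ c : C, ¬ 2 ∣ orderOf c → c ∈ K) ∧ IsKleinFour (V : Subgroup K) ∧
      ∀ a b : K, orderOf a = 2 → orderOf b = 2 → IsConj a b := by
  classical
  haveI : Fact (Nat.Prime 2) := ⟨Nat.prime_two⟩
  haveI := isMulCommutative_of_el Q hel
  set T : Subgroup C := (Q : Subgroup C) with hT
  letI : CommGroup T := { (inferInstance : Group T) with mul_comm := mul_comm' }
  let τ : C →* T := MonoidHom.transfer (MonoidHom.id T)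
  have he2 : e * e = 1 := by rw [← sq]; exact hel e he
  have hτe : ((τ e : T) : C) = e := by
    have key : ∀ (k : ℕ) (g₀ : C), g₀⁻¹ * e ^ k * g₀ ∈ T → g₀⁻¹ * e ^ k * g₀ = e ^ k := by
      intro k g₀ _
      have h : Commute (e ^ k) g₀ := (show Commute e g₀ from hec g₀).pow_left k
      rw [mul_assoc, h.eq, inv_mul_cancel_left]
    show ((MonoidHom.transfer (MonoidHom.id T) e : T) : C) = e
    rw [MonoidHom.transfer_eq_pow _ e key]
    show e ^ T.index = e
    have hodd : ¬ 2 ∣ T.index := Q.not_dvd_index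
    conv_lhs => rw [show T.index = 2 * (T.index / 2) + 1 by omega, pow_succ, pow_mul, hel e he,
      one_pow, one_mul]
  have hsq : ∀ t : T, t ^ 2 = 1 := fun t => Subtype.ext (hel t t.2)
  set K := τ.ker with hK
  haveI : K.Normal := MonoidHom.normal_ker τ
  have heK : e ∉ K := fun h => he1 (by rw [← hτe, MonoidHom.mem_ker.1 h]; rfl)
  have hodd : ∀ c : C, ¬ 2 ∣ orderOf c → c ∈ K := fun c hc => MonoidHom.mem_ker.2 <| by
    rw [← orderOf_eq_one_iff]
    refine Nat.eq_one_of_dvd_coprimes ((Nat.prime_two.coprime_iff_not_dvd).2 hc)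
      (orderOf_dvd_of_pow_eq_one (hsq _)) (orderOf_map_dvd τ c)
  have hsK : s ∈ K := hodd s fun h => by rw [Nat.odd_iff] at hsodd; omega
  -- the commutator map
  let φ : T →* T := MonoidHom.mk' (fun v => ⟨s * (v : C) * s⁻¹ * v,
      mul_mem ((mem_normalizer_iff.1 hs v).1 v.2) v.2⟩) fun v v' => Subtype.ext (by
    show s * ((v : C) * v') * s⁻¹ * ((v : C) * v') = s * (v : C) * s⁻¹ * v * (s * (v' : C) * s⁻¹ * v')
    have h1 : (v : C) * (s * (v' : C) * s⁻¹) = (s * (v' : C) * s⁻¹) * v :=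
      H86.Abelian.mul_comm_sylow Q v.2 ((mem_normalizer_iff.1 hs v').1 v'.2)
    calc s * ((v : C) * v') * s⁻¹ * ((v : C) * v')
        = s * (v : C) * s⁻¹ * ((s * (v' : C) * s⁻¹) * v) * v' := by group
      _ = _ := by rw [← h1]; group)
  have hker : ∀ v : T, φ v = 1 ↔ (v = 1 ∨ v = ⟨e, he⟩) := by
    intro v
    have hvv : (v : C) * v = 1 := by rw [← sq]; exact hel v v.2
    constructor
    · intro h
      have h' : s * (v : C) * s⁻¹ * v = 1 := congrArg Subtype.val h
      have h'' : s * (v : C) * s⁻¹ = v := (mul_eq_one_iff_eq_inv.1 h').trans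
        (inv_eq_of_mul_eq_one_right hvv)
      rcases hsfix v v.2 h'' with e1 | e1
      · exact Or.inl (Subtype.ext e1)
      · exact Or.inr (Subtype.ext e1)
    · rintro (rfl | rfl)
      · exact map_one φ
      · refine Subtype.ext ?_
        show s * e * s⁻¹ * e = 1
        rw [← hec s, mul_inv_cancel_right, he2]
  have hrange : Nat.card φ.range = 4 := by
    have h := φ.ker.card_mul_index
    rw [index_ker, hcard] at h
    have hk : Nat.card φ.ker = 2 := by
      rw [Nat.card_eq_two_iff]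
      refine ⟨⟨1, map_one φ⟩, ⟨⟨e, he⟩, (hker _).2 (Or.inr rfl)⟩,
        fun h => he1 (congrArg (fun v : φ.ker => ((v : T) : C)) h).symm, ?_⟩
      refine Set.eq_univ_of_forall fun v => ?_
      rcases (hker v.1).1 v.2 with h | h
      · exact Or.inl (Subtype.ext h)
      · exact Or.inr (Subtype.ext h)
    rw [hk] at h
    omega
  set V0 := K.subgroupOf T with hV0
  have hrle : φ.range ≤ V0 := by
    rintro _ ⟨v, rfl⟩
    rw [mem_subgroupOf, MonoidHom.mem_ker]
    show τ (s * (v : C) * s⁻¹ * v) = 1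
    rw [map_mul, map_mul, map_mul, map_inv, mul_comm (τ s), mul_inv_cancel_right, ← map_mul]
    rw [show (v : C) * v = 1 by rw [← sq]; exact hel v v.2, map_one]
  have hV0card : Nat.card V0 = 4 := by
    refine le_antisymm ?_ (hrange ▸ card_le_of_le hrle)
    have hdvd : Nat.card V0 ∣ 2 ^ 3 := by
      rw [show (2 : ℕ) ^ 3 = Nat.card T by rw [hcard]; norm_num]; exact card_subgroup_dvd_card _
    obtain ⟨i, hi, hiv⟩ := (Nat.dvd_prime_pow Nat.prime_two).1 hdvd
    by_contra hlt
    have h8 : Nat.card V0 = Nat.card T := by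
      rw [hcard, hiv]
      rw [hiv] at hlt
      interval_cases i <;> omega
    have h := eq_top_of_card_eq V0 h8
    exact heK (show (⟨e, he⟩ : T) ∈ V0 from h ▸ mem_top _)
  have hrangeV : φ.range = V0 := eq_of_le_of_card_ge hrle (by rw [hrange, hV0card])
  -- every element of the Sylow subgroup
  have hTsplit : ∀ v ∈ T, v ∈ K ∨ e * v ∈ K := by
    intro v hv
    have hidx : V0.index = 2 := by
      have h := V0.card_mul_index
      rw [hV0card, hcard] at h
      omega
    by_cases h : v ∈ K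
    · exact Or.inl h
    · right
      have := (Subgroup.mul_mem_iff_of_index_two hidx (a := (⟨e, he⟩ : T)) (b := ⟨v, hv⟩)).2
        ⟨fun h' => absurd h' heK, fun h' => absurd h' h⟩
      exact this
  have hsplit : ∀ c : C, c ∈ K ∨ e * c ∈ K := by
    intro c
    obtain ⟨a, b, hab, -, -, ⟨j, hj⟩, hb⟩ := Fusion.exists_mul_eq_pPart (p := 2) c
    obtain ⟨i, -, hi⟩ := (Nat.dvd_prime_pow Nat.prime_two).1 hj
    obtain ⟨R, hR⟩ := (IsPGroup.of_card (G := zpowers a) (n := i)
      (by rw [Nat.card_zpowers, hi])).exists_le_sylow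
    obtain ⟨d, hd⟩ := MulAction.exists_smul_eq C R Q
    have hda : d * a * d⁻¹ ∈ T := by
      rw [hT, ← hd, Sylow.coe_subgroup_smul]
      exact ⟨a, hR (mem_zpowers a), rfl⟩
    have hbK : b ∈ K := hodd b ((Nat.prime_two.coprime_iff_not_dvd).1 hb.symm)
    rw [hab]
    rcases hTsplit _ hda with h | h
    · refine Or.inl (mul_mem ?_ hbK)
      have := ‹K.Normal›.conj_mem _ h d⁻¹
      simpa [mul_assoc] using this
    · refine Or.inr ?_
      rw [← mul_assoc]
      refine mul_mem ?_ hbK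
      have := ‹K.Normal›.conj_mem _ h d⁻¹
      rw [show d⁻¹ * (e * (d * a * d⁻¹)) * d⁻¹⁻¹ = (d⁻¹ * e * d) * a by group,
        show d⁻¹ * e * d = e by rw [mul_assoc, hec, inv_mul_cancel_left]] at this
      exact this
  set V : Sylow 2 K := (Q.isPGroup'.comap_subtype (K := K)).toSylow
    (H41.not_dvd_relIndex_sylow Q K) with hV
  have hVmem : ∀ v : K, v ∈ (V : Subgroup K) ↔ (v : C) ∈ T := fun v => Iff.rfl
  have hVcard : Nat.card (V : Subgroup K) = 4 := by
    rw [← hV0card]
    exact Nat.card_congr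
      { toFun := fun v => ⟨⟨((v : K) : C), v.2⟩, (v : K).2⟩
        invFun := fun v => ⟨⟨((v : T) : C), v.2⟩, (v : T).2⟩
        left_inv := fun v => rfl
        right_inv := fun v => rfl }
  have hVexp : ∀ v : (V : Subgroup K), v ^ 2 = 1 := fun v =>
    Subtype.ext (Subtype.ext (hel _ v.2))
  haveI : Nontrivial (V : Subgroup K) := Finite.one_lt_card_iff_nontrivial.1 (by omega)
  have hklein : IsKleinFour (V : Subgroup K) := ⟨hVcard, by
    refine (Nat.dvd_prime Nat.prime_two).1 (Monoid.exponent_dvd_of_forall_pow_eq_one hVexp) |>.resolve_left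
      fun h => ?_
    exact not_subsingleton _ (Monoid.exp_eq_one_iff.1 h)⟩
  refine ⟨K, V, heK, hsplit, hodd, hklein, fun a b ha hb => ?_⟩
  haveI := hklein
  haveI : Fintype (V : Subgroup K) := Fintype.ofFinite _
  set s' : K := ⟨s, hsK⟩
  have hact : ∀ v ∈ (V : Subgroup K), s' * v * s'⁻¹ ∈ (V : Subgroup K) := fun v hv =>
    (mem_normalizer_iff.1 hs (v : C)).1 hv
  have hfree : ∀ v ∈ (V : Subgroup K), s' * v * s'⁻¹ = v → v = 1 := fun v hv h => by
    rcases hsfix (v : C) hv (congrArg Subtype.val h) with e1 | e1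
    · exact Subtype.ext e1
    · exact absurd (e1 ▸ v.2) heK
  have hreach : ∀ v ∈ (V : Subgroup K), v ≠ 1 → ∀ v' ∈ (V : Subgroup K), v' ≠ 1 → IsConj v v' := by
    intro v hv hv1 v' hv' hv1'
    set v₁ := s' * v * s'⁻¹
    set v₂ := s' * v₁ * s'⁻¹
    have h1 : v₁ ∈ (V : Subgroup K) := hact v hv
    have h11 : v₁ ≠ 1 := fun h => hv1 (conj_eq_one_iff.1 h)
    have h12 : v₁ ≠ v := fun h => hv1 (hfree v hv h)
    have h2 : v₂ ∈ (V : Subgroup K) := hact v₁ h1
    have h21 : v₂ ≠ 1 := fun h => h11 (conj_eq_one_iff.1 h)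
    have h22 : v₂ ≠ v₁ := fun h => h11 (hfree v₁ h1 h)
    have h23 : v₂ ≠ v := by
      intro h
      -- the square of `s'` fixes `v`, hence so does `s'`
      obtain ⟨j, hj⟩ := hsodd
      have hsp : s' ^ (2 * j + 1) = 1 := Subtype.ext (by rw [← hj]; exact pow_orderOf_eq_one s)
      have hc : Commute (s' ^ 2) v := by
        refine mul_inv_eq_iff_eq_mul.1 ?_
        calc s' ^ 2 * v * (s' ^ 2)⁻¹ = v₂ := by simp only [v₁, v₂, sq]; group
          _ = v := h
      have hs2 : (s' ^ 2) ^ (j + 1) = s' := by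
        rw [← pow_mul, show 2 * (j + 1) = 2 * j + 1 + 1 by ring, pow_succ, hsp, one_mul]
      exact h12 (mul_inv_eq_iff_eq_mul.2 (hs2 ▸ hc.pow_left (j + 1)).eq)
    have hu := IsKleinFour.eq_finset_univ (x := (⟨v, hv⟩ : (V : Subgroup K))) (y := ⟨v₁, h1⟩)
      (fun h => hv1 (congrArg Subtype.val h)) (fun h => h11 (congrArg Subtype.val h))
      (fun h => h12 (congrArg Subtype.val h).symm)
    have key : ∀ u : K, u ∈ (V : Subgroup K) → u = 1 ∨ u = v ∨ u = v₁ ∨ u = v * v₁ := by
      intro u hu'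
      have hm := hu ▸ Finset.mem_univ (⟨u, hu'⟩ : (V : Subgroup K))
      simp only [Finset.mem_insert, Finset.mem_singleton] at hm
      rcases hm with h | h | h | h
      · exact Or.inr (Or.inr (Or.inr (congrArg Subtype.val h)))
      · exact Or.inr (Or.inl (congrArg Subtype.val h))
      · exact Or.inr (Or.inr (Or.inl (congrArg Subtype.val h)))
      · exact Or.inl (congrArg Subtype.val h)
    rcases key v₂ h2 with h | h | h | h
    · exact absurd h h21
    · exact absurd h h23
    · exact absurd h h22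
    rcases key v' hv' with h' | h' | h' | h'
    · exact absurd h' hv1'
    · exact h' ▸ IsConj.refl _
    · exact h' ▸ isConj_iff.2 ⟨s', rfl⟩
    · exact isConj_iff.2 ⟨s' * s', by rw [h', ← h]; simp only [v₁, v₂]; group⟩
  have hinto : ∀ t : K, orderOf t = 2 → ∃ v ∈ (V : Subgroup K), v ≠ 1 ∧ IsConj t v := by
    intro t ht
    obtain ⟨R, hR⟩ := (IsPGroup.of_card (G := zpowers t) (n := 1)
      (by rw [Nat.card_zpowers, ht, pow_one])).exists_le_sylow
    obtain ⟨d, hd⟩ := MulAction.exists_smul_eq K R V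
    refine ⟨d * t * d⁻¹, ?_, fun h => ?_, isConj_iff.2 ⟨d, rfl⟩⟩
    · rw [← hd, Sylow.coe_subgroup_smul]
      exact ⟨t, hR (mem_zpowers t), rfl⟩
    · rw [conj_eq_one_iff.1 h, orderOf_one] at ht; omega
  obtain ⟨v, hv, hv1, hav⟩ := hinto a ha
  obtain ⟨v', hv', hv1', hbv⟩ := hinto b hb
  exact hav.trans ((hreach v hv hv1 v' hv' hv1').trans hbv.symm)

end Cfsg.Agent.H82.ConstDiff
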